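import Groth.Agent.Lib.SchDom.GoodAtLimit
import Groth.Agent.Lib.FlatH4.FlatLocusFP
import Groth.Agent.Lib.SchBasic.Basic

/-!
# Flatness of modules along limits of schemes
-/

universe u

open AlgebraicGeometry CategoryTheory Limits

namespace Groth.Agent.SchDom

/-- Flatness at a point only depends on the isomorphism class. -/
theorem isFlatOverAt_of_iso {X S : Scheme.{u}} (f : X ⟶ S) {M N : X.Modules} (e : M ≅ N) (x : X)
    (h : FlatMod.IsFlatOverAt f M x) : FlatMod.IsFlatOverAt f N x := by
  letI := FlatMod.moduleStalkOver f M x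
  letI := FlatMod.moduleStalkOver f N x
  haveI : Module.Flat (S.presheaf.stalk (f x)) (M.presheaf.stalk x : Type u) := h
  let e' : (M.presheaf.stalk x : Type u) ≃ₗ[S.presheaf.stalk (f x)] (N.presheaf.stalk x : Type u) :=
    { toFun := Algz.stalkMapₗ e.hom x
      invFun := Algz.stalkMapₗ e.inv x
      map_add' := map_add _
      map_smul' := fun r m => (Algz.stalkMapₗ e.hom x).map_smul (f.stalkMap x r) m
      left_inv := fun m => by
        show (M1.stalkAb x).map e.inv ((M1.stalkAb x).map e.hom m) = m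
        rw [← ConcreteCategory.comp_apply, ← Functor.map_comp, e.hom_inv_id, CategoryTheory.Functor.map_id]
        rfl
      right_inv := fun m => by
        show (M1.stalkAb x).map e.hom ((M1.stalkAb x).map e.inv m) = m
        rw [← ConcreteCategory.comp_apply, ← Functor.map_comp, e.inv_hom_id, CategoryTheory.Functor.map_id]
        rfl }
  exact Module.Flat.of_linearEquiv e'.symm

/-- The zero module is of finite presentation. -/
theorem isFP_of_isZero {X : Scheme.{u}} {M : X.Modules} (h : IsZero M) : CohB1.IsFP M :=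
  M1.isFP_of_finitePresentation_sections (M1.isQCoh_isZero h) fun U _ => by
    haveI : Subsingleton Γ(M, U) := ⟨fun a b => by
      have h0 : (𝟙 M : M ⟶ M).app U = (0 : M ⟶ M).app U := by rw [h.eq_of_src (𝟙 M) 0]
      have ha := ConcreteCategory.congr_hom h0 a
      have hb := ConcreteCategory.congr_hom h0 b
      simp at ha hb
      rw [ha, hb]⟩
    exact Module.finitePresentation_of_surjective (0 : (Fin 0 → Γ(X, U)) →ₗ[Γ(X, U)] Γ(M, U))
      (fun m => ⟨0, Subsingleton.elim _ _⟩) (by
        rw [show LinearMap.ker (0 : (Fin 0 → Γ(X, U)) →ₗ[Γ(X, U)] Γ(M, U)) = ⊥ from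
          Submodule.ext fun v => by simp [Subsingleton.elim v 0]]
        exact Submodule.fg_bot)

/-- For a zero source, being good is flatness. -/
theorem good_iff_of_isZero {X₀ : Scheme.{u}} {Z F₀ : X₀.Modules} (hZ : IsZero Z) (h₀ : Z ⟶ F₀)
    {X Y : Scheme.{u}} (qX : X ⟶ X₀) (f : X ⟶ Y) (x : X) :
    Good h₀ qX f x ↔ FlatMod.IsFlatOverAt f ((Scheme.Modules.pullback qX).obj F₀) x := by
  let u := (Scheme.Modules.pullback qX).map h₀
  have hZ' : IsZero ((Scheme.Modules.pullback qX).obj Z) := (Scheme.Modules.pullback qX).map_isZero hZ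
  have hu : u = 0 := hZ'.eq_of_src _ _
  have hinj : Function.Injective ((TopCat.Presheaf.stalkFunctor Ab x).map (Scheme.Modules.Hom.mapPresheaf u)) :=
    haveI : Subsingleton ((M1.stalkAb x).obj ((Scheme.Modules.pullback qX).obj Z)) :=
      AddCommGrpCat.subsingleton_of_isZero ((M1.stalkAb x).map_isZero hZ')
    fun a b _ => Subsingleton.elim (α := (M1.stalkAb x).obj ((Scheme.Modules.pullback qX).obj Z)) a b
  let e : cokernel u ≅ (Scheme.Modules.pullback qX).obj F₀ :=
    cokernelIsoOfEq hu ≪≫ cokernelZeroIsoTarget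
  exact ⟨fun h => isFlatOverAt_of_iso f e x h.2, fun h => ⟨hinj, isFlatOverAt_of_iso f e.symm x h⟩⟩

end Groth.Agent.SchDom
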