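import Groth.Agent.Lib.SchDom.PolyNZD
import Groth.Agent.Lib.FlatH4.FlatDescentAux
import Mathlib.RingTheory.Ideal.AssociatedPrime.Finiteness
import Mathlib.RingTheory.Regular.IsSMulRegular
import Mathlib.RingTheory.IsTensorProduct
import Mathlib.RingTheory.FinitePresentation

/-!
# Fibrewise density implies universal density for flat finitely presented modules
-/

universe u

namespace Groth.Agent.SchDom

open TensorProduct

/-- An element which is a non-zero-divisor on the fibre under `r` is a non-zero-divisor at `r`, for flat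
finitely presented modules over finitely presented algebras. -/
theorem eq_zero_of_fibre_nzd {A B M : Type u} [CommRing A] [CommRing B] [Algebra A B]
    [Algebra.FinitePresentation A B] [AddCommGroup M] [Module A M] [Module B M] [IsScalarTower A B M]
    [Module.FinitePresentation B M] [Module.Flat A M] (r : Ideal B) [r.IsPrime] (h : B)
    (hnzd : ∀ z : M, ∀ t ∉ r, t • h • z ∈ r.comap (algebraMap A B) • (⊤ : Submodule A M) →
      ∃ t' ∉ r, t' • z ∈ r.comap (algebraMap A B) • (⊤ : Submodule A M))
    (y : M) (t : B) (ht : t ∉ r) (hy : t • h • y = 0) : ∃ t' ∉ r, t' • y = 0 := by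
  obtain ⟨n, φ, hφ, hkerφ⟩ := Algebra.FinitePresentation.out (R := A) (A := B)
  let P := MvPolynomial (Fin n) A
  letI : Algebra P B := φ.toRingHom.toAlgebra
  letI : Module P M := Module.compHom M φ.toRingHom
  haveI : IsScalarTower P B M := IsScalarTower.of_algebraMap_smul fun _ _ => rfl
  haveI : IsScalarTower A P M := IsScalarTower.of_algebraMap_smul fun c x => by
    show φ (algebraMap A P c) • x = c • x
    rw [AlgHom.commutes, algebraMap_smul]
  haveI : Module.FinitePresentation P B :=
    Module.finitePresentation_of_surjective (Algebra.linearMap P B) hφ (by exact hkerφ)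
  haveI : Module.FinitePresentation P M := Module.FinitePresentation.trans P M B
  obtain ⟨m, ρ, hρ⟩ := Module.Finite.exists_fin' P M
  let K := LinearMap.ker ρ
  haveI : Module.Flat A ((Fin m → P) ⧸ K) :=
    Module.Flat.of_linearEquiv ((ρ.quotKerEquivOfSurjective hρ).restrictScalars A)
  let r₀ : Ideal P := r.comap φ.toRingHom
  let p := r.comap (algebraMap A B)
  have hp : r₀.comap (algebraMap A P) = p := by
    ext a
    show φ (algebraMap A P a) ∈ r ↔ _
    rw [AlgHom.commutes]; rfl
  have hmem : ∀ x : Fin m → P, x ∈ K ⊔ p.map (algebraMap A P) • ⊤ ↔ ρ x ∈ p • (⊤ : Submodule A M) := by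
    intro x
    constructor
    · intro hx
      obtain ⟨k, hk, e, he, rfl⟩ := Submodule.mem_sup.1 hx
      rw [map_add, LinearMap.mem_ker.1 hk, zero_add]
      refine Submodule.smul_induction_on (p := fun v => ρ v ∈ p • (⊤ : Submodule A M)) he
        (fun c hc v _ => ?_) fun a b ha hb => by rw [map_add]; exact add_mem ha hb
      show ρ (c • v) ∈ p • (⊤ : Submodule A M)
      rw [map_smul]
      refine Submodule.span_induction (p := fun c _ => c • ρ v ∈ p • (⊤ : Submodule A M)) ?_ ?_ ?_ ?_ hc
      · rintro _ ⟨a, ha, rfl⟩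
        rw [algebraMap_smul]
        exact Submodule.smul_mem_smul ha trivial
      · simp
      · intro c d _ _ hc hd; rw [add_smul]; exact add_mem hc hd
      · intro q c _ hc
        rw [smul_eq_mul, mul_smul]
        exact (Submodule.map_smul'' p (⊤ : Submodule A M)
          ((LinearMap.lsmul P M q).restrictScalars A)).trans_le
          (Submodule.smul_mono le_rfl le_top) (Submodule.mem_map_of_mem hc)
    · intro hx
      have h1 : ρ x ∈ (p • (⊤ : Submodule A (Fin m → P))).map (ρ.restrictScalars A) := by
        rw [Submodule.map_smul'', Submodule.map_top, LinearMap.range_eq_top.2 (by exact hρ)]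
        exact hx
      obtain ⟨v, hv, hvx⟩ := h1
      have h2 : v ∈ p.map (algebraMap A P) • (⊤ : Submodule P (Fin m → P)) :=
        Submodule.smul_induction_on hv (fun a ha w _ => by
          rw [← algebraMap_smul P a w]
          exact Submodule.smul_mem_smul (Ideal.mem_map_of_mem _ ha) trivial) fun _ _ => add_mem
      have h3 : x - v ∈ K := by
        rw [LinearMap.mem_ker, map_sub, show ρ v = ρ x from hvx, sub_self]
      have := add_mem (Submodule.mem_sup_left h3 : _ ∈ K ⊔ p.map (algebraMap A P) • ⊤)
        (Submodule.mem_sup_right h2)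
      rwa [sub_add_cancel] at this
  obtain ⟨h₀, rfl⟩ := hφ h
  obtain ⟨t₀, rfl⟩ := hφ t
  obtain ⟨y₀, rfl⟩ := hρ y
  obtain ⟨s, hs, hsy⟩ := eq_zero_of_fibre_nzd_poly K (Module.FinitePresentation.fg_ker ρ hρ) r₀ h₀
    (fun z s hs hz => by
      rw [hp] at hz ⊢
      rw [hmem, map_smul, map_smul] at hz
      obtain ⟨s', hs', hz'⟩ := hnzd (ρ z) (φ s) hs hz
      obtain ⟨s₁, rfl⟩ := hφ s'
      refine ⟨s₁, hs', ?_⟩
      rw [hmem, map_smul]
      exact hz')
    y₀ t₀ ht (by rw [LinearMap.mem_ker, map_smul, map_smul]; exact hy)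
  refine ⟨φ s, hs, ?_⟩
  have := LinearMap.mem_ker.1 hsy
  rwa [map_smul] at this

/-- Denominators in the fibre at a prime. -/
theorem exists_smul_mem_of_one_tmul_eq_zero {A M : Type u} [CommRing A] [AddCommGroup M] [Module A M]
    (p : Ideal A) [p.IsPrime] (x : M) (hx : (1 : p.ResidueField) ⊗ₜ[A] x = 0) :
    ∃ a ∉ p, a • x ∈ p • (⊤ : Submodule A M) := by
  have heq : Algebra.algebraMapSubmonoid (A ⧸ p) p.primeCompl = nonZeroDivisors (A ⧸ p) := by
    ext y
    rw [mem_nonZeroDivisors_iff_ne_zero]
    constructor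
    · rintro ⟨a, ha, rfl⟩ h0
      exact ha (Ideal.Quotient.eq_zero_iff_mem.1 h0)
    · intro hy
      obtain ⟨a, rfl⟩ := Ideal.Quotient.mk_surjective y
      exact ⟨a, fun ha => hy (Ideal.Quotient.eq_zero_iff_mem.2 ha), rfl⟩
  haveI : IsLocalization (Algebra.algebraMapSubmonoid (A ⧸ p) p.primeCompl) p.ResidueField := by
    rw [heq]; exact inferInstanceAs (IsFractionRing (A ⧸ p) p.ResidueField)
  haveI : IsLocalizedModule p.primeCompl (IsScalarTower.toAlgHom A (A ⧸ p) p.ResidueField).toLinearMap :=
    isLocalizedModule_iff_isLocalization.2 ‹_›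
  have h0 : (IsScalarTower.toAlgHom A (A ⧸ p) p.ResidueField).toLinearMap.rTensor M
      ((1 : A ⧸ p) ⊗ₜ[A] x) = 0 := by
    rw [LinearMap.rTensor_tmul, AlgHom.toLinearMap_apply, map_one]; exact hx
  obtain ⟨⟨a, ha⟩, hax⟩ := (IsLocalizedModule.eq_zero_iff p.primeCompl
    (AlgebraTensorModule.rTensor A M (IsScalarTower.toAlgHom A (A ⧸ p) p.ResidueField).toLinearMap)).1 h0
  refine ⟨a, ha, (FlatH4.one_tmul_eq_zero_iff p _).1 ?_⟩
  rw [tmul_smul]
  exact hax

variable {A B M : Type u} [CommRing A] [CommRing B] [Algebra A B] [AddCommGroup M] [Module A M]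
  [Module B M] [IsScalarTower A B M]

/-- No fibre has nonzero elements killed by powers of every element of `J`. -/
def FibDense (A M : Type u) [CommRing A] [Algebra A B] [AddCommGroup M] [Module A M] [Module B M]
    [IsScalarTower A B M] (J : Ideal B) : Prop :=
  ∀ (p : Ideal A) [p.IsPrime] (x : p.ResidueField ⊗[A] M),
    (∀ b ∈ J, ∃ l : ℕ, (Algebra.lsmul A A M (b ^ l)).lTensor p.ResidueField x = 0) → x = 0

/-- Prime avoidance: some element of `J` is a non-zero-divisor on the fibre. -/
theorem FibDense.exists_regular [Algebra.FiniteType A B] [Module.Finite B M] {J : Ideal B}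
    (hJ : FibDense A M J) (p : Ideal A) [p.IsPrime] :
    ∃ g ∈ J, Function.Injective ((Algebra.lsmul A A M g).lTensor p.ResidueField) := by
  classical
  let k := p.ResidueField
  letI := FlatH4.tensorModule A k B M
  haveI := FlatH4.tensorModule_finite A k B M
  haveI : IsNoetherianRing (k ⊗[A] B) := Algebra.FiniteType.isNoetherianRing k (k ⊗[A] B)
  let ι : B →+* k ⊗[A] B := (Algebra.TensorProduct.includeRight : B →ₐ[A] k ⊗[A] B).toRingHom
  have hact : ∀ (b : B) (x : k ⊗[A] M), ι b • x = (Algebra.lsmul A A M b).lTensor k x := by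
    intro b x
    induction x using TensorProduct.induction_on with
    | zero => simp
    | add x y hx hy => rw [smul_add, hx, hy, map_add]
    | tmul c m =>
      show FlatH4.tensorAct A k B M ((1 : k) ⊗ₜ b) (c ⊗ₜ m) = _
      rw [FlatH4.tensorAct_tmul, one_mul, LinearMap.lTensor_tmul]
      rfl
  have hfin : (associatedPrimes (k ⊗[A] B) (k ⊗[A] M)).Finite := associatedPrimes.finite _ _
  by_cases hcov : (J : Set B) ⊆ ⋃ P ∈ (hfin.toFinset : Set (Ideal (k ⊗[A] B))), (P.comap ι : Set B)
  · exfalso
    obtain ⟨P, hP, hJP⟩ := (Ideal.subset_union_prime (⊥ : Ideal (k ⊗[A] B)) ⊥ (fun (P : Ideal (k ⊗[A] B)) hP _ _ =>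
      haveI : P.IsPrime := IsAssociatedPrime.isPrime (hfin.mem_toFinset.1 hP)
      inferInstance)).1 hcov
    have hP' := hfin.mem_toFinset.1 hP
    rw [AssociatedPrimes.mem_iff, isAssociatedPrime_iff] at hP'
    obtain ⟨hprime, x, hPx⟩ := hP'
    have hx : x = 0 := hJ p x fun b hb => by
      refine ⟨1, ?_⟩
      rw [pow_one, ← hact]
      have : ι b ∈ P := hJP hb
      rw [hPx] at this
      simpa using this
    apply hprime.ne_top
    rw [hPx, hx]
    ext c
    simp
  · obtain ⟨g, hgJ, hg⟩ := Set.not_subset.1 hcov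
    refine ⟨g, hgJ, ?_⟩
    have hreg : IsSMulRegular (k ⊗[A] M) (ι g) := by
      by_contra hno
      have hmem : ι g ∈ ({c | IsSMulRegular (k ⊗[A] M) c}ᶜ : Set (k ⊗[A] B)) := hno
      rw [← biUnion_associatedPrimes_eq_compl_regular] at hmem
      obtain ⟨P, hP, hgP⟩ := Set.mem_iUnion₂.1 hmem
      exact hg (Set.mem_iUnion₂.2 ⟨P, hfin.mem_toFinset.2 hP, hgP⟩)
    intro x y hxy
    exact hreg (by simpa only [hact] using hxy)

/-- Fibrewise density implies density after any base change. -/
theorem FibDense.exists_pow_smul_eq_zero [Algebra.FinitePresentation A B]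
    [Module.FinitePresentation B M] [Module.Flat A M] {J : Ideal B} (hJ : FibDense A M J)
    {A' B' : Type u} [CommRing A'] [Algebra A A'] [CommRing B'] [Algebra A B'] [Algebra A' B']
    [Algebra B B'] [IsScalarTower A A' B'] [IsScalarTower A B B'] [Algebra.IsPushout A A' B B']
    (h : B') (z : B' ⊗[B] M)
    (hz : ∀ b ∈ J, ∃ l : ℕ, (algebraMap B B' b * h) ^ l • z = 0) : ∃ l : ℕ, h ^ l • z = 0 := by
  haveI : SMulCommClass B A' B' := ⟨fun b a x => by
    rw [Algebra.smul_def b, Algebra.smul_def b, mul_smul_comm]⟩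
  let M' := B' ⊗[B] M
  haveI : IsScalarTower A' B' M' := IsScalarTower.of_algebraMap_smul fun a x => by
    induction x using TensorProduct.induction_on with
    | zero => simp
    | add x y hx hy => rw [smul_add, smul_add, hx, hy]
    | tmul c m => rw [smul_tmul', smul_tmul', algebraMap_smul]
  let e : M' ≃ₗ[A'] A' ⊗[A] M := Algebra.IsPushout.cancelBaseChange A A' B B' M
  haveI : Module.Flat A' M' := Module.Flat.of_linearEquiv e
  haveI : Algebra.FinitePresentation A' B' :=
    Algebra.FinitePresentation.equiv (Algebra.IsPushout.equiv A A' B B')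
  have he : ∀ (b : B) (w : M'), e (algebraMap B B' b • w) = (Algebra.lsmul A A M b).lTensor A' (e w) := by
    intro b w
    obtain ⟨v, rfl⟩ := e.symm.surjective w
    rw [LinearEquiv.apply_symm_apply]
    induction v using TensorProduct.induction_on with
    | zero => simp
    | add x y hx hy => simp only [map_add, smul_add, hx, hy]
    | tmul a m =>
      apply e.symm.injective
      rw [LinearEquiv.symm_apply_apply, LinearMap.lTensor_tmul,
        Algebra.IsPushout.cancelBaseChange_symm_tmul, Algebra.IsPushout.cancelBaseChange_symm_tmul]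
      show (algebraMap B B' b * algebraMap A' B' a) ⊗ₜ[B] m = algebraMap A' B' a ⊗ₜ[B] (b • m)
      rw [← smul_tmul, Algebra.smul_def]
  by_contra hno
  push Not at hno
  -- the annihilator saturated at `h`
  let a : Ideal B' :=
    { carrier := {c | ∃ l : ℕ, c • h ^ l • z = 0}
      zero_mem' := ⟨0, zero_smul _ _⟩
      add_mem' := by
        rintro c d ⟨l, hl⟩ ⟨l', hl'⟩
        refine ⟨l + l', ?_⟩
        have e1 : c • h ^ (l + l') • z = h ^ l' • c • h ^ l • z := by
          simp only [smul_smul]; congr 1; rw [pow_add]; ring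
        have e2 : d • h ^ (l + l') • z = h ^ l • d • h ^ l' • z := by
          simp only [smul_smul]; congr 1; rw [pow_add]; ring
        rw [add_smul, e1, e2, hl, hl', smul_zero, smul_zero, add_zero]
      smul_mem' := by
        rintro s c ⟨l, hl⟩
        exact ⟨l, by rw [smul_eq_mul, mul_smul, hl, smul_zero]⟩ }
  have hdisj : Disjoint (a : Set B') (Submonoid.powers h : Set B') := by
    rw [Set.disjoint_left]
    rintro _ ⟨l, hl⟩ ⟨i, rfl⟩
    exact hno (i + l) (by rw [pow_add, mul_smul]; exact hl)
  obtain ⟨r, hr, har, hrh⟩ := Ideal.exists_le_prime_disjoint a (Submonoid.powers h) hdisj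
  have hh : ∀ l : ℕ, h ^ l ∉ r := fun l hm => Set.disjoint_left.1 hrh hm ⟨l, rfl⟩
  let p' := r.comap (algebraMap A' B')
  let p := p'.comap (algebraMap A A')
  obtain ⟨g, hgJ, hg⟩ := hJ.exists_regular p
  -- injectivity on the larger fibre
  let K := p'.ResidueField
  let kK : p.ResidueField →+* K := Ideal.ResidueField.map p p' (algebraMap A A') rfl
  letI : Algebra p.ResidueField K := kK.toAlgebra
  haveI : IsScalarTower A p.ResidueField K := IsScalarTower.of_algebraMap_eq fun x => by
    show _ = kK (algebraMap A p.ResidueField x)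
    rw [Ideal.ResidueField.map_algebraMap, ← IsScalarTower.algebraMap_apply]
  have hgK : Function.Injective ((Algebra.lsmul A A M g).lTensor K) := by
    let c := AlgebraTensorModule.cancelBaseChange A p.ResidueField p.ResidueField K M
    have key : ∀ u, c (((AlgebraTensorModule.lTensor p.ResidueField p.ResidueField
        (Algebra.lsmul A A M g))).lTensor K u) = (Algebra.lsmul A A M g).lTensor K (c u) := by
      intro u
      induction u using TensorProduct.induction_on with
      | zero => simp
      | add x y hx hy => simp only [map_add, hx, hy]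
      | tmul x v =>
        induction v using TensorProduct.induction_on with
        | zero => simp
        | add v w hv hw => simp only [tmul_add, map_add, hv, hw]
        | tmul v m => simp [c]
    intro x y hxy
    obtain ⟨u, rfl⟩ := c.surjective x
    obtain ⟨v, rfl⟩ := c.surjective y
    rw [← key, ← key] at hxy
    exact congrArg c (Module.Flat.lTensor_preserves_injective_linearMap
      (AlgebraTensorModule.lTensor p.ResidueField p.ResidueField (Algebra.lsmul A A M g))
      hg (c.injective hxy))
  let g' : B' := algebraMap B B' g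
  have hnzd : ∀ w : M', ∀ t ∉ r, t • g' • w ∈ p' • (⊤ : Submodule A' M') →
      ∃ t' ∉ r, t' • w ∈ p' • (⊤ : Submodule A' M') := by
    intro w t ht hw
    rw [smul_comm] at hw
    let Φ : K ⊗[A'] M' ≃ₗ[K] K ⊗[A] M :=
      (AlgebraTensorModule.congr (LinearEquiv.refl K K) e).trans
        (AlgebraTensorModule.cancelBaseChange A A' K K M)
    have hΦ : ∀ u : M', Φ (1 ⊗ₜ[A'] (g' • u)) = (Algebra.lsmul A A M g).lTensor K (Φ (1 ⊗ₜ[A'] u)) := by
      intro u
      have hc : ∀ v : A' ⊗[A] M, AlgebraTensorModule.cancelBaseChange A A' K K M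
          (1 ⊗ₜ[A'] ((Algebra.lsmul A A M g).lTensor A' v)) = (Algebra.lsmul A A M g).lTensor K
            (AlgebraTensorModule.cancelBaseChange A A' K K M (1 ⊗ₜ[A'] v)) := by
        intro v
        induction v using TensorProduct.induction_on with
        | zero => simp
        | add x y hx hy => simp only [tmul_add, map_add, hx, hy]
        | tmul a m => simp
      simp only [Φ, LinearEquiv.trans_apply, AlgebraTensorModule.congr_tmul, LinearEquiv.refl_apply]
      rw [show e (g' • u) = (Algebra.lsmul A A M g).lTensor A' (e u) from he g u]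
      exact hc _
    have h1 : (1 : K) ⊗ₜ[A'] (g' • t • w) = 0 := by
      have := congrArg (LinearMap.rTensor M' (IsScalarTower.toAlgHom A' (A' ⧸ p') K).toLinearMap)
        ((FlatH4.one_tmul_eq_zero_iff p' _).2 hw)
      rwa [LinearMap.rTensor_tmul, AlgHom.toLinearMap_apply, map_one, map_zero] at this
    have h2 : (1 : K) ⊗ₜ[A'] (t • w) = 0 := by
      apply Φ.injective
      apply hgK
      rw [← hΦ, h1]; simp
    obtain ⟨c, hc, hcw⟩ := exists_smul_mem_of_one_tmul_eq_zero p' _ h2
    refine ⟨algebraMap A' B' c * t, fun hm => (hr.mem_or_mem hm).elim hc ht, ?_⟩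
    rwa [mul_smul, algebraMap_smul]
  obtain ⟨l, hl⟩ := hz g hgJ
  have key : ∀ (i : ℕ) (t : B'), t ∉ r → t • g' ^ i • z = 0 → ∃ t' ∉ r, t' • z = 0 := by
    intro i
    induction i with
    | zero => exact fun t ht h0 => ⟨t, ht, by simpa using h0⟩
    | succ i ih =>
      intro t ht h0
      rw [pow_succ', mul_smul] at h0
      obtain ⟨t', ht', h'⟩ := eq_zero_of_fibre_nzd (A := A') r g' hnzd _ t ht h0
      exact ih t' ht' h'
  obtain ⟨t, ht, htz⟩ := key l (h ^ l) (hh l) (by rw [← mul_smul, mul_comm, ← mul_pow]; exact hl)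
  exact ht (har ⟨0, by rwa [pow_zero, one_smul]⟩)

end Groth.Agent.SchDom
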