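import Groth.Agent.Lib.SchDom.PolyInj
import Groth.Agent.Lib.SchDom.FlatNZD

/-!
# Maps of finitely presented modules injective on fibres
-/

universe u

namespace Groth.Agent.SchDom

open TensorProduct

/-- Membership in `p M` through a presentation. -/
theorem mem_sup_map_smul_iff {A P M : Type u} [CommRing A] [CommRing P] [Algebra A P] [AddCommGroup M]
    [Module A M] [Module P M] [IsScalarTower A P M] {m : ℕ} (ρ : (Fin m → P) →ₗ[P] M)
    (hρ : Function.Surjective ρ) (p : Ideal A) (x : Fin m → P) :
    x ∈ LinearMap.ker ρ ⊔ p.map (algebraMap A P) • ⊤ ↔ ρ x ∈ p • (⊤ : Submodule A M) := by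
  constructor
  · intro hx
    obtain ⟨k, hk, e, he, rfl⟩ := Submodule.mem_sup.1 hx
    rw [map_add, LinearMap.mem_ker.1 hk, zero_add]
    refine Submodule.smul_induction_on (p := fun v => ρ v ∈ p • (⊤ : Submodule A M)) he
      (fun c hc v _ => ?_) fun a b ha hb => by rw [map_add]; exact add_mem ha hb
    show ρ (c • v) ∈ p • (⊤ : Submodule A M)
    rw [map_smul]
    refine Submodule.span_induction (p := fun c _ => c • ρ v ∈ p • (⊤ : Submodule A M)) ?_ ?_ ?_ ?_ hc
    · rintro _ ⟨a, ha, rfl⟩
      rw [algebraMap_smul]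
      exact Submodule.smul_mem_smul ha trivial
    · simp
    · intro c d _ _ hc hd; rw [add_smul]; exact add_mem hc hd
    · intro q c _ hc
      rw [smul_eq_mul, mul_smul]
      exact (Submodule.map_smul'' p (⊤ : Submodule A M)
        ((LinearMap.lsmul P M q).restrictScalars A)).trans_le
        (Submodule.smul_mono le_rfl le_top) (Submodule.mem_map_of_mem hc)
  · intro hx
    have h1 : ρ x ∈ (p • (⊤ : Submodule A (Fin m → P))).map (ρ.restrictScalars A) := by
      rw [Submodule.map_smul'', Submodule.map_top, LinearMap.range_eq_top.2 (by exact hρ)]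
      exact hx
    obtain ⟨v, hv, hvx⟩ := h1
    have h2 : v ∈ p.map (algebraMap A P) • (⊤ : Submodule P (Fin m → P)) :=
      Submodule.smul_induction_on hv (fun a ha w _ => by
        rw [← algebraMap_smul P a w]
        exact Submodule.smul_mem_smul (Ideal.mem_map_of_mem _ ha) trivial) fun _ _ => add_mem
    have h3 : x - v ∈ LinearMap.ker ρ := by
      rw [LinearMap.mem_ker, map_sub, show ρ v = ρ x from hvx, sub_self]
    have := add_mem (Submodule.mem_sup_left h3 : _ ∈ LinearMap.ker ρ ⊔ p.map (algebraMap A P) • ⊤)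
      (Submodule.mem_sup_right h2)
    rwa [sub_add_cancel] at this

/-- A map of finitely presented modules which is injective on the fibre under `r` is injective at `r` with
flat cokernel, for a flat target. -/
theorem injective_flat_coker_of_fibre {A B N M : Type u} [CommRing A] [CommRing B] [Algebra A B]
    [Algebra.FinitePresentation A B] [AddCommGroup M] [Module A M] [Module B M] [IsScalarTower A B M]
    [Module.FinitePresentation B M] [Module.Flat A M] [AddCommGroup N] [Module A N] [Module B N]
    [IsScalarTower A B N] [Module.FinitePresentation B N] (r : Ideal B) [r.IsPrime] (f : N →ₗ[B] M)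
    (hinj : ∀ z : N, ∀ t ∉ r, t • f z ∈ r.comap (algebraMap A B) • (⊤ : Submodule A M) →
      ∃ t' ∉ r, t' • z ∈ r.comap (algebraMap A B) • (⊤ : Submodule A N)) :
    (∀ (y : N) (t : B), t ∉ r → t • f y = 0 → ∃ t' ∉ r, t' • y = 0) ∧
      Module.Flat A (LocalizedModule r.primeCompl (M ⧸ LinearMap.range f)) := by
  obtain ⟨n, φ, hφ, hkerφ⟩ := Algebra.FinitePresentation.out (R := A) (A := B)
  let P := MvPolynomial (Fin n) A
  letI : Algebra P B := φ.toRingHom.toAlgebra
  letI : Module P M := Module.compHom M φ.toRingHom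
  letI : Module P N := Module.compHom N φ.toRingHom
  haveI : IsScalarTower P B M := IsScalarTower.of_algebraMap_smul fun _ _ => rfl
  haveI : IsScalarTower P B N := IsScalarTower.of_algebraMap_smul fun _ _ => rfl
  haveI : IsScalarTower A P M := IsScalarTower.of_algebraMap_smul fun c x => by
    show φ (algebraMap A P c) • x = c • x
    rw [AlgHom.commutes, algebraMap_smul]
  haveI : IsScalarTower A P N := IsScalarTower.of_algebraMap_smul fun c x => by
    show φ (algebraMap A P c) • x = c • x
    rw [AlgHom.commutes, algebraMap_smul]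
  haveI : Module.FinitePresentation P B :=
    Module.finitePresentation_of_surjective (Algebra.linearMap P B) hφ (by exact hkerφ)
  haveI : Module.FinitePresentation P M := Module.FinitePresentation.trans P M B
  haveI : Module.FinitePresentation P N := Module.FinitePresentation.trans P N B
  obtain ⟨m, ρ, hρ⟩ := Module.Finite.exists_fin' P M
  obtain ⟨b, σ, hσ⟩ := Module.Finite.exists_fin' P N
  obtain ⟨U, hU⟩ := Module.projective_lifting_property ρ ((f.restrictScalars P).comp σ) hρ
  have hU' : ∀ v, ρ (U v) = f (σ v) := fun v => LinearMap.congr_fun hU v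
  haveI : Module.Flat A ((Fin m → P) ⧸ LinearMap.ker ρ) :=
    Module.Flat.of_linearEquiv ((ρ.quotKerEquivOfSurjective hρ).restrictScalars A)
  let r₀ : Ideal P := r.comap φ.toRingHom
  have hp : r₀.comap (algebraMap A P) = r.comap (algebraMap A B) := by
    ext a
    show φ (algebraMap A P a) ∈ r ↔ _
    rw [AlgHom.commutes]; rfl
  have hpoly := injective_flat_coker_poly (LinearMap.ker ρ) (Module.FinitePresentation.fg_ker ρ hρ)
    (LinearMap.ker σ) (Module.FinitePresentation.fg_ker σ hσ) U
    (fun l hl => by rw [LinearMap.mem_ker, hU', LinearMap.mem_ker.1 hl, map_zero]) r₀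
    (fun z s hs hz => by
      rw [hp] at hz ⊢
      rw [mem_sup_map_smul_iff ρ hρ, map_smul, hU'] at hz
      obtain ⟨s', hs', hz'⟩ := hinj (σ z) (φ s) hs hz
      obtain ⟨s₁, rfl⟩ := hφ s'
      refine ⟨s₁, hs', ?_⟩
      rw [mem_sup_map_smul_iff σ hσ, map_smul]
      exact hz')
  refine ⟨fun y t ht hy => ?_, ?_⟩
  · obtain ⟨y₀, rfl⟩ := hσ y
    obtain ⟨t₀, rfl⟩ := hφ t
    obtain ⟨s, hs, hsy⟩ := (hpoly y₀ t₀).1 ht (by rw [LinearMap.mem_ker, map_smul, hU']; exact hy)
    refine ⟨φ s, hs, ?_⟩
    have := LinearMap.mem_ker.1 hsy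
    rwa [map_smul] at this
  · have h1 := (hpoly 0 0).2
    let π : (Fin m → P) →ₗ[P] M ⧸ LinearMap.range f :=
      ((LinearMap.range f).mkQ.restrictScalars P).comp ρ
    have hπ : Function.Surjective π := (LinearMap.range f).mkQ_surjective.comp hρ
    have hker : LinearMap.ker π = LinearMap.ker ρ ⊔ LinearMap.range U := by
      apply le_antisymm
      · intro x hx
        obtain ⟨z, hz⟩ := (Submodule.Quotient.mk_eq_zero _).1 (show Submodule.Quotient.mk (ρ x) = 0 from hx)
        obtain ⟨z₀, rfl⟩ := hσ z
        have h2 : x - U z₀ ∈ LinearMap.ker ρ := by rw [LinearMap.mem_ker, map_sub, hU', hz, sub_self]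
        have := add_mem (Submodule.mem_sup_left h2 : _ ∈ LinearMap.ker ρ ⊔ LinearMap.range U)
          (Submodule.mem_sup_right ⟨z₀, rfl⟩)
        rwa [sub_add_cancel] at this
      · refine sup_le (fun x hx => ?_) ?_
        · show Submodule.Quotient.mk (ρ x) = (0 : M ⧸ LinearMap.range f)
          rw [LinearMap.mem_ker.1 hx, Submodule.Quotient.mk_zero]
        · rintro _ ⟨v, rfl⟩
          show Submodule.Quotient.mk (ρ (U v)) = (0 : M ⧸ LinearMap.range f)
          exact (Submodule.Quotient.mk_eq_zero _).2 ⟨σ v, (hU' v).symm⟩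
    let e := (Submodule.quotEquivOfEq _ _ hker.symm).trans (π.quotKerEquivOfSurjective hπ)
    haveI : Module.Flat A (LocalizedModule (r.comap φ.toRingHom).primeCompl (M ⧸ LinearMap.range f)) :=
      (FlatH4.flat_localized_congr _ e).1 h1
    exact (FlatH4.flat_localized_comap_iff φ hφ r fun _ _ => rfl).1 ‹_›

end Groth.Agent.SchDom
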