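import Groth.Agent.Lib.FlatH4.GenFreeMain
import Groth.Agent.Lib.FlatH4.FlatDescentAux
import Groth.Agent.Lib.FppfSource.Ring
import Mathlib.RingTheory.Localization.BaseChange
import Mathlib.LinearAlgebra.DirectSum.Finsupp
import Mathlib.Algebra.Module.Torsion.Basic
import Mathlib.RingTheory.Flat.Stability

/-!
# Flat algebras of finite presentation preserve separating families

If a family of maps `N → P i` is injective after localizing at every element, then the family
`N ⊗ M → P i ⊗ M` is jointly injective for `M` flat of finite presentation.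
-/

universe u

namespace Groth.Agent.SchDom

open TensorProduct

section

variable {R : Type u} [CommRing R]

/-- The family is jointly injective after localizing at each element of `R`. -/
def Sep {N : Type u} [AddCommGroup N] [Module R N] {ι : Type u} {P : ι → Type u}
    [∀ i, AddCommGroup (P i)] [∀ i, Module R (P i)] (φ : ∀ i, N →ₗ[R] P i) : Prop :=
  ∀ (f : R) (n : N), (∀ i, ∃ k : ℕ, f ^ k • φ i n = 0) → ∃ k : ℕ, f ^ k • n = 0

variable {N : Type u} [AddCommGroup N] [Module R N] {ι : Type u} {P : ι → Type u}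
  [∀ i, AddCommGroup (P i)] [∀ i, Module R (P i)] {φ : ∀ i, N →ₗ[R] P i}

/-- Submodules inherit separation. -/
theorem Sep.comp (h : Sep φ) {N' : Type u} [AddCommGroup N'] [Module R N'] (g : N' →ₗ[R] N)
    (hg : Function.Injective g) : Sep fun i => (φ i).comp g := by
  intro f n hn
  obtain ⟨k, hk⟩ := h f (g n) hn
  exact ⟨k, hg (by rw [map_smul, hk, map_zero])⟩

/-- The localized quotient detects modules killed by `I` up to powers of `f`. -/
theorem exists_pow_smul_eq_zero_of_one_tmul (I : Ideal R) (f : R) {Y : Type u} [AddCommGroup Y]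
    [Module R Y] (hY : Module.IsTorsionBySet R Y (I : Set R)) (y : Y)
    (hy : (1 : Localization.Away (Ideal.Quotient.mk I f)) ⊗ₜ[R] y = 0) : ∃ k : ℕ, f ^ k • y = 0 := by
  let L := Localization.Away (Ideal.Quotient.mk I f)
  haveI : IsLocalization (Algebra.algebraMapSubmonoid (R ⧸ I) (Submonoid.powers f)) L := by
    rw [Algebra.algebraMapSubmonoid, Submonoid.map_powers]
    exact inferInstanceAs (IsLocalization.Away (Ideal.Quotient.mk I f) L)
  haveI : IsLocalizedModule (Submonoid.powers f) (IsScalarTower.toAlgHom R (R ⧸ I) L).toLinearMap :=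
    isLocalizedModule_iff_isLocalization.2 ‹_›
  have h0 : (IsScalarTower.toAlgHom R (R ⧸ I) L).toLinearMap.rTensor Y ((1 : R ⧸ I) ⊗ₜ[R] y) = 0 := by
    rw [LinearMap.rTensor_tmul, AlgHom.toLinearMap_apply, map_one]; exact hy
  obtain ⟨⟨_, k, rfl⟩, hk⟩ := (IsLocalizedModule.eq_zero_iff (Submonoid.powers f)
    (AlgebraTensorModule.rTensor R Y (IsScalarTower.toAlgHom R (R ⧸ I) L).toLinearMap)).1 h0
  refine ⟨k, ?_⟩
  have hbot : I • (⊤ : Submodule R Y) = ⊥ := le_bot_iff.1 (Submodule.smul_le.2 fun r hr x _ => by
    rw [Submodule.mem_bot]; exact @hY x ⟨r, hr⟩)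
  have hk' : f ^ k • ((1 : R ⧸ I) ⊗ₜ[R] y) = 0 := hk
  have := congrArg (quotTensorEquivQuotSMul Y I) hk'
  rw [← tmul_smul, map_zero, show (1 : R ⧸ I) = Ideal.Quotient.mk I 1 from rfl] at this
  rw [quotTensorEquivQuotSMul_mk_tmul, one_smul, Submodule.Quotient.mk_eq_zero, hbot,
    Submodule.mem_bot] at this
  exact this

/-- Every element of `(R/I)_f ⊗ Q` is a fraction. -/
theorem exists_pow_smul_eq_one_tmul (I : Ideal R) (f : R) {Q : Type u} [AddCommGroup Q] [Module R Q]
    (z : Localization.Away (Ideal.Quotient.mk I f) ⊗[R] Q) :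
    ∃ (k : ℕ) (q : Q), f ^ k • z = (1 : Localization.Away (Ideal.Quotient.mk I f)) ⊗ₜ[R] q := by
  let L := Localization.Away (Ideal.Quotient.mk I f)
  haveI : IsLocalization (Algebra.algebraMapSubmonoid (R ⧸ I) (Submonoid.powers f)) L := by
    rw [Algebra.algebraMapSubmonoid, Submonoid.map_powers]
    exact inferInstanceAs (IsLocalization.Away (Ideal.Quotient.mk I f) L)
  haveI : IsLocalizedModule (Submonoid.powers f) (IsScalarTower.toAlgHom R (R ⧸ I) L).toLinearMap :=
    isLocalizedModule_iff_isLocalization.2 ‹_›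
  obtain ⟨⟨d, ⟨_, k, rfl⟩⟩, hd⟩ := IsLocalizedModule.surj (Submonoid.powers f)
    (AlgebraTensorModule.rTensor R Q (IsScalarTower.toAlgHom R (R ⧸ I) L).toLinearMap) z
  obtain ⟨q, rfl⟩ : ∃ q : Q, (1 : R ⧸ I) ⊗ₜ[R] q = d := by
    clear hd
    induction d using TensorProduct.induction_on with
    | zero => exact ⟨0, tmul_zero _ _⟩
    | add a b ha hb =>
      obtain ⟨m, rfl⟩ := ha
      obtain ⟨n, rfl⟩ := hb
      exact ⟨m + n, tmul_add _ _ _⟩
    | tmul r q =>
      obtain ⟨a, rfl⟩ := Ideal.Quotient.mk_surjective r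
      refine ⟨a • q, ?_⟩
      rw [← smul_tmul]
      congr 1
      simp [Algebra.smul_def]
  exact ⟨k, q, by simpa [Submonoid.smul_def] using hd⟩

end

variable {R : Type u} [CommRing R] [IsNoetherianRing R]

omit [IsNoetherianRing R] in
/-- A free generic fibre over each prime stratum. -/
theorem exists_generic_free {S M : Type u} [CommRing S] [Algebra R S] [Algebra.FiniteType R S]
    [AddCommGroup M] [Module R M] [Module S M] [IsScalarTower R S M] [Module.Finite S M]
    [IsNoetherianRing R] (p : Ideal R) [p.IsPrime] :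
    ∃ f ∉ p, Module.Free (Localization.Away (Ideal.Quotient.mk p f))
      (Localization.Away (Ideal.Quotient.mk p f) ⊗[R] M) := by
  letI := FlatH4.tensorModule R (R ⧸ p) S M
  haveI := FlatH4.tensorModule_isScalarTower R (R ⧸ p) S M
  haveI := FlatH4.tensorModule_finite R (R ⧸ p) S M
  obtain ⟨f', hf', hfree, -⟩ := FlatH4.exists_free_and_fg_relations (R := R ⧸ p) (S := (R ⧸ p) ⊗[R] S)
    (M := (R ⧸ p) ⊗[R] M)
  obtain ⟨f, rfl⟩ := Ideal.Quotient.mk_surjective f'
  refine ⟨f, fun h => hf' (Ideal.Quotient.eq_zero_iff_mem.2 h), ?_⟩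
  let L := Localization.Away (Ideal.Quotient.mk p f)
  haveI := hfree L (IsLocalization.Away.algebraMap_isUnit (Ideal.Quotient.mk p f))
  exact Module.Free.of_equiv (AlgebraTensorModule.cancelBaseChange R (R ⧸ p) L L M)

/-- Separating families stay jointly injective after tensoring with a flat module of finite type
over a finite type algebra. -/
theorem eq_zero_of_sep {S M : Type u} [CommRing S] [Algebra R S] [Algebra.FiniteType R S]
    [AddCommGroup M] [Module R M] [Module S M] [IsScalarTower R S M] [Module.Finite S M]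
    [Module.Flat R M] (I : Ideal R) :
    ∀ {N : Type u} [AddCommGroup N] [Module R N], Module.IsTorsionBySet R N (I : Set R) →
      ∀ {ι : Type u} {P : ι → Type u} [∀ i, AddCommGroup (P i)] [∀ i, Module R (P i)]
        (φ : ∀ i, N →ₗ[R] P i), Sep φ →
        ∀ x : N ⊗[R] M, (∀ i, (φ i).rTensor M x = 0) → x = 0 := by
  induction I using WellFoundedGT.induction with
  | _ I ih =>
  intro N _ _ hN ι P _ _ φ hφ x hx
  by_cases htop : I = ⊤
  · have : Subsingleton N := subsingleton_of_forall_eq 0 fun n => by
      simpa using @hN n ⟨1, htop ▸ Submodule.mem_top⟩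
    exact Subsingleton.elim _ _
  -- the `a`-torsion part, killed by a larger ideal
  have step : ∀ a ∉ I, ∀ y : N ⊗[R] M, (∀ i, (φ i).rTensor M y = 0) → a • y = 0 → y = 0 := by
    intro a ha y hy hay
    let g : N →ₗ[R] N := LinearMap.lsmul R N a
    have hgy : g.rTensor M y = 0 := by
      rw [show g.rTensor M = LinearMap.lsmul R (N ⊗[R] M) a from TensorProduct.ext' fun n m => by
        simp [g, smul_tmul']]
      exact hay
    obtain ⟨w, rfl⟩ := (Module.Flat.rTensor_exact (M := M) (LinearMap.exact_subtype_ker_map g) y).1 hgy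
    have hN' : Module.IsTorsionBySet R (LinearMap.ker g) ((I ⊔ Ideal.span {a} : Ideal R) : Set R) := by
      rintro ⟨n, hn⟩ ⟨r, hr⟩
      obtain ⟨s, hs, t, ht, rfl⟩ := Submodule.mem_sup.1 hr
      obtain ⟨c, rfl⟩ := Ideal.mem_span_singleton'.1 ht
      apply Subtype.ext
      show (s + c * a) • n = 0
      rw [add_smul, @hN n ⟨s, hs⟩, mul_smul, show a • n = 0 from hn, smul_zero, add_zero]
    have hw : w = 0 := ih (I ⊔ Ideal.span {a}) (lt_of_le_of_ne le_sup_left fun h => ha (by
        rw [h]; exact Ideal.mem_sup_right (Ideal.mem_span_singleton_self a))) hN' _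
      (hφ.comp _ (LinearMap.ker g).injective_subtype) w fun i => by
        rw [LinearMap.rTensor_comp, LinearMap.comp_apply]; exact hy i
    rw [hw, map_zero]
  by_cases hI : I.IsPrime
  · obtain ⟨f, hf, hfree⟩ := exists_generic_free (S := S) (M := M) I
    let L := Localization.Away (Ideal.Quotient.mk I f)
    let J := Module.Free.ChooseBasisIndex L (L ⊗[R] M)
    let e : L ⊗[R] M ≃ₗ[R] J →₀ L :=
      (Module.Free.chooseBasis L (L ⊗[R] M)).repr.restrictScalars R
    classical
    -- coordinates on the generic stratum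
    let coord : ∀ {Q : Type u} [AddCommGroup Q] [Module R Q], Q ⊗[R] M →ₗ[R] J →₀ L ⊗[R] Q :=
      fun {Q} _ _ => (Finsupp.mapRange.linearMap (TensorProduct.comm R Q L).toLinearMap).comp
        ((finsuppRight R R Q L J).toLinearMap.comp (((e.toLinearMap.comp (TensorProduct.mk R L M 1)).lTensor Q)))
    -- everything happens inside the parts killed by `I`
    let P' : ∀ i, Submodule R (P i) := fun i => Submodule.torsionBySet R (P i) (I : Set R)
    let φ' : ∀ i, N →ₗ[R] P' i := fun i => (φ i).codRestrict (P' i) fun n => by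
      rw [Submodule.mem_torsionBySet_iff]
      intro r
      rw [← map_smul, @hN n r, map_zero]
    have hx' : ∀ i, (φ' i).rTensor M x = 0 := fun i => by
      apply Module.Flat.rTensor_preserves_injective_linearMap (M := M) _ (P' i).injective_subtype
      rw [← LinearMap.rTensor_comp_apply, map_zero]
      exact hx i
    have hP : ∀ i, Module.IsTorsionBySet R (P' i) (I : Set R) := fun i =>
      Submodule.torsionBySet_isTorsionBySet (R := R) (M := P i) _
    have hnat : ∀ i j, coord ((φ' i).rTensor M x) j = (φ' i).lTensor L (coord x j) := by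
      intro i j
      clear hx hx'
      induction x using TensorProduct.induction_on with
      | zero => simp
      | add a b ha hb => simp only [map_add, Finsupp.add_apply, ha, hb]
      | tmul n m => simp [coord, finsuppRight_apply_tmul_apply]
    have hzero : coord x = 0 := by
      ext j
      obtain ⟨k, n, hkn⟩ := exists_pow_smul_eq_one_tmul I f (coord x j)
      have hn : ∀ i, ∃ l : ℕ, f ^ l • φ i n = 0 := by
        intro i
        have h1 : (1 : L) ⊗ₜ[R] φ' i n = 0 := by
          rw [← LinearMap.lTensor_tmul, ← hkn, map_smul, ← hnat, hx' i, map_zero, Finsupp.zero_apply,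
            smul_zero]
        obtain ⟨l, hl⟩ := exists_pow_smul_eq_zero_of_one_tmul I f (hP i) _ h1
        exact ⟨l, congrArg Subtype.val hl⟩
      obtain ⟨l, hl⟩ := hφ f n hn
      have hu : IsUnit (algebraMap R L (f ^ (l + k))) := by
        rw [map_pow, IsScalarTower.algebraMap_apply R (R ⧸ I) L]
        exact (IsLocalization.Away.algebraMap_isUnit (Ideal.Quotient.mk I f)).pow _
      obtain ⟨u, hu'⟩ := hu
      have h2 : f ^ (l + k) • coord x j = 0 := by
        rw [pow_add, mul_smul, hkn, ← tmul_smul, hl, tmul_zero]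
      rw [← algebraMap_smul L, ← hu'] at h2
      rw [Finsupp.zero_apply]
      exact u.isUnit.smul_eq_zero.1 h2
    have hker : ∃ k : ℕ, f ^ k • x = 0 := by
      refine exists_pow_smul_eq_zero_of_one_tmul I f (fun y r => ?_) x ?_
      · induction y using TensorProduct.induction_on with
        | zero => exact smul_zero _
        | add a b ha hb => rw [smul_add, ha, hb, add_zero]
        | tmul n m => rw [smul_tmul', @hN n r, zero_tmul]
      · apply (TensorProduct.leftComm R L N M).injective
        rw [map_zero]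
        have h3 : ((e.toLinearMap.comp (TensorProduct.mk R L M 1)).lTensor N) x = 0 := by
          apply (finsuppRight R R N L J).injective
          apply Finsupp.mapRange_injective _ (map_zero _) (TensorProduct.comm R N L).injective
          simpa [coord] using hzero
        have h4 : ∀ y : N ⊗[R] M, e.toLinearMap.lTensor N (TensorProduct.leftComm R L N M (1 ⊗ₜ y)) =
            ((e.toLinearMap.comp (TensorProduct.mk R L M 1)).lTensor N) y := by
          intro y
          induction y using TensorProduct.induction_on with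
          | zero => simp
          | add a b ha hb => simp only [tmul_add, map_add, ha, hb]
          | tmul n m => simp
        exact (LinearEquiv.lTensor N e).injective ((h4 x).trans h3 |>.trans (map_zero _).symm)
    obtain ⟨k, hk⟩ := hker
    exact step (f ^ k) (fun h => hf (Ideal.IsPrime.mem_of_pow_mem hI k h)) x hx hk
  · rw [Ideal.isPrime_iff] at hI
    push Not at hI
    obtain ⟨a, b, hab, ha, hb⟩ := hI htop
    let ψ : N →ₗ[R] LinearMap.range (LinearMap.lsmul R N a) := (LinearMap.lsmul R N a).rangeRestrict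
    have hsub : (LinearMap.range (LinearMap.lsmul R N a)).subtype.rTensor M (ψ.rTensor M x) = a • x := by
      rw [← LinearMap.rTensor_comp_apply,
        show ((LinearMap.range (LinearMap.lsmul R N a)).subtype.comp ψ).rTensor M =
          LinearMap.lsmul R (N ⊗[R] M) a from TensorProduct.ext' fun n m => by simp [ψ, smul_tmul']]
      rfl
    have hkill : Module.IsTorsionBySet R (LinearMap.range (LinearMap.lsmul R N a))
        ((I ⊔ Ideal.span {b} : Ideal R) : Set R) := by
      rintro ⟨_, n, rfl⟩ ⟨r, hr⟩
      obtain ⟨s, hs, t, ht, rfl⟩ := Submodule.mem_sup.1 hr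
      obtain ⟨c, rfl⟩ := Ideal.mem_span_singleton'.1 ht
      apply Subtype.ext
      show (s + c * b) • a • n = 0
      rw [add_smul, @hN (a • n) ⟨s, hs⟩, zero_add, ← mul_smul, mul_assoc, mul_comm b a, mul_smul,
        @hN n ⟨a * b, hab⟩, smul_zero]
    have hy : ψ.rTensor M x = 0 := ih (I ⊔ Ideal.span {b}) (lt_of_le_of_ne le_sup_left fun h => hb (by
        rw [h]; exact Ideal.mem_sup_right (Ideal.mem_span_singleton_self b))) hkill _
      (hφ.comp _ (Submodule.injective_subtype _)) _ fun i => by
        rw [LinearMap.rTensor_comp, LinearMap.comp_apply, hsub, map_smul, hx i, smul_zero]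
    exact step a ha x hx (by rw [← hsub, hy, map_zero])

/-- A section of a flat finitely presented algebra vanishing on every member of a separating
family vanishes. -/
theorem eq_zero_of_flat_fp {A B : Type u} [CommRing A] [CommRing B] [Algebra A B]
    [Algebra.FinitePresentation A B] [Module.Flat A B] {ι : Type u} (C : ι → Type u)
    [∀ i, CommRing (C i)] [∀ i, Algebra A (C i)]
    (hsep : ∀ a n : A, (∀ i, ∃ k : ℕ, algebraMap A (C i) (a ^ k * n) = 0) → ∃ k : ℕ, a ^ k * n = 0)
    (s : B) (hs : ∀ i, (1 : C i) ⊗ₜ[A] s = 0) : s = 0 := by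
  obtain ⟨R, C₀, _, _, hR, hfp, hflat, ⟨e⟩⟩ := Groth.Agent.FppfSource.exists_flat_model ℤ A B
  haveI : IsNoetherianRing R := isNoetherianRing_of_fg hR
  let φ : ∀ i, A →ₗ[R] C i := fun i => (Algebra.linearMap A (C i)).restrictScalars R
  have hφ : Sep φ := by
    intro f n hn
    simp only [φ, LinearMap.restrictScalars_apply, Algebra.linearMap_apply] at hn
    obtain ⟨k, hk⟩ := hsep (algebraMap R A f) n fun i => by
      obtain ⟨k, hk⟩ := hn i
      refine ⟨k, ?_⟩
      rw [map_mul, ← map_pow, ← IsScalarTower.algebraMap_apply R A (C i), ← Algebra.smul_def]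
      exact hk
    exact ⟨k, by rw [Algebra.smul_def, map_pow]; exact hk⟩
  have h0 : e s = 0 := eq_zero_of_sep (S := C₀) (M := C₀) (⊥ : Ideal R)
    (fun n r => by simp [(Submodule.mem_bot R).1 r.2]) φ hφ (e s) fun i => by
      let Ψ : C i ⊗[A] B →ₗ[A] C i ⊗[R] C₀ :=
        (AlgebraTensorModule.cancelBaseChange R A A (C i) C₀).toLinearMap.comp
          (e.toLinearMap.lTensor (C i))
      have key : ∀ y : A ⊗[R] C₀, AlgebraTensorModule.cancelBaseChange R A A (C i) C₀ ((1 : C i) ⊗ₜ y) =
          (φ i).rTensor C₀ y := by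
        intro y
        induction y using TensorProduct.induction_on with
        | zero => simp
        | add a b ha hb => simp only [tmul_add, map_add, ha, hb]
        | tmul a c => simp [φ, Algebra.algebraMap_eq_smul_one]
      have h1 : Ψ ((1 : C i) ⊗ₜ[A] s) = 0 := by rw [hs i, map_zero]
      rw [← key]
      exact h1
  exact e.injective (h0.trans (map_zero e).symm)

end Groth.Agent.SchDom
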