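import Groth.Agent.Lib.SchDom.ModModel
import Groth.Agent.Lib.FlatH4.GenFreeMain
import Groth.Agent.Lib.FlatSyz.NilpFree
import Mathlib.RingTheory.Localization.Away.Basic

/-!
# Principal stratifications on which a flat module becomes free
-/

universe u

namespace Groth.Agent.SchDom

open TensorProduct FlatH4

/-- Freeness over the closed piece. -/
theorem free_quot_piece {C C₁ N : Type u} [CommRing C] [CommRing C₁] [Algebra C C₁] [AddCommGroup N] [Module C N]
    (P : Ideal C) (f : C) (hu : IsUnit (algebraMap C C₁ f))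
    (hfree : ∀ (R' : Type u) [CommRing R'] [Algebra (C ⧸ P) R'],
      IsUnit (algebraMap (C ⧸ P) R' (Ideal.Quotient.mk P f)) → Module.Free R' (R' ⊗[C ⧸ P] ((C ⧸ P) ⊗[C] N))) :
    Module.Free (C₁ ⧸ P.map (algebraMap C C₁)) ((C₁ ⧸ P.map (algebraMap C C₁)) ⊗[C₁] (C₁ ⊗[C] N)) := by
  let A₁ := C₁ ⧸ P.map (algebraMap C C₁)
  let ρ : C ⧸ P →+* A₁ := Ideal.Quotient.lift P (algebraMap C A₁) fun x hx => by
    rw [IsScalarTower.algebraMap_apply C C₁ A₁]
    exact Ideal.Quotient.eq_zero_iff_mem.2 (Ideal.mem_map_of_mem _ hx)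
  letI : Algebra (C ⧸ P) A₁ := ρ.toAlgebra
  haveI : IsScalarTower C (C ⧸ P) A₁ := IsScalarTower.of_algebraMap_eq fun _ => rfl
  have hf₁ : IsUnit (algebraMap (C ⧸ P) A₁ (Ideal.Quotient.mk P f)) := by
    show IsUnit (algebraMap C A₁ f)
    rw [IsScalarTower.algebraMap_apply C C₁ A₁]
    exact hu.map _
  haveI := hfree A₁ hf₁
  exact Module.Free.of_equiv ((AlgebraTensorModule.cancelBaseChange C (C ⧸ P) A₁ A₁ N).trans
    (AlgebraTensorModule.cancelBaseChange C C₁ A₁ A₁ N).symm)

variable {C S N : Type u} [CommRing C] [IsNoetherianRing C] [CommRing S] [Algebra C S]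
  [Algebra.FiniteType C S] [AddCommGroup N] [Module C N] [Module S N] [IsScalarTower C S N]
  [Module.Finite S N] [Module.Flat C N]

variable (S)

include S

/-- Free on a principal open piece of the closed subscheme cut out by `J`. -/
theorem exists_free_piece (J : Ideal C) (hJ : J ≠ ⊤) :
    ∃ a ∉ J.radical, ∀ (C' : Type u) [CommRing C'] [Algebra C C'], IsUnit (algebraMap C C' a) →
      J.map (algebraMap C C') = ⊥ → Module.Free C' (C' ⊗[C] N) := by
  classical
  obtain ⟨m, hm, hJm⟩ := Ideal.exists_le_maximal J hJ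
  obtain ⟨P, hP, -⟩ := Ideal.exists_minimalPrimes_le (I := J) (J := m) hJm
  haveI : P.IsPrime := hP.1.1
  -- an element in the other minimal primes
  let T := (Ideal.finite_minimalPrimes_of_isNoetherianRing C J).toFinset.erase P
  have hT : ∀ Q ∈ T, ∃ g ∈ Q, g ∉ P := by
    intro Q hQ
    obtain ⟨hne, hQ⟩ := Finset.mem_erase.1 hQ
    rw [Set.Finite.mem_toFinset] at hQ
    by_contra hc
    push Not at hc
    exact hne (le_antisymm hc (hP.2 hQ.1 hc))
  choose g hg hgP using hT
  let g₀ := ∏ Q : T, g Q Q.2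
  have hg₀ : g₀ ∉ P := fun h => by
    obtain ⟨Q, -, hQ⟩ := (Ideal.IsPrime.prod_mem_iff).1 h
    exact hgP Q Q.2 hQ
  -- generic freeness over `C / P`
  letI := tensorModule C (C ⧸ P) S N
  haveI := tensorModule_isScalarTower C (C ⧸ P) S N
  haveI := tensorModule_finite C (C ⧸ P) S N
  obtain ⟨f, hf0, hfree, -⟩ := exists_free_and_fg_relations (R := C ⧸ P) (S := (C ⧸ P) ⊗[C] S)
    (M := (C ⧸ P) ⊗[C] N)
  obtain ⟨f, rfl⟩ := Ideal.Quotient.mk_surjective f
  have hfP : f ∉ P := fun h => hf0 (Ideal.Quotient.eq_zero_iff_mem.2 h)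
  have haP : g₀ * f ∉ P := fun h => (Ideal.IsPrime.mem_or_mem ‹_› h).elim hg₀ hfP
  refine ⟨g₀ * f, fun h => haP ((Ideal.IsPrime.radical_le_iff ‹_›).2 hP.1.2 h), fun C' _ _ hu hJ' => ?_⟩
  let L := Localization.Away (g₀ * f)
  let C₁ := L ⧸ J.map (algebraMap C L)
  have huL : IsUnit (algebraMap C L (g₀ * f)) := IsLocalization.Away.algebraMap_isUnit _
  have hu₁ : IsUnit (algebraMap C C₁ (g₀ * f)) := by
    rw [IsScalarTower.algebraMap_apply C L C₁]
    exact huL.map _
  haveI : IsNoetherianRing L := IsLocalization.isNoetherianRing (Submonoid.powers (g₀ * f)) L inferInstance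
  -- `P` is nilpotent on the piece
  have hnil : P.map (algebraMap C C₁) ≤ nilradical C₁ := by
    rw [nilradical, Ideal.radical_eq_sInf, le_sInf_iff]
    rintro Q ⟨-, hQ⟩
    rw [Ideal.map_le_iff_le_comap]
    haveI : (Q.comap (algebraMap C C₁)).IsPrime := hQ.comap _
    have hJQ : J ≤ Q.comap (algebraMap C C₁) := fun x hx => by
      rw [Ideal.mem_comap, IsScalarTower.algebraMap_apply C L C₁, Ideal.Quotient.algebraMap_eq,
        Ideal.Quotient.eq_zero_iff_mem.2 (Ideal.mem_map_of_mem _ hx)]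
      exact zero_mem _
    obtain ⟨Q', hQ', hQQ⟩ := Ideal.exists_minimalPrimes_le hJQ
    rcases eq_or_ne Q' P with rfl | hne
    · exact hQQ
    · have hQT : Q' ∈ T := Finset.mem_erase.2 ⟨hne, (Set.Finite.mem_toFinset _).2 hQ'⟩
      have hmem : g₀ * f ∈ Q.comap (algebraMap C C₁) := Ideal.mul_mem_right _ _
        (Ideal.prod_mem _ (Finset.mem_univ (⟨Q', hQT⟩ : T)) (hQQ (hg Q' hQT)))
      exact absurd (Ideal.eq_top_of_isUnit_mem Q hmem hu₁) hQ.ne_top
  have hJnil : IsNilpotent (P.map (algebraMap C C₁)) := by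
    obtain ⟨k, hk⟩ := Ideal.exists_pow_le_of_le_radical_of_fg (I := P.map (algebraMap C C₁)) (J := ⊥) hnil
      (Ideal.FG.map (IsNoetherian.noetherian P : P.FG) _)
    exact ⟨k, le_bot_iff.1 hk⟩
  let M₁ := C₁ ⊗[C] N
  let A₁ := C₁ ⧸ P.map (algebraMap C C₁)
  have hfree₁ : Module.Free A₁ (A₁ ⊗[C₁] M₁) :=
    free_quot_piece P f (isUnit_of_mul_isUnit_right (by rw [map_mul] at hu₁; exact hu₁)) hfree
  haveI : Module.Free C₁ M₁ := FlatSyz.free_of_flat_family _ hJnil hfree₁ (fun _ : PUnit.{u + 1} => C₁)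
    (fun _ h => h PUnit.unit) fun _ => inferInstance
  -- map to `C'`
  let ρ' : C₁ →+* C' := Ideal.Quotient.lift (J.map (algebraMap C L))
    (IsLocalization.Away.lift (g₀ * f) hu) (fun x hx => by
      have h1 : (J.map (algebraMap C L)).map (IsLocalization.Away.lift (g₀ * f) hu) = ⊥ := by
        rw [Ideal.map_map, IsLocalization.Away.lift_comp, hJ']
      rw [← Ideal.mem_bot, ← h1]
      exact Ideal.mem_map_of_mem _ hx)
  letI : Algebra C₁ C' := ρ'.toAlgebra' fun _ _ => mul_comm _ _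
  haveI : IsScalarTower C C₁ C' := IsScalarTower.of_algebraMap_eq (R := C) (S := C₁) (A := C') fun x => by
    show _ = Ideal.Quotient.lift _ _ _ (Ideal.Quotient.mk _ (algebraMap C L x))
    rw [Ideal.Quotient.lift_mk, IsLocalization.Away.lift_eq]
  exact Module.Free.of_equiv (AlgebraTensorModule.cancelBaseChange C C₁ C' C' N)

/-- Principal stratification. -/
theorem exists_free_strata (J : Ideal C) :
    ∃ l : List C, J ⊔ Ideal.span {a | a ∈ l} = ⊤ ∧ ∀ (i : ℕ) (hi : i < l.length),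
      ∀ (C' : Type u) [CommRing C'] [Algebra C C'], IsUnit (algebraMap C C' l[i]) →
        (J ⊔ Ideal.span {a | a ∈ l.take i}).map (algebraMap C C') = ⊥ → Module.Free C' (C' ⊗[C] N) := by
  induction J using WellFoundedGT.induction with
  | _ J ih =>
    by_cases hJ : J = ⊤
    · exact ⟨[], by simp [hJ], fun i hi => absurd hi (Nat.not_lt_zero i)⟩
    obtain ⟨a, ha, hfree⟩ := exists_free_piece S (N := N) J hJ
    have hlt : J < J ⊔ Ideal.span {a} := left_lt_sup.2 fun h => ha (Ideal.le_radical (h (Ideal.mem_span_singleton_self a)))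
    obtain ⟨l, hl, hstr⟩ := ih _ hlt
    have hcons : ∀ l' : List C, J ⊔ Ideal.span {x | x ∈ a :: l'} = J ⊔ Ideal.span {a} ⊔ Ideal.span {x | x ∈ l'} := by
      intro l'
      rw [sup_assoc, ← Ideal.span_union]
      congr 2
      ext x
      simp
    refine ⟨a :: l, by rw [hcons, hl], fun i hi => ?_⟩
    cases i with
    | zero =>
      intro C' _ _ hu h0
      refine hfree C' hu ?_
      simpa using h0
    | succ i =>
      intro C' _ _ hu h0
      refine hstr i (by simpa using hi) C' (by simpa using hu) ?_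
      rw [List.take_succ_cons, hcons] at h0
      exact h0

end Groth.Agent.SchDom
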