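import Groth.Agent.Lib.FlatH4.ModFlatAt
import Groth.Agent.Lib.ModM1.Exact
import Groth.Prelude.Def_Algz2

/-!
# Stalks of cokernels in affine charts
-/

universe u

open AlgebraicGeometry CategoryTheory Limits

namespace Groth.Agent.SchDom

variable {X Y : Scheme.{u}} (f : X ⟶ Y) {F F' : X.Modules} [Coh.IsQCoh F] [Coh.IsQCoh F'] (u : F' ⟶ F)
  {V : Y.Opens} {W : X.Opens} (hV : IsAffineOpen V) (hW : IsAffineOpen W) (e : W ≤ f ⁻¹ᵁ V)

include hV hW in
/-- Flatness of the cokernel and injectivity on stalks, in an affine chart. -/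
theorem coker_stalk_iff (φ : Γ(F', W) →ₗ[Γ(X, W)] Γ(F, W)) (hφ : ∀ s, φ s = u.app W s) {x : X}
    (hxW : x ∈ W) :
    letI := (f.appLE V W e).hom.toAlgebra
    letI := FlatH4.secModuleOver f F V W e
    haveI : IsScalarTower Γ(Y, V) Γ(X, W) Γ(F, W) := IsScalarTower.of_algebraMap_smul fun _ _ => rfl
    (FlatMod.IsFlatOverAt f (cokernel u) x ↔ Module.Flat Γ(Y, V)
        (LocalizedModule (hW.primeIdealOf ⟨x, hxW⟩).asIdeal.primeCompl (Γ(F, W) ⧸ LinearMap.range φ))) ∧
      (Function.Injective ((TopCat.Presheaf.stalkFunctor Ab x).map (Scheme.Modules.Hom.mapPresheaf u)) ↔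
        ∀ y : Γ(F', W), ∀ t ∉ (hW.primeIdealOf ⟨x, hxW⟩).asIdeal, t • φ y = 0 →
          ∃ t' ∉ (hW.primeIdealOf ⟨x, hxW⟩).asIdeal, t' • y = 0) := by
  letI : Algebra Γ(Y, V) Γ(X, W) := (f.appLE V W e).hom.toAlgebra
  letI := FlatH4.secModuleOver f F V W e
  haveI : IsScalarTower Γ(Y, V) Γ(X, W) Γ(F, W) := IsScalarTower.of_algebraMap_smul fun _ _ => rfl
  let C := cokernel u
  let π : F ⟶ C := cokernel.π u
  let ux := Algz.stalkMapₗ u x
  let πx := Algz.stalkMapₗ π x
  let r := (hW.primeIdealOf ⟨x, hxW⟩).asIdeal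
  letI : Algebra Γ(X, W) (X.presheaf.stalk x) := X.presheaf.algebra_section_stalk ⟨x, hxW⟩
  letI : Algebra Γ(Y, V) (Y.presheaf.stalk (f x)) := Y.presheaf.algebra_section_stalk ⟨f x, e hxW⟩
  haveI : IsLocalization.AtPrime (Y.presheaf.stalk (f x)) (hV.primeIdealOf ⟨f x, e hxW⟩).asIdeal :=
    hV.isLocalization_stalk ⟨f x, e hxW⟩
  letI : Algebra Γ(Y, V) (X.presheaf.stalk x) :=
    ((algebraMap Γ(X, W) (X.presheaf.stalk x)).comp (algebraMap Γ(Y, V) Γ(X, W))).toAlgebra
  haveI : IsScalarTower Γ(Y, V) Γ(X, W) (X.presheaf.stalk x) := IsScalarTower.of_algebraMap_eq fun _ => rfl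
  have hgerm : ∀ a : Γ(Y, V), X.presheaf.germ W x hxW (f.appLE V W e a) =
      f.stalkMap x (Y.presheaf.germ V (f x) (e hxW) a) := fun a => by
    rw [Scheme.Hom.germ_stalkMap_apply]
    exact X.presheaf.germ_res_apply (homOfLE e) x hxW _
  letI := M1.stalkModule F hxW
  letI := M1.stalkModule F' hxW
  letI := M1.stalkModule C hxW
  letI : Module Γ(Y, V) (F.presheaf.stalk x : Type u) := Module.compHom _ (algebraMap Γ(Y, V) Γ(X, W))
  letI : Module Γ(Y, V) (F'.presheaf.stalk x : Type u) := Module.compHom _ (algebraMap Γ(Y, V) Γ(X, W))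
  letI : Module Γ(Y, V) (C.presheaf.stalk x : Type u) := Module.compHom _ (algebraMap Γ(Y, V) Γ(X, W))
  haveI : IsScalarTower Γ(Y, V) Γ(X, W) (F.presheaf.stalk x : Type u) :=
    IsScalarTower.of_algebraMap_smul fun _ _ => rfl
  haveI : IsScalarTower Γ(Y, V) Γ(X, W) (F'.presheaf.stalk x : Type u) :=
    IsScalarTower.of_algebraMap_smul fun _ _ => rfl
  haveI : IsScalarTower Γ(Y, V) Γ(X, W) (C.presheaf.stalk x : Type u) :=
    IsScalarTower.of_algebraMap_smul fun _ _ => rfl
  haveI : IsScalarTower Γ(Y, V) (X.presheaf.stalk x) (F.presheaf.stalk x : Type u) :=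
    IsScalarTower.of_algebraMap_smul fun _ _ => rfl
  haveI : IsScalarTower Γ(Y, V) (X.presheaf.stalk x) (F'.presheaf.stalk x : Type u) :=
    IsScalarTower.of_algebraMap_smul fun _ _ => rfl
  haveI : IsScalarTower Γ(Y, V) (X.presheaf.stalk x) (C.presheaf.stalk x : Type u) :=
    IsScalarTower.of_algebraMap_smul fun _ _ => rfl
  haveI := M1.isLocalizedModule_germ F hW hxW
  haveI := M1.isLocalizedModule_germ F' hW hxW
  let uB : (F'.presheaf.stalk x : Type u) →ₗ[Γ(X, W)] (F.presheaf.stalk x : Type u) :=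
    { toFun := ux, map_add' := map_add ux, map_smul' := fun c a => ux.map_smul _ a }
  let πB : (F.presheaf.stalk x : Type u) →ₗ[Γ(X, W)] (C.presheaf.stalk x : Type u) :=
    { toFun := πx, map_add' := map_add πx, map_smul' := fun c a => πx.map_smul _ a }
  have hnat : ∀ z, uB (M1.germₗ F' hxW z) = M1.germₗ F hxW (φ z) := fun z => by
    rw [hφ]
    exact M1.germ_naturality u W x hxW z
  -- the cokernel on stalks
  let Sc : ShortComplex X.Modules := ShortComplex.mk u π (cokernel.condition u)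
  have hexact : Function.Exact uB πB := by
    intro v
    constructor
    · intro hv
      obtain ⟨a, ha⟩ := (M1.exact_iff_stalk_eq_zero Sc).1 (ShortComplex.exact_cokernel u) x v hv
      exact ⟨a, ha⟩
    · rintro ⟨a, rfl⟩
      show (M1.stalkAb x).map Sc.g ((M1.stalkAb x).map Sc.f a) = 0
      rw [← ConcreteCategory.comp_apply, ← Functor.map_comp, Sc.zero, Functor.map_zero]; rfl
  have hπ : Function.Surjective πB := (M1.epi_iff_stalk Sc.g).1 (inferInstanceAs (Epi (cokernel.π u))) x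
  have hflatC : FlatMod.IsFlatOverAt f C x ↔ Module.Flat Γ(Y, V) (C.presheaf.stalk x : Type u) := by
    letI := FlatMod.moduleStalkOver f C x
    haveI : IsScalarTower Γ(Y, V) (Y.presheaf.stalk (f x)) (C.presheaf.stalk x : Type u) :=
      IsScalarTower.of_algebraMap_smul fun a v => by
        show f.stalkMap x (Y.presheaf.germ V (f x) (e hxW) a) • v = X.presheaf.germ W x hxW (f.appLE V W e a) • v
        rw [hgerm]
    exact Module.flat_iff_of_isLocalization (Y.presheaf.stalk (f x))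
      (hV.primeIdealOf ⟨f x, e hxW⟩).asIdeal.primeCompl (C.presheaf.stalk x : Type u)
  let g : (Γ(F, W) ⧸ LinearMap.range φ) →ₗ[Γ(X, W)] (C.presheaf.stalk x : Type u) :=
    (LinearMap.range φ).liftQ (πB.comp (M1.germₗ F hxW)) (by
      rintro _ ⟨z, rfl⟩
      rw [LinearMap.mem_ker, LinearMap.comp_apply, ← hnat]
      exact (hexact _).2 ⟨_, rfl⟩)
  haveI : IsLocalizedModule r.primeCompl g := by
    constructor
    · intro c
      rw [Module.End.isUnit_iff]
      obtain ⟨v, hv⟩ := (M1.isUnit_germ_iff hW hxW c.1).mpr c.2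
      refine Function.bijective_iff_has_inverse.mpr ⟨fun a => (↑v⁻¹ : X.presheaf.stalk x) • a,
        fun a => ?_, fun a => ?_⟩
      · change (↑v⁻¹ : X.presheaf.stalk x) • (X.presheaf.germ W x hxW c.1 • a) = a
        rw [← hv, ← mul_smul, Units.inv_mul, one_smul]
      · change X.presheaf.germ W x hxW c.1 • ((↑v⁻¹ : X.presheaf.stalk x) • a) = a
        rw [← hv, ← mul_smul, Units.mul_inv, one_smul]
    · intro a
      obtain ⟨v, rfl⟩ := hπ a
      obtain ⟨⟨z, c⟩, hz⟩ := IsLocalizedModule.surj r.primeCompl (M1.germₗ F hxW) v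
      refine ⟨⟨Submodule.Quotient.mk z, c⟩, ?_⟩
      show (c : Γ(X, W)) • πB v = πB (M1.germₗ F hxW z)
      rw [← map_smul, show (c : Γ(X, W)) • v = M1.germₗ F hxW z from hz]
    · intro a b hab
      obtain ⟨a, rfl⟩ := Submodule.Quotient.mk_surjective _ a
      obtain ⟨b, rfl⟩ := Submodule.Quotient.mk_surjective _ b
      have h0 : πB (M1.germₗ F hxW (a - b)) = 0 := by
        rw [map_sub, map_sub, sub_eq_zero]; exact hab
      obtain ⟨m, hm⟩ := (hexact _).1 h0
      obtain ⟨⟨z, c⟩, hz⟩ := IsLocalizedModule.surj r.primeCompl (M1.germₗ F' hxW) m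
      have h1 : M1.germₗ F hxW ((c : Γ(X, W)) • (a - b)) = M1.germₗ F hxW (φ z) := by
        rw [map_smul, ← hm, ← hnat, ← map_smul, show (c : Γ(X, W)) • m = M1.germₗ F' hxW z from hz]
      obtain ⟨d, hd⟩ := (IsLocalizedModule.eq_iff_exists r.primeCompl _).1 h1
      refine ⟨d * c, ?_⟩
      simp only [Submonoid.smul_def, Submonoid.coe_mul]
      rw [← Submodule.Quotient.mk_smul, ← Submodule.Quotient.mk_smul, Submodule.Quotient.eq, ← smul_sub,
        mul_smul]
      exact ⟨(d : Γ(X, W)) • z, by rw [map_smul]; exact hd.symm⟩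
  refine ⟨hflatC.trans ⟨fun _ => Module.Flat.of_linearEquiv ((IsLocalizedModule.iso r.primeCompl g).restrictScalars Γ(Y, V)),
    fun _ => Module.Flat.of_linearEquiv ((IsLocalizedModule.iso r.primeCompl g).symm.restrictScalars Γ(Y, V))⟩, ?_⟩
  show Function.Injective uB ↔ _
  constructor
  · intro hinj y t ht hy
    have h1 : M1.germₗ F hxW (φ y) = 0 := (IsLocalizedModule.eq_zero_iff r.primeCompl _).2 ⟨⟨t, ht⟩, hy⟩
    obtain ⟨c, hc⟩ := (IsLocalizedModule.eq_zero_iff r.primeCompl (M1.germₗ F' hxW)).1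
      (hinj (((hnat y).trans h1).trans (map_zero uB).symm))
    exact ⟨c, c.2, hc⟩
  · intro h
    rw [injective_iff_map_eq_zero]
    intro m hm
    obtain ⟨⟨z, c⟩, hz⟩ := IsLocalizedModule.surj r.primeCompl (M1.germₗ F' hxW) m
    have hz' : (c : Γ(X, W)) • m = M1.germₗ F' hxW z := hz
    have hz0 : M1.germₗ F hxW (φ z) = 0 := by rw [← hnat, ← hz', map_smul, hm, smul_zero]
    obtain ⟨d, hd⟩ := (IsLocalizedModule.eq_zero_iff r.primeCompl _).1 hz0
    obtain ⟨t', ht', hzt⟩ := h z d d.2 hd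
    have h2 : M1.germₗ F' hxW z = 0 :=
      (IsLocalizedModule.eq_zero_iff r.primeCompl _).2 ⟨⟨t', ht'⟩, hzt⟩
    rw [← hz'] at h2
    exact ((Module.End.isUnit_iff _).1 (IsLocalizedModule.map_units (M1.germₗ F' hxW) c)).1
      (h2.trans (map_zero _).symm)

end Groth.Agent.SchDom
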