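import Groth.Agent.Lib.SchDom.GoodAt
import Groth.Agent.Lib.FlatH4.FlatLocusFP
import Mathlib.RingTheory.IsTensorProduct

/-!
# Maps injective at a point with flat cokernel: finitely presented case
-/

universe u

namespace Groth.Agent.SchDom

open TensorProduct FlatH4 FlatSyz

/-- `GoodAt` only depends on the action through a surjection. -/
theorem GoodAt.of_surjective {A P T N M N' M' : Type u} [CommRing A] [CommRing P] [Algebra A P]
    [CommRing T] [Algebra A T] [AddCommGroup N] [Module P N] [AddCommGroup M] [Module A M] [Module P M]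
    [IsScalarTower A P M] [AddCommGroup N'] [Module T N'] [AddCommGroup M'] [Module A M'] [Module T M']
    [IsScalarTower A T M'] (π : P →ₐ[A] T) (hπ : Function.Surjective π) (q : Ideal T) [q.IsPrime]
    (eN : N ≃+ N') (hN : ∀ (p : P) x, eN (p • x) = π p • eN x)
    (eM : M ≃+ M') (hM : ∀ (p : P) x, eM (p • x) = π p • eM x)
    (u : N →ₗ[P] M) (u' : N' →ₗ[T] M') (hu : ∀ x, u' (eN x) = eM (u x))
    (h : GoodAt A q u') : GoodAt A (q.comap π) u := by
  refine ⟨fun y t ht hy => ?_, ?_⟩
  · obtain ⟨t', ht', h0⟩ := h.1 (eN y) (π t) ht (by rw [hu, ← hM, hy, map_zero])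
    obtain ⟨s, rfl⟩ := hπ t'
    exact ⟨s, ht', eN.injective (by rw [hN, h0, map_zero])⟩
  · letI : Module P M' := Module.compHom M' π.toRingHom
    haveI : IsScalarTower A P M' := IsScalarTower.of_algebraMap_smul fun a x => by
      show π (algebraMap A P a) • x = a • x
      rw [AlgHom.commutes, algebraMap_smul]
    let eM' : M ≃ₗ[P] M' := { eM with map_smul' := hM }
    let R' := LinearMap.range u'
    letI : Module P (M' ⧸ R') := Module.compHom _ π.toRingHom
    haveI : IsScalarTower A P (M' ⧸ R') := IsScalarTower.of_algebraMap_smul fun a x => by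
      show π (algebraMap A P a) • x = a • x
      rw [AlgHom.commutes, algebraMap_smul]
    let φ : M →ₗ[P] M' ⧸ R' :=
      { toFun := fun x => Submodule.Quotient.mk (eM x)
        map_add' := fun x y => by rw [map_add, Submodule.Quotient.mk_add]
        map_smul' := fun p x => by
          rw [hM, Submodule.Quotient.mk_smul]
          rfl }
    have hker : LinearMap.ker φ = LinearMap.range u := by
      ext x
      refine (Submodule.Quotient.mk_eq_zero R').trans ⟨?_, ?_⟩
      · rintro ⟨y, hy⟩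
        obtain ⟨y, rfl⟩ := eN.surjective y
        exact ⟨y, eM.injective ((hu y).symm.trans hy)⟩
      · rintro ⟨y, rfl⟩
        exact ⟨eN y, hu y⟩
    have hφ : Function.Surjective φ := fun z => by
      obtain ⟨z, rfl⟩ := Submodule.Quotient.mk_surjective _ z
      obtain ⟨x, rfl⟩ := eM.surjective z
      exact ⟨x, rfl⟩
    refine (flat_localized_congr (q.comap π) ((Submodule.quotEquivOfEq _ _ hker.symm).trans
      (φ.quotKerEquivOfSurjective hφ))).2 ?_
    exact (flat_localized_comap_iff π hπ q (fun _ _ => rfl)).2 h.2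

section FP

variable {A₀ B₀ N₀ M₀ : Type u} [CommRing A₀] [CommRing B₀] [Algebra A₀ B₀]
  [AddCommGroup N₀] [Module A₀ N₀] [Module B₀ N₀] [IsScalarTower A₀ B₀ N₀]
  [AddCommGroup M₀] [Module A₀ M₀] [Module B₀ M₀] [IsScalarTower A₀ B₀ M₀]

/-- Models of finitely presented modules over polynomial rings over a subring. -/
theorem isBaseChange_quotient_model {R : Type u} [CommRing R] [Algebra R A₀] [Module R N₀]
    [IsScalarTower R A₀ N₀] {n b : ℕ} (L : Submodule (MvPolynomial (Fin n) R) (Fin b → MvPolynomial (Fin n) R))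
    [Module (MvPolynomial (Fin n) A₀) N₀] [IsScalarTower A₀ (MvPolynomial (Fin n) A₀) N₀]
    (ρ : (Fin b → MvPolynomial (Fin n) A₀) →ₗ[MvPolynomial (Fin n) A₀] N₀) (hρ : Function.Surjective ρ)
    (hker : LinearMap.ker ρ = mapSub A₀ L) :
    ∃ ι : ((Fin b → MvPolynomial (Fin n) R) ⧸ L) →ₗ[R] N₀, IsBaseChange A₀ ι ∧
      (∀ v, ι (Submodule.Quotient.mk v) = ρ (mapVec A₀ v)) ∧
      ∀ (s : MvPolynomial (Fin n) R) x, ι (s • x) = MvPolynomial.map (algebraMap R A₀) s • ι x := by
  let f : (Fin b → MvPolynomial (Fin n) R) →ₗ[R] N₀ :=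
    { toFun := fun v => ρ (mapVec A₀ v)
      map_add' := fun v w => by rw [mapVec_add, map_add]
      map_smul' := fun r v => by
        rw [← algebraMap_smul (MvPolynomial (Fin n) R) r v, mapVec_smul, map_smul, RingHom.id_apply,
          MvPolynomial.algebraMap_eq, MvPolynomial.map_C, ← MvPolynomial.algebraMap_eq, algebraMap_smul,
          algebraMap_smul] }
  have hf : L.restrictScalars R ≤ LinearMap.ker f := fun v hv => by
    show ρ (mapVec A₀ v) = 0
    rw [← LinearMap.mem_ker, hker]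
    exact Submodule.subset_span ⟨v, hv, rfl⟩
  let ι : ((Fin b → MvPolynomial (Fin n) R) ⧸ L) →ₗ[R] N₀ :=
    ((L.restrictScalars R).liftQ f hf).comp (Submodule.Quotient.restrictScalarsEquiv R L).symm.toLinearMap
  have hι : ∀ v, ι (Submodule.Quotient.mk v) = ρ (mapVec A₀ v) := fun v => rfl
  let Ψ := ι.liftBaseChange A₀
  have hΨ : ∀ t, Ψ ((L.mkQ.restrictScalars R).lTensor A₀ t) = ρ (vecEquiv R A₀ n b t) := by
    intro t
    induction t using TensorProduct.induction_on with
    | zero => simp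
    | add x y hx hy => simp only [map_add, hx, hy]
    | tmul a v => simp [Ψ, hι, vecEquiv_tmul, LinearMap.map_smul_of_tower]
  have hbij : Function.Bijective Ψ := by
    refine ⟨?_, fun z => ?_⟩
    · rw [injective_iff_map_eq_zero]
      intro w hw
      obtain ⟨t, rfl⟩ := LinearMap.lTensor_surjective A₀ (g := L.mkQ.restrictScalars R) L.mkQ_surjective w
      rw [hΨ, ← LinearMap.mem_ker, hker, mem_mapSub_iff] at hw
      obtain ⟨s, hs⟩ := hw
      exact (_root_.lTensor_exact A₀ (f := L.subtype.restrictScalars R) (g := L.mkQ.restrictScalars R)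
        (LinearMap.exact_subtype_mkQ L) L.mkQ_surjective t).2 ⟨s, (vecEquiv R A₀ n b).injective hs⟩
    · obtain ⟨v, rfl⟩ := hρ z
      exact ⟨(L.mkQ.restrictScalars R).lTensor A₀ ((vecEquiv R A₀ n b).symm v), by
        rw [hΨ, LinearEquiv.apply_symm_apply]⟩
  refine ⟨ι, IsBaseChange.of_equiv (LinearEquiv.ofBijective Ψ hbij) (fun x => by simp [Ψ]), hι,
    fun s x => ?_⟩
  obtain ⟨v, rfl⟩ := Submodule.Quotient.mk_surjective _ x
  rw [← Submodule.Quotient.mk_smul, hι, hι, mapVec_smul, map_smul]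

variable (B₀)

/-- Sections of a base change. -/
theorem isBaseChange_mk {A T : Type u} [CommRing A] [Algebra A₀ A] [CommRing T] [Algebra A₀ T] [Algebra A T]
    [IsScalarTower A₀ A T] [Algebra B₀ T] [IsScalarTower A₀ B₀ T] [Algebra.IsPushout A₀ A B₀ T] :
    IsBaseChange A ((TensorProduct.mk B₀ T N₀ 1).restrictScalars A₀) :=
  IsBaseChange.of_equiv (Algebra.IsPushout.cancelBaseChange A₀ A B₀ T N₀).symm fun x => by
    rw [Algebra.IsPushout.cancelBaseChange_symm_tmul, map_one]
    rfl

variable {B₀}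
variable (u₀ : N₀ →ₗ[B₀] M₀)

/-- Base change from one stage to another. -/
theorem GoodAt.of_stage {A' T' A T : Type u} [CommRing A'] [Algebra A₀ A'] [CommRing T'] [Algebra A₀ T']
    [Algebra A' T'] [IsScalarTower A₀ A' T'] [Algebra B₀ T'] [IsScalarTower A₀ B₀ T']
    [Algebra.IsPushout A₀ A' B₀ T'] [SMulCommClass B₀ A' T']
    [CommRing A] [Algebra A₀ A] [CommRing T] [Algebra A₀ T] [Algebra A T]
    [IsScalarTower A₀ A T] [Algebra B₀ T] [IsScalarTower A₀ B₀ T] [Algebra.IsPushout A₀ A B₀ T]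
    [SMulCommClass B₀ A T]
    (ψ : A' →ₐ[A₀] A) (g : T' →ₐ[B₀] T) (hg : ∀ a, g (algebraMap A' T' a) = algebraMap A T (ψ a))
    (q : Ideal T) [q.IsPrime] (h : GoodAt A' (q.comap g.toRingHom) (u₀.baseChange T')) :
    GoodAt A q (u₀.baseChange T) := by
  letI : Algebra A' A := ψ.toRingHom.toAlgebra
  haveI : IsScalarTower A₀ A' A := IsScalarTower.of_algebraMap_eq fun r => (ψ.commutes r).symm
  letI : Module A' (T ⊗[B₀] N₀) := Module.compHom _ (algebraMap A' A)
  letI : Module A' (T ⊗[B₀] M₀) := Module.compHom _ (algebraMap A' A)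
  haveI : IsScalarTower A' A (T ⊗[B₀] N₀) := IsScalarTower.of_algebraMap_smul fun _ _ => rfl
  haveI : IsScalarTower A' A (T ⊗[B₀] M₀) := IsScalarTower.of_algebraMap_smul fun _ _ => rfl
  haveI : IsScalarTower A₀ A' (T ⊗[B₀] N₀) := IsScalarTower.of_algebraMap_smul fun r x => by
    show algebraMap A' A (algebraMap A₀ A' r) • x = r • x
    rw [← IsScalarTower.algebraMap_apply, algebraMap_smul]
  haveI : IsScalarTower A₀ A' (T ⊗[B₀] M₀) := IsScalarTower.of_algebraMap_smul fun r x => by
    show algebraMap A' A (algebraMap A₀ A' r) • x = r • x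
    rw [← IsScalarTower.algebraMap_apply, algebraMap_smul]
  have hsmul : ∀ {Z : Type u} [AddCommGroup Z] [Module B₀ Z] (c : A') (x : T' ⊗[B₀] Z),
      g.toLinearMap.rTensor Z (c • x) = ψ c • g.toLinearMap.rTensor Z x := by
    intro Z _ _ c x
    induction x using TensorProduct.induction_on with
    | zero => simp
    | add a b ha hb => simp only [smul_add, map_add, ha, hb]
    | tmul t z =>
      rw [TensorProduct.smul_tmul', LinearMap.rTensor_tmul, LinearMap.rTensor_tmul, TensorProduct.smul_tmul']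
      congr 1
      simp only [AlgHom.toLinearMap_apply, Algebra.smul_def, map_mul, hg]
  let ιN : T' ⊗[B₀] N₀ →ₗ[A'] T ⊗[B₀] N₀ :=
    { toFun := g.toLinearMap.rTensor N₀, map_add' := map_add _, map_smul' := hsmul }
  let ιM : T' ⊗[B₀] M₀ →ₗ[A'] T ⊗[B₀] M₀ :=
    { toFun := g.toLinearMap.rTensor M₀, map_add' := map_add _, map_smul' := hsmul }
  have hN : IsBaseChange A ιN := by
    refine IsBaseChange.of_comp (isBaseChange_mk (A₀ := A₀) (A := A') (T := T') (N₀ := N₀) B₀) ?_
    convert isBaseChange_mk (A₀ := A₀) (A := A) (T := T) (N₀ := N₀) B₀ using 1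
    exact LinearMap.ext fun x => by simp [ιN]
  have hM : IsBaseChange A ιM := by
    refine IsBaseChange.of_comp (isBaseChange_mk (A₀ := A₀) (A := A') (T := T') (N₀ := M₀) B₀) ?_
    convert isBaseChange_mk (A₀ := A₀) (A := A) (T := T) (N₀ := M₀) B₀ using 1
    exact LinearMap.ext fun x => by simp [ιM]
  have hsemi : ∀ {Z : Type u} [AddCommGroup Z] [Module B₀ Z] (s : T') (x : T' ⊗[B₀] Z),
      g.toLinearMap.rTensor Z (s • x) = g s • g.toLinearMap.rTensor Z x := by
    intro Z _ _ s x
    induction x using TensorProduct.induction_on with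
    | zero => simp
    | add a b ha hb => simp only [smul_add, map_add, ha, hb]
    | tmul t z => simp [TensorProduct.smul_tmul']
  refine GoodAt.baseChange g.toRingHom hN (fun s x => hsemi s x) hM (fun s x => hsemi s x)
    (u₀.baseChange T') (u₀.baseChange T) (fun x => ?_) q h
  show u₀.baseChange T (g.toLinearMap.rTensor N₀ x) = g.toLinearMap.rTensor M₀ (u₀.baseChange T' x)
  induction x using TensorProduct.induction_on with
  | zero => simp
  | add a b ha hb => simp only [map_add, ha, hb]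
  | tmul t z => simp

/-- Being injective with flat cokernel at a point comes from finitely many equations. -/
theorem exists_finite_goodAt [Algebra.FinitePresentation A₀ B₀] [Module.FinitePresentation B₀ N₀]
    [Module.FinitePresentation B₀ M₀] (A T : Type u) [CommRing A] [Algebra A₀ A] [CommRing T]
    [Algebra A₀ T] [Algebra A T] [IsScalarTower A₀ A T] [Algebra B₀ T] [IsScalarTower A₀ B₀ T]
    [Algebra.IsPushout A₀ A B₀ T] [SMulCommClass B₀ A T] (q : Ideal T) [q.IsPrime]
    (h : GoodAt A q (u₀.baseChange T)) :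
    ∃ (k : ℕ) (a : Fin k → A) (rel : Finset (MvPolynomial (Fin k) A₀)),
      (∀ p ∈ rel, MvPolynomial.aeval a p = 0) ∧
      ∀ {A' T' : Type u} [CommRing A'] [Algebra A₀ A'] [CommRing T'] [Algebra A₀ T'] [Algebra A' T']
        [IsScalarTower A₀ A' T'] [Algebra B₀ T'] [IsScalarTower A₀ B₀ T'] [Algebra.IsPushout A₀ A' B₀ T']
        [SMulCommClass B₀ A' T'] (ψ : A' →ₐ[A₀] A) (g : T' →ₐ[B₀] T)
        (_ : ∀ c, g (algebraMap A' T' c) = algebraMap A T (ψ c))
        (a' : Fin k → A') (_ : ∀ i, ψ (a' i) = a i) (_ : ∀ p ∈ rel, MvPolynomial.aeval a' p = 0),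
        GoodAt A' (q.comap g.toRingHom) (u₀.baseChange T') := by
  classical
  obtain ⟨n, φ, hφ, hkerφ⟩ := Algebra.FinitePresentation.out (R := A₀) (A := B₀)
  let P₀ := MvPolynomial (Fin n) A₀
  letI : Algebra P₀ B₀ := φ.toRingHom.toAlgebra
  letI : Module P₀ N₀ := Module.compHom N₀ φ.toRingHom
  letI : Module P₀ M₀ := Module.compHom M₀ φ.toRingHom
  haveI : IsScalarTower P₀ B₀ N₀ := IsScalarTower.of_algebraMap_smul fun _ _ => rfl
  haveI : IsScalarTower P₀ B₀ M₀ := IsScalarTower.of_algebraMap_smul fun _ _ => rfl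
  haveI : IsScalarTower A₀ P₀ N₀ := IsScalarTower.of_algebraMap_smul fun c x => by
    show φ (algebraMap A₀ P₀ c) • x = c • x
    rw [AlgHom.commutes, algebraMap_smul]
  haveI : IsScalarTower A₀ P₀ M₀ := IsScalarTower.of_algebraMap_smul fun c x => by
    show φ (algebraMap A₀ P₀ c) • x = c • x
    rw [AlgHom.commutes, algebraMap_smul]
  haveI : Module.FinitePresentation P₀ B₀ :=
    Module.finitePresentation_of_surjective (Algebra.linearMap P₀ B₀) hφ (by exact hkerφ)
  haveI : Module.FinitePresentation P₀ N₀ := Module.FinitePresentation.trans P₀ N₀ B₀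
  haveI : Module.FinitePresentation P₀ M₀ := Module.FinitePresentation.trans P₀ M₀ B₀
  obtain ⟨b, ρN, hρN⟩ := Module.Finite.exists_fin' P₀ N₀
  obtain ⟨m, ρM, hρM⟩ := Module.Finite.exists_fin' P₀ M₀
  obtain ⟨c, l, hl⟩ := Submodule.fg_iff_exists_fin_generating_family.1
    (Module.FinitePresentation.fg_ker ρN hρN)
  obtain ⟨e, w, hw⟩ := Submodule.fg_iff_exists_fin_generating_family.1
    (Module.FinitePresentation.fg_ker ρM hρM)
  choose uu huu using fun j : Fin b => hρM (u₀ (ρN (Pi.single j 1)))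
  have hUu : ∀ v, ρM (Fintype.linearCombination P₀ uu v) = u₀ (ρN v) := by
    intro v
    conv_rhs => rw [pi_eq_sum_univ' v]
    simp only [Fintype.linearCombination_apply, map_sum]
    refine Finset.sum_congr rfl fun j _ => ?_
    rw [map_smul, map_smul, LinearMap.map_smul_of_tower, huu]
  have hlK : ∀ j, ∃ d : Fin e → P₀, ∑ i, d i • w i = Fintype.linearCombination P₀ uu (l j) := fun j =>
    (Submodule.mem_span_range_iff_exists_fun _).1 (hw.ge (by
      rw [LinearMap.mem_ker, hUu, LinearMap.mem_ker.1 (hl.le (Submodule.subset_span ⟨j, rfl⟩)), map_zero]))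
  choose d hd using hlK
  -- the subring of coefficients
  let G : Set P₀ := (⋃ j, Set.range (w j)) ∪ (⋃ j, Set.range (l j)) ∪ (⋃ j, Set.range (uu j)) ∪
    (⋃ j, Set.range (d j))
  have hG : G.Finite := (((Set.finite_iUnion fun j => Set.finite_range (w j)).union
    (Set.finite_iUnion fun j => Set.finite_range (l j))).union
    (Set.finite_iUnion fun j => Set.finite_range (uu j))).union (Set.finite_iUnion fun j => Set.finite_range (d j))
  let C : Set A₀ := ⋃ p ∈ G, ((p : P₀).coeffs : Set A₀)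
  have hC : C.Finite := hG.biUnion fun p _ => p.coeffs.finite_toSet
  let R : Subalgebra ℤ A₀ := Algebra.adjoin ℤ C
  haveI : IsNoetherianRing R := isNoetherianRing_of_fg (Subalgebra.fg_def.2 ⟨C, hC, rfl⟩)
  let S := MvPolynomial (Fin n) R
  have hlift : ∀ p ∈ G, ∃ p₀ : S, MvPolynomial.map (algebraMap R A₀) p₀ = p := by
    intro p hp
    have h' : p ∈ Set.range (MvPolynomial.map (σ := Fin n) (algebraMap R A₀)) := by
      rw [MvPolynomial.mem_range_map_iff_coeffs_subset]
      exact fun x hx => ⟨⟨x, Algebra.subset_adjoin (Set.mem_biUnion hp hx)⟩, rfl⟩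
    exact h'
  choose w₁ hw₁ using fun j i => hlift (w j i) (Or.inl (Or.inl (Or.inl (Set.mem_iUnion.2 ⟨j, i, rfl⟩))))
  choose l₁ hl₁ using fun j i => hlift (l j i) (Or.inl (Or.inl (Or.inr (Set.mem_iUnion.2 ⟨j, i, rfl⟩))))
  choose uu₁ huu₁ using fun j i => hlift (uu j i) (Or.inl (Or.inr (Set.mem_iUnion.2 ⟨j, i, rfl⟩)))
  choose d₁ hd₁ using fun j i => hlift (d j i) (Or.inr (Set.mem_iUnion.2 ⟨j, i, rfl⟩))
  let L₁ := Submodule.span S (Set.range l₁)
  let K₁ := Submodule.span S (Set.range w₁)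
  have hL : mapSub A₀ L₁ = LinearMap.ker ρN := by
    rw [mapSub_span, ← hl, ← Set.range_comp]
    exact congrArg _ (congrArg Set.range (funext fun j => funext (hl₁ j)))
  have hK : mapSub A₀ K₁ = LinearMap.ker ρM := by
    rw [mapSub_span, ← hw, ← Set.range_comp]
    exact congrArg _ (congrArg Set.range (funext fun j => funext (hw₁ j)))
  let U₁ := Fintype.linearCombination S uu₁
  have hinjv : Function.Injective (mapVec A₀ : (Fin m → S) → _) :=
    fun v v' hv => funext fun i => MvPolynomial.map_injective _ Subtype.val_injective (congrFun hv i)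
  have hU₁ : ∀ v, mapVec A₀ (U₁ v) = Fintype.linearCombination P₀ uu (mapVec A₀ v) := fun v => by
    funext i
    simp only [U₁, mapVec, Fintype.linearCombination_apply, Finset.sum_apply, Pi.smul_apply, smul_eq_mul,
      map_sum, map_mul]
    exact Finset.sum_congr rfl fun j _ => congrArg _ (huu₁ j i)
  have hLK : L₁ ≤ K₁.comap U₁ := by
    rw [Submodule.span_le]
    rintro _ ⟨j, rfl⟩
    rw [SetLike.mem_coe, Submodule.mem_comap, show U₁ (l₁ j) = ∑ i, d₁ j i • w₁ i from hinjv (by
      rw [hU₁, show mapVec A₀ (l₁ j) = l j from funext (hl₁ j), ← hd]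
      funext k
      simp only [mapVec, Finset.sum_apply, Pi.smul_apply, smul_eq_mul, map_sum, map_mul]
      exact Finset.sum_congr rfl fun i _ => (congrArg₂ (· * ·) (hd₁ j i) (hw₁ i k)).symm)]
    exact Submodule.sum_mem _ fun i _ => Submodule.smul_mem _ _ (Submodule.subset_span ⟨i, rfl⟩)
  let N := (Fin b → S) ⧸ L₁
  let M := (Fin m → S) ⧸ K₁
  let u : N →ₗ[S] M := Submodule.mapQ L₁ K₁ U₁ hLK
  obtain ⟨ιN, hιN, hιNv, hιNs⟩ := isBaseChange_quotient_model (N₀ := N₀) L₁ ρN hρN hL.symm
  obtain ⟨ιM, hιM, hιMv, hιMs⟩ := isBaseChange_quotient_model (N₀ := M₀) K₁ ρM hρM hK.symm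
  have huι : ∀ x, u₀ (ιN x) = ιM (u x) := by
    intro x
    obtain ⟨v, rfl⟩ := Submodule.Quotient.mk_surjective _ x
    rw [hιNv, ← hUu, ← hU₁, ← hιMv]
    rfl
  let β : S →+* B₀ := φ.toRingHom.comp (MvPolynomial.map (algebraMap R A₀))
  -- over `A`
  let μT : S →+* T := (algebraMap B₀ T).comp β
  let ιNT : N →ₗ[R] T ⊗[B₀] N₀ := (((TensorProduct.mk B₀ T N₀ 1).restrictScalars A₀).restrictScalars R).comp ιN
  let ιMT : M →ₗ[R] T ⊗[B₀] M₀ := (((TensorProduct.mk B₀ T M₀ 1).restrictScalars A₀).restrictScalars R).comp ιM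
  have hNT : IsBaseChange A ιNT := hιN.comp (isBaseChange_mk B₀)
  have hMT : IsBaseChange A ιMT := hιM.comp (isBaseChange_mk B₀)
  have hβ : ∀ r : R, β (algebraMap R S r) = algebraMap A₀ B₀ (algebraMap R A₀ r) := fun r => by
    simp [β, S]
  have hμT : ∀ r : R, μT (algebraMap R S r) = algebraMap A T (algebraMap R A r) := fun r => by
    rw [show μT (algebraMap R S r) = algebraMap B₀ T (β (algebraMap R S r)) from rfl, hβ,
      ← IsScalarTower.algebraMap_apply A₀ B₀ T, IsScalarTower.algebraMap_apply R A₀ A,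
      ← IsScalarTower.algebraMap_apply A₀ A T]
  have hμT' : ∀ r : R, μT (algebraMap R S r) = algebraMap R T r := fun r => by
    rw [hμT, ← IsScalarTower.algebraMap_apply R A T]
  let μA : S →ₐ[R] T := { μT with commutes' := hμT' }
  let π : A ⊗[R] S →ₐ[A] T := Algebra.TensorProduct.lift (Algebra.ofId A T) μA fun _ _ => Commute.all _ _
  have hπt : ∀ a s, π (a ⊗ₜ s) = algebraMap A T a * μT s := fun a s => by simp [π, μA]
  have hπ : Function.Surjective π := by
    intro t
    induction t using (Algebra.IsPushout.out (R := A₀) (S := A) (R' := B₀) (S' := T)).inductionOn with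
    | zero => exact ⟨0, map_zero _⟩
    | tmul x =>
      obtain ⟨p, rfl⟩ := hφ x
      induction p using MvPolynomial.induction_on' with
      | monomial D r =>
        refine ⟨algebraMap A₀ A r ⊗ₜ (MvPolynomial.monomial D 1), ?_⟩
        rw [hπt, ← IsScalarTower.algebraMap_apply, IsScalarTower.algebraMap_apply A₀ B₀ T]
        show _ * algebraMap B₀ T (φ (MvPolynomial.map (algebraMap R A₀) (MvPolynomial.monomial D 1))) =
          algebraMap B₀ T (φ (MvPolynomial.monomial D r))
        rw [← map_mul, ← φ.commutes, ← map_mul]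
        simp [MvPolynomial.algebraMap_eq, MvPolynomial.C_mul_monomial]
      | add p q hp hq =>
        obtain ⟨s₁, h₁⟩ := hp
        obtain ⟨s₂, h₂⟩ := hq
        exact ⟨s₁ + s₂, by simp only [map_add, h₁, h₂]⟩
    | smul c x hx =>
      obtain ⟨s, rfl⟩ := hx
      exact ⟨c • s, map_smul π c s⟩
    | add x y hx hy =>
      obtain ⟨s₁, rfl⟩ := hx
      obtain ⟨s₂, rfl⟩ := hy
      exact ⟨s₁ + s₂, map_add _ _ _⟩
  have hιNTs : ∀ (s : S) x, ιNT (s • x) = μT s • ιNT x := fun s x => by
    show (1 : T) ⊗ₜ[B₀] ιN (s • x) = algebraMap B₀ T (β s) • ((1 : T) ⊗ₜ[B₀] ιN x)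
    rw [hιNs]
    show (1 : T) ⊗ₜ[B₀] (β s • ιN x) = _
    rw [TensorProduct.tmul_smul, algebraMap_smul]
  have hιMTs : ∀ (s : S) x, ιMT (s • x) = μT s • ιMT x := fun s x => by
    show (1 : T) ⊗ₜ[B₀] ιM (s • x) = algebraMap B₀ T (β s) • ((1 : T) ⊗ₜ[B₀] ιM x)
    rw [hιMs]
    show (1 : T) ⊗ₜ[B₀] (β s • ιM x) = _
    rw [TensorProduct.tmul_smul, algebraMap_smul]
  let qt : Ideal (A ⊗[R] S) := q.comap π
  haveI : qt.IsPrime := Ideal.IsPrime.comap π
  haveI : Module.Flat R (Fin m → S) := inferInstance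
  letI := tensorModule R A S N
  letI := tensorModule R A S M
  haveI := tensorModule_isScalarTower R A S N
  haveI := tensorModule_isScalarTower R A S M
  have hcompat : ∀ {Z : Type u} [AddCommGroup Z] [Module R Z] [Module S Z] [IsScalarTower R S Z]
      {Z' : Type u} [AddCommGroup Z'] [Module R Z'] [Module A Z'] [Module T Z'] [IsScalarTower A T Z']
      [IsScalarTower R A Z'] (ι : Z →ₗ[R] Z') (hι : IsBaseChange A ι)
      (_ : ∀ (s : S) x, ι (s • x) = μT s • ι x) (c : A ⊗[R] S) (x : A ⊗[R] Z),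
      hι.equiv (tensorAct R A S Z c x) = π c • hι.equiv x := by
    intro Z _ _ _ _ Z' _ _ _ _ _ _ ι hι hs c x
    induction c using TensorProduct.induction_on with
    | zero => simp
    | add a b ha hb => simp only [map_add, LinearMap.add_apply, add_smul, ha, hb]
    | tmul a s =>
      induction x using TensorProduct.induction_on with
      | zero => simp
      | add x y hx hy => simp only [map_add, smul_add, hx, hy]
      | tmul a' z =>
        rw [tensorAct_tmul, IsBaseChange.equiv_tmul, IsBaseChange.equiv_tmul, hs, hπt, mul_smul,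
          mul_smul (algebraMap A T a), algebraMap_smul, smul_comm (μT s) a']
  let uA : A ⊗[R] N →ₗ[A ⊗[R] S] A ⊗[R] M :=
    { toFun := (u.restrictScalars R).lTensor A
      map_add' := map_add _
      map_smul' := fun c x => by
        show (u.restrictScalars R).lTensor A (tensorAct R A S N c x) =
          tensorAct R A S M c ((u.restrictScalars R).lTensor A x)
        induction c using TensorProduct.induction_on with
        | zero => simp
        | add a b ha hb => simp only [map_add, LinearMap.add_apply, ha, hb]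
        | tmul a s =>
          induction x using TensorProduct.induction_on with
          | zero => simp
          | add x y hx hy => simp only [map_add, hx, hy]
          | tmul b m => simp [tensorAct_tmul] }
  have hgood : GoodAt A qt uA := by
    refine GoodAt.of_surjective π hπ q hNT.equiv.toAddEquiv (fun p x => hcompat ιNT hNT hιNTs p x)
      hMT.equiv.toAddEquiv (fun p x => hcompat ιMT hMT hιMTs p x) uA (u₀.baseChange T) (fun x => ?_) h
    show u₀.baseChange T (hNT.equiv x) = hMT.equiv ((u.restrictScalars R).lTensor A x)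
    induction x using TensorProduct.induction_on with
    | zero => simp
    | add x y hx hy => simp only [map_add, hx, hy]
    | tmul a z =>
      simp only [LinearMap.lTensor_tmul, IsBaseChange.equiv_tmul, LinearMap.map_smul_of_tower]
      simp [ιNT, ιMT, huι]
  obtain ⟨B, hB, hBgood⟩ := exists_subalgebra_goodAt A (F := Fin m → S) K₁.mkQ u qt K₁.mkQ_surjective
    ⟨uA, fun z => rfl, hgood⟩
  obtain ⟨s, hs⟩ := hB
  let a : Fin s.card → A := fun i => (s.equivFin.symm i : A)
  have ha : Algebra.adjoin R (Set.range a) = B := by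
    rw [← hs]
    congr 1
    ext x
    exact ⟨fun ⟨i, hi⟩ => hi ▸ (s.equivFin.symm i).2, fun hx => ⟨s.equivFin ⟨x, hx⟩, by simp [a]⟩⟩
  let ev : MvPolynomial (Fin s.card) R →ₐ[R] A := MvPolynomial.aeval a
  have hev : ev.range = B := (Algebra.adjoin_range_eq_range_aeval R a).symm.trans ha
  obtain ⟨rel, hrel⟩ := IsNoetherian.noetherian (RingHom.ker ev)
  have hmap : ∀ {A' : Type u} [CommRing A'] [Algebra A₀ A'] (x : Fin s.card → A') (p : MvPolynomial (Fin s.card) R),
      MvPolynomial.aeval x (MvPolynomial.map (algebraMap R A₀) p) = MvPolynomial.aeval x p := by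
    intro A' _ _ x p
    exact MvPolynomial.aeval_map_algebraMap A₀ x p
  refine ⟨s.card, a, rel.image (MvPolynomial.map (algebraMap R A₀)), ?_, ?_⟩
  · intro p hp
    obtain ⟨p, hp', rfl⟩ := Finset.mem_image.1 hp
    rw [hmap]
    exact RingHom.mem_ker.1 (hrel.le (Submodule.subset_span hp'))
  intro A' T' _ _ _ _ _ _ _ _ _ _ ψ g hgψ a' ha' hrel'
  let ev' : MvPolynomial (Fin s.card) R →ₐ[R] A' := MvPolynomial.aeval a'
  let evB : MvPolynomial (Fin s.card) R →ₐ[R] B := ev.codRestrict B fun x => hev.le ⟨x, rfl⟩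
  have hevB : Function.Surjective evB := fun x => by
    obtain ⟨p, hp⟩ := hev.ge x.2
    exact ⟨p, Subtype.ext hp⟩
  have hker : RingHom.ker evB ≤ RingHom.ker ev' := by
    intro p hp
    have hp' : p ∈ RingHom.ker ev := congrArg Subtype.val (RingHom.mem_ker.1 hp)
    rw [← hrel] at hp'
    refine (Submodule.span_le.2 fun q hq => ?_ :
      Submodule.span _ (rel : Set (MvPolynomial (Fin s.card) R)) ≤ RingHom.ker ev') hp'
    show ev' q = 0
    rw [← hrel' _ (Finset.mem_image_of_mem _ hq), hmap]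
  let χ : B →ₐ[R] A' := AlgHom.liftOfSurjective evB hevB ev' hker
  have hψχ : ∀ c : B, ψ (χ c) = c := by
    intro c
    obtain ⟨p, rfl⟩ := hevB c
    show ψ (χ (evB p)) = ev p
    rw [AlgHom.liftOfSurjective_apply]
    show (ψ.restrictScalars R).comp ev' p = ev p
    congr 1
    exact MvPolynomial.algHom_ext fun i => by simp [ev', ev, ha']
  let μ : S →+* T' := (algebraMap B₀ T').comp β
  have hμ : ∀ r : R, μ (algebraMap R S r) = algebraMap A' T' (algebraMap R A' r) := fun r => by
    rw [show μ (algebraMap R S r) = algebraMap B₀ T' (β (algebraMap R S r)) from rfl, hβ,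
      ← IsScalarTower.algebraMap_apply A₀ B₀ T', IsScalarTower.algebraMap_apply R A₀ A',
      ← IsScalarTower.algebraMap_apply A₀ A' T']
  let ιN' : N →ₗ[R] T' ⊗[B₀] N₀ := (((TensorProduct.mk B₀ T' N₀ 1).restrictScalars A₀).restrictScalars R).comp ιN
  let ιM' : M →ₗ[R] T' ⊗[B₀] M₀ := (((TensorProduct.mk B₀ T' M₀ 1).restrictScalars A₀).restrictScalars R).comp ιM
  have hgμ : ∀ (c : B) (x : S), g (algebraMap A' T' (χ c) * μ x) = π ((c : A) ⊗ₜ x) := fun c x => by
    rw [map_mul, hgψ, hψχ, hπt]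
    exact congrArg _ (g.commutes (β x))
  refine hBgood χ μ hμ ιN' (hιN.comp (isBaseChange_mk B₀)) ?_ ιM' (hιM.comp (isBaseChange_mk B₀)) ?_
    (u₀.baseChange T') ?_ (q.comap g.toRingHom) ?_ ?_
  · intro x z
    show (1 : T') ⊗ₜ[B₀] ιN (x • z) = algebraMap B₀ T' (β x) • ((1 : T') ⊗ₜ[B₀] ιN z)
    rw [hιNs]
    show (1 : T') ⊗ₜ[B₀] (β x • ιN z) = _
    rw [TensorProduct.tmul_smul, algebraMap_smul]
  · intro x z
    show (1 : T') ⊗ₜ[B₀] ιM (x • z) = algebraMap B₀ T' (β x) • ((1 : T') ⊗ₜ[B₀] ιM z)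
    rw [hιMs]
    show (1 : T') ⊗ₜ[B₀] (β x • ιM z) = _
    rw [TensorProduct.tmul_smul, algebraMap_smul]
  · intro z
    simp [ιN', ιM', huι]
  · intro c x
    show g (algebraMap A' T' (χ c) * μ x) ∈ q ↔ π ((c : A) ⊗ₜ x) ∈ q
    rw [hgμ]
  · intro z f hf
    show g (f z) ∈ q ↔ π (Algebra.TensorProduct.map B.val (AlgHom.id R S) z) ∈ q
    rw [show g (f z) = π (Algebra.TensorProduct.map B.val (AlgHom.id R S) z) from by
      induction z using TensorProduct.induction_on with
      | zero => simp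
      | add x y hx hy => simp only [map_add, hx, hy]
      | tmul c x => rw [hf, hgμ]; simp]

end FP

end Groth.Agent.SchDom
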