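import Groth.Agent.Lib.SchDom.ModPiece
import Groth.Agent.Lib.SchDom.ModCoker
import Groth.Agent.Lib.SchDom.GoodAtFP
import Groth.Agent.Lib.ModM1.Pull

/-!
# Sections of pullbacks over affine opens, and the chart form of injectivity with flat cokernel
-/

universe u

open AlgebraicGeometry CategoryTheory Limits TensorProduct

namespace Groth.Agent.SchDom

variable {X X' : Scheme.{u}} (gX : X' ⟶ X) (F : X.Modules) [Coh.IsQCoh F] {W : X.Opens}
  (hW : IsAffineOpen W) {W' : X'.Opens} (hW' : IsAffineOpen W') (e : W' ≤ gX ⁻¹ᵁ W)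

include hW hW' in
/-- Sections of the pullback over an affine open. -/
theorem exists_pullEquiv :
    letI := (gX.appLE W W' e).hom.toAlgebra
    ∃ L : Γ(X', W') ⊗[Γ(X, W)] Γ(F, W) ≃ₗ[Γ(X', W')] Γ((Scheme.Modules.pullback gX).obj F, W'),
      ∀ s : Γ(F, W), L ((1 : Γ(X', W')) ⊗ₜ s) =
        M1.mres ((Scheme.Modules.pullback gX).obj F) e (M2.pullSec gX F s) := by
  letI := (gX.appLE W W' e).hom.toAlgebra
  let F' := (Scheme.Modules.pullback gX).obj F
  haveI : Coh.IsQCoh F' := M1.isQCoh_pullback gX ‹_›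
  obtain ⟨L, hL1, hL⟩ := exists_pullLin' gX F hW hW' e
  refine ⟨LinearEquiv.ofBijective L ⟨?_, fun s => ?_⟩, hL1⟩
  · rw [injective_iff_map_eq_zero]
    intro z hz
    exact eq_zero_of_germ gX F hW' L hL z fun x' hx' => by rw [hz, map_zero]
  · let a : Ideal Γ(X', W') := (LinearMap.range L).comap (LinearMap.toSpanSingleton Γ(X', W') _ s)
    suffices a = ⊤ by
      have h1 : (1 : Γ(X', W')) ∈ a := this ▸ Submodule.mem_top
      simpa [a] using h1
    by_contra hne
    obtain ⟨q, hq, haq⟩ := Ideal.exists_le_maximal a hne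
    obtain ⟨⟨x', hx'⟩, hxq⟩ := hW'.isoSpec.hom.surjective ⟨q, hq.isPrime⟩
    have hx : hW'.primeIdealOf ⟨x', hx'⟩ = ⟨q, hq.isPrime⟩ := hxq
    letI := M1.stalkModule F' hx'
    haveI := hL x' hx'
    haveI := M1.isLocalizedModule_germ F' hW' hx'
    let r := (hW'.primeIdealOf ⟨x', hx'⟩).asIdeal
    obtain ⟨⟨z, c⟩, hz⟩ := IsLocalizedModule.surj r.primeCompl ((M1.germₗ F' hx').comp L) (M1.germₗ F' hx' s)
    have h1 : M1.germₗ F' hx' ((c : Γ(X', W')) • s) = M1.germₗ F' hx' (L z) := by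
      rw [map_smul]
      exact hz
    obtain ⟨d, hd⟩ := (IsLocalizedModule.eq_iff_exists r.primeCompl (M1.germₗ F' hx')).1 h1
    have h2 : (d * c : r.primeCompl).1 ∈ a := by
      refine ⟨(d : Γ(X', W')) • z, ?_⟩
      rw [map_smul]
      show _ = ((d : Γ(X', W')) * c) • s
      rw [mul_smul]
      exact hd.symm
    exact (d * c : r.primeCompl).2 ((congrArg PrimeSpectrum.asIdeal hx).ge (haq h2))

/-- The linear map on sections over an open. -/
noncomputable def appLin {F G : X.Modules} (h : F ⟶ G) (W : X.Opens) : Γ(F, W) →ₗ[Γ(X, W)] Γ(G, W) where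
  toFun s := h.app W s
  map_add' := map_add _
  map_smul' r s := Scheme.Modules.Hom.app_smul h r s

variable {G : X.Modules} [Coh.IsQCoh G]

include hW in
/-- Injectivity at a point with flat cokernel, in an affine chart, after pullback. -/
theorem goodAt_chart_iff (h : F ⟶ G) {Y' : Scheme.{u}} (f' : X' ⟶ Y') {V' : Y'.Opens}
    (hV' : IsAffineOpen V') (e' : W' ≤ f' ⁻¹ᵁ V')
    [Algebra Γ(X, W) Γ(X', W')] [Algebra Γ(Y', V') Γ(X', W')] [SMulCommClass Γ(X, W) Γ(Y', V') Γ(X', W')]
    (h₁ : algebraMap Γ(X, W) Γ(X', W') = (gX.appLE W W' e).hom)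
    (h₂ : algebraMap Γ(Y', V') Γ(X', W') = (f'.appLE V' W' e').hom) {x : X'} (hx : x ∈ W') :
    (Function.Injective ((TopCat.Presheaf.stalkFunctor Ab x).map
        (Scheme.Modules.Hom.mapPresheaf ((Scheme.Modules.pullback gX).map h))) ∧
      FlatMod.IsFlatOverAt f' (cokernel ((Scheme.Modules.pullback gX).map h)) x) ↔
    GoodAt Γ(Y', V') (hW'.primeIdealOf ⟨x, hx⟩).asIdeal ((appLin h W).baseChange Γ(X', W')) := by
  obtain rfl : ‹Algebra Γ(X, W) Γ(X', W')› = (gX.appLE W W' e).hom.toAlgebra := Algebra.algebra_ext _ _ fun r => by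
    rw [h₁]; rfl
  obtain rfl : ‹Algebra Γ(Y', V') Γ(X', W')› = (f'.appLE V' W' e').hom.toAlgebra := Algebra.algebra_ext _ _ fun r => by
    rw [h₂]; rfl
  letI : Algebra Γ(X, W) Γ(X', W') := (gX.appLE W W' e).hom.toAlgebra
  letI : Algebra Γ(Y', V') Γ(X', W') := (f'.appLE V' W' e').hom.toAlgebra
  let F' := (Scheme.Modules.pullback gX).obj F
  let G' := (Scheme.Modules.pullback gX).obj G
  haveI : Coh.IsQCoh F' := M1.isQCoh_pullback gX ‹_›
  haveI : Coh.IsQCoh G' := M1.isQCoh_pullback gX ‹_›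
  let u := (Scheme.Modules.pullback gX).map h
  obtain ⟨LF, hLF⟩ := exists_pullEquiv gX F hW hW' e
  obtain ⟨LG, hLG⟩ := exists_pullEquiv gX G hW hW' e
  let φ := appLin u W'
  have hnat : ∀ z, φ (LF z) = LG ((appLin h W).baseChange Γ(X', W') z) := by
    intro z
    induction z using TensorProduct.induction_on with
    | zero => simp
    | add a b ha hb => simp only [map_add, ha, hb]
    | tmul t s =>
      rw [show t ⊗ₜ[Γ(X, W)] s = t • ((1 : Γ(X', W')) ⊗ₜ[Γ(X, W)] s) from by
        rw [TensorProduct.smul_tmul', smul_eq_mul, mul_one], map_smul, map_smul, map_smul, map_smul,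
        LinearMap.baseChange_tmul, hLF, hLG]
      congr 1
      show u.app W' (M1.mres F' e (M2.pullSec gX F s)) = M1.mres G' e (M2.pullSec gX G (h.app W s))
      have hu : h ≫ (Scheme.Modules.pullbackPushforwardAdjunction gX).unit.app G =
          (Scheme.Modules.pullbackPushforwardAdjunction gX).unit.app F ≫
            (Scheme.Modules.pushforward gX).map u :=
        (Scheme.Modules.pullbackPushforwardAdjunction gX).unit.naturality h
      have h3 : u.app (gX ⁻¹ᵁ W) (M2.pullSec gX F s) = M2.pullSec gX G (h.app W s) :=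
        (congrArg (fun k => k.app W s) hu).symm
      rw [← h3]
      exact ConcreteCategory.congr_hom (u.mapPresheaf.naturality (homOfLE e).op) (M2.pullSec gX F s)
  obtain ⟨hf, hi⟩ := coker_stalk_iff f' u hV' hW' e' φ (fun _ => rfl) hx
  rw [hi, hf]
  letI := FlatH4.secModuleOver f' G' V' W' e'
  haveI : IsScalarTower Γ(Y', V') Γ(X', W') Γ(G', W') := IsScalarTower.of_algebraMap_smul fun _ _ => rfl
  let r := (hW'.primeIdealOf ⟨x, hx⟩).asIdeal
  have hrange : (LinearMap.range ((appLin h W).baseChange Γ(X', W'))).map (LG : _ →ₗ[Γ(X', W')] _) =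
      LinearMap.range φ := by
    apply le_antisymm
    · rintro _ ⟨_, ⟨z, rfl⟩, rfl⟩
      exact ⟨LF z, hnat z⟩
    · rintro _ ⟨y, rfl⟩
      exact ⟨_, ⟨LF.symm y, rfl⟩, by
        rw [LinearEquiv.coe_coe, ← hnat, LinearEquiv.apply_symm_apply]⟩
  let eC := Submodule.Quotient.equiv _ (LinearMap.range φ) LG hrange
  refine and_congr ⟨fun hI y t ht hy => ?_, fun hI y t ht hy => ?_⟩ (FlatH4.flat_localized_congr r eC).symm
  · obtain ⟨t', ht', h0⟩ := hI (LF y) t ht (by rw [hnat, ← map_smul, hy, map_zero])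
    exact ⟨t', ht', LF.injective (by rw [map_smul, h0, map_zero])⟩
  · obtain ⟨t', ht', h0⟩ := hI (LF.symm y) t ht (LG.injective (by
      rw [map_smul, ← hnat, LinearEquiv.apply_symm_apply, hy, map_zero]))
    exact ⟨t', ht', LF.symm.injective (by rw [map_smul, h0, map_zero])⟩

end Groth.Agent.SchDom
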