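import Groth.Agent.Lib.SchDom.PullSections
import Groth.Agent.Lib.Descend.Stage
import Groth.Agent.Lib.LimH13.Stalk
import Mathlib.RingTheory.MvPolynomial.Basic

/-!
# Maps injective at a point with flat cokernel along limits of schemes
-/

universe u

open AlgebraicGeometry CategoryTheory Limits TensorProduct

namespace Groth.Agent.SchDom

attribute [local instance] Algebra.TensorProduct.rightAlgebra

/-- Germs of composites. -/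
theorem germ_app_appLE {X Y Z : Scheme.{u}} (f : X ⟶ Y) (g : Y ⟶ Z) {U : Z.Opens} {V : Y.Opens}
    (e : V ≤ g ⁻¹ᵁ U) {x : X} (hx : x ∈ f ⁻¹ᵁ V) (hx' : x ∈ (f ≫ g) ⁻¹ᵁ U) (a : Γ(Z, U)) :
    X.presheaf.germ (f ⁻¹ᵁ V) x hx (f.app V (g.appLE U V e a)) =
      X.presheaf.germ ((f ≫ g) ⁻¹ᵁ U) x hx' ((f ≫ g).app U a) := by
  rw [Scheme.Hom.appLE, CommRingCat.comp_apply, ← CommRingCat.comp_apply _ (f.app V),
    Scheme.Hom.naturality, CommRingCat.comp_apply, Scheme.Hom.comp_app]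
  exact X.presheaf.germ_res_apply _ _ _ _

section Chart

variable {X Y X₀ Y₀ : Scheme.{u}} {qX : X ⟶ X₀} {f : X ⟶ Y} {f₀ : X₀ ⟶ Y₀} {qY : Y ⟶ Y₀}
  {V₀ : Y₀.Opens} {U₀ : X₀.Opens} {V : Y.Opens}
  [Algebra Γ(Y₀, V₀) Γ(Y, V)] [Algebra Γ(Y₀, V₀) Γ(X₀, U₀)]

/-- The evaluation at a point of the sections of the base change. -/
theorem exists_ptHom (H : IsPullback qX f f₀ qY) (eV : V ≤ qY ⁻¹ᵁ V₀) (eU : U₀ ≤ f₀ ⁻¹ᵁ V₀)
    (h₁ : algebraMap Γ(Y₀, V₀) Γ(Y, V) = (qY.appLE V₀ V eV).hom)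
    (h₂ : algebraMap Γ(Y₀, V₀) Γ(X₀, U₀) = (f₀.appLE V₀ U₀ eU).hom)
    {x : X} (hxU : qX x ∈ U₀) (hxV : f x ∈ V) :
    ∃ Φ : Γ(Y, V) ⊗[Γ(Y₀, V₀)] Γ(X₀, U₀) →+* X.presheaf.stalk x, ∀ a b, Φ (a ⊗ₜ b) =
      X.presheaf.germ (f ⁻¹ᵁ V) x hxV (f.app V a) * X.presheaf.germ (qX ⁻¹ᵁ U₀) x hxU (qX.app U₀ b) := by
  let φA : Γ(Y, V) →+* X.presheaf.stalk x := (f.app V ≫ X.presheaf.germ (f ⁻¹ᵁ V) x hxV).hom
  let φB : Γ(X₀, U₀) →+* X.presheaf.stalk x := (qX.app U₀ ≫ X.presheaf.germ (qX ⁻¹ᵁ U₀) x hxU).hom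
  have hcomp : ∀ r, φA (algebraMap Γ(Y₀, V₀) Γ(Y, V) r) = φB (algebraMap Γ(Y₀, V₀) Γ(X₀, U₀) r) := by
    intro r
    have hA : φA (qY.appLE V₀ V eV r) =
        X.presheaf.germ ((f ≫ qY) ⁻¹ᵁ V₀) x (eV hxV) ((f ≫ qY).app V₀ r) := germ_app_appLE f qY eV hxV _ r
    have hB : φB (f₀.appLE V₀ U₀ eU r) =
        X.presheaf.germ ((qX ≫ f₀) ⁻¹ᵁ V₀) x (eU hxU) ((qX ≫ f₀).app V₀ r) := germ_app_appLE qX f₀ eU hxU _ r
    rw [h₁, h₂, hA, hB]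
    have key : ∀ (φ φ' : X ⟶ Y₀) (_ : φ = φ') (h : x ∈ φ ⁻¹ᵁ V₀) (h' : x ∈ φ' ⁻¹ᵁ V₀),
        X.presheaf.germ (φ ⁻¹ᵁ V₀) x h (φ.app V₀ r) = X.presheaf.germ (φ' ⁻¹ᵁ V₀) x h' (φ'.app V₀ r) := by
      rintro φ _ rfl h h'; rfl
    exact key _ _ H.w.symm _ _
  letI : Algebra Γ(Y₀, V₀) (X.presheaf.stalk x) := (φA.comp (algebraMap Γ(Y₀, V₀) Γ(Y, V))).toAlgebra
  let φA' : Γ(Y, V) →ₐ[Γ(Y₀, V₀)] X.presheaf.stalk x := { φA with commutes' := fun r => rfl }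
  let φB' : Γ(X₀, U₀) →ₐ[Γ(Y₀, V₀)] X.presheaf.stalk x := { φB with commutes' := fun r => (hcomp r).symm }
  exact ⟨(Algebra.TensorProduct.lift φA' φB' fun _ _ => Commute.all _ _).toRingHom, fun a b =>
    Algebra.TensorProduct.lift_tmul _ _ _ a b⟩

/-- Injectivity at a point with flat cokernel of a base change, on the tensor product of sections. -/
theorem goodAt_pullback_iff (H : IsPullback qX f f₀ qY) (hV₀ : IsAffineOpen V₀) (hU₀ : IsAffineOpen U₀)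
    (hV : IsAffineOpen V) (eV : V ≤ qY ⁻¹ᵁ V₀) (eU : U₀ ≤ f₀ ⁻¹ᵁ V₀)
    (h₁ : algebraMap Γ(Y₀, V₀) Γ(Y, V) = (qY.appLE V₀ V eV).hom)
    (h₂ : algebraMap Γ(Y₀, V₀) Γ(X₀, U₀) = (f₀.appLE V₀ U₀ eU).hom)
    {F₀ G₀ : X₀.Modules} [Coh.IsQCoh F₀] [Coh.IsQCoh G₀] (h₀ : F₀ ⟶ G₀)
    {x : X} (hxU : qX x ∈ U₀) (hxV : f x ∈ V)
    (Φ : Γ(Y, V) ⊗[Γ(Y₀, V₀)] Γ(X₀, U₀) →+* X.presheaf.stalk x)
    (hΦ : ∀ a b, Φ (a ⊗ₜ b) =
      X.presheaf.germ (f ⁻¹ᵁ V) x hxV (f.app V a) * X.presheaf.germ (qX ⁻¹ᵁ U₀) x hxU (qX.app U₀ b)) :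
    (Function.Injective ((TopCat.Presheaf.stalkFunctor Ab x).map
        (Scheme.Modules.Hom.mapPresheaf ((Scheme.Modules.pullback qX).map h₀))) ∧
      FlatMod.IsFlatOverAt f (cokernel ((Scheme.Modules.pullback qX).map h₀)) x) ↔
    GoodAt Γ(Y, V) ((IsLocalRing.maximalIdeal (X.presheaf.stalk x)).comap Φ)
      ((appLin h₀ U₀).baseChange (Γ(Y, V) ⊗[Γ(Y₀, V₀)] Γ(X₀, U₀))) := by
  let W : X.Opens := qX ⁻¹ᵁ U₀ ⊓ f ⁻¹ᵁ V
  have hW : IsAffineOpen W := FlatH4.isAffineOpen_of_isPullback H eV eU rfl hV₀ hV hU₀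
  have eWU : W ≤ qX ⁻¹ᵁ U₀ := inf_le_left
  have eWV : W ≤ f ⁻¹ᵁ V := inf_le_right
  have hx : x ∈ W := ⟨hxU, hxV⟩
  let A₀ := Γ(Y₀, V₀)
  letI : Algebra Γ(X₀, U₀) Γ(X, W) := (qX.appLE U₀ W eWU).hom.toAlgebra
  letI : Algebra Γ(Y, V) Γ(X, W) := (f.appLE V W eWV).hom.toAlgebra
  letI : Algebra Γ(Y₀, V₀) Γ(X, W) :=
    ((algebraMap Γ(Y, V) Γ(X, W)).comp (algebraMap Γ(Y₀, V₀) Γ(Y, V))).toAlgebra
  haveI : IsScalarTower Γ(Y₀, V₀) Γ(Y, V) Γ(X, W) := IsScalarTower.of_algebraMap_eq fun _ => rfl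
  haveI : IsScalarTower Γ(Y₀, V₀) Γ(X₀, U₀) Γ(X, W) := IsScalarTower.of_algebraMap_eq fun r => by
    show f.appLE V W eWV (algebraMap Γ(Y₀, V₀) Γ(Y, V) r) =
      qX.appLE U₀ W eWU (algebraMap Γ(Y₀, V₀) Γ(X₀, U₀) r)
    rw [h₁, h₂, ← CommRingCat.comp_apply, ← CommRingCat.comp_apply, Scheme.Hom.appLE_comp_appLE,
      Scheme.Hom.appLE_comp_appLE]
    simp only [H.w]
  haveI : Algebra.IsPushout Γ(Y₀, V₀) Γ(Y, V) Γ(X₀, U₀) Γ(X, W) :=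
    FlatH4.algebra_isPushout_sections H eV eU rfl hV₀ hV hU₀ h₁ h₂ rfl rfl
  letI := FlatH4.secModuleOver f₀ F₀ V₀ U₀ eU
  letI := FlatH4.secModuleOver f₀ G₀ V₀ U₀ eU
  haveI : IsScalarTower Γ(Y₀, V₀) Γ(X₀, U₀) Γ(F₀, U₀) := IsScalarTower.of_algebraMap_smul fun r z => by
    show algebraMap Γ(Y₀, V₀) Γ(X₀, U₀) r • z = f₀.appLE V₀ U₀ eU r • z
    rw [h₂]
  haveI : IsScalarTower Γ(Y₀, V₀) Γ(X₀, U₀) Γ(G₀, U₀) := IsScalarTower.of_algebraMap_smul fun r z => by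
    show algebraMap Γ(Y₀, V₀) Γ(X₀, U₀) r • z = f₀.appLE V₀ U₀ eU r • z
    rw [h₂]
  haveI : SMulCommClass Γ(X₀, U₀) Γ(Y, V) Γ(X, W) :=
    ⟨fun b a t => by simp only [Algebra.smul_def]; ring⟩
  rw [goodAt_chart_iff qX F₀ hU₀ hW eWU h₀ f hV eWV rfl rfl hx]
  let eT := Algebra.IsPushout.equiv Γ(Y₀, V₀) Γ(Y, V) Γ(X₀, U₀) Γ(X, W)
  let g : Γ(Y, V) ⊗[Γ(Y₀, V₀)] Γ(X₀, U₀) →ₐ[Γ(X₀, U₀)] Γ(X, W) :=
    { eT.toAlgHom.toRingHom with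
      commutes' := fun b => by
        show eT ((1 : Γ(Y, V)) ⊗ₜ b) = _
        rw [Algebra.IsPushout.equiv_tmul, map_one, one_mul] }
  let g' : Γ(X, W) →ₐ[Γ(X₀, U₀)] Γ(Y, V) ⊗[Γ(Y₀, V₀)] Γ(X₀, U₀) :=
    { eT.symm.toAlgHom.toRingHom with
      commutes' := fun b => eT.injective (by
        show eT (eT.symm (algebraMap Γ(X₀, U₀) Γ(X, W) b)) = eT ((1 : Γ(Y, V)) ⊗ₜ b)
        rw [eT.apply_symm_apply, Algebra.IsPushout.equiv_tmul, map_one, one_mul]) }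
  let r := (hW.primeIdealOf ⟨x, hx⟩).asIdeal
  let q := (IsLocalRing.maximalIdeal (X.presheaf.stalk x)).comap Φ
  have hgΦ : ∀ z, X.presheaf.germ W x hx (g z) = Φ z := by
    intro z
    induction z using TensorProduct.induction_on with
    | zero => simp
    | add a b ha hb => simp only [map_add, ha, hb]
    | tmul a b =>
      rw [hΦ, show g (a ⊗ₜ b) = f.appLE V W eWV a * qX.appLE U₀ W eWU b from
        Algebra.IsPushout.equiv_tmul _ _ _ _ a b, map_mul]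
      exact congrArg₂ (· * ·) (X.presheaf.germ_res_apply (homOfLE eWV) x hx _)
        (X.presheaf.germ_res_apply (homOfLE eWU) x hx _)
  have hq : ∀ z, g z ∈ r ↔ z ∈ q := by
    intro z
    show _ ↔ Φ z ∈ IsLocalRing.maximalIdeal _
    rw [IsLocalRing.mem_maximalIdeal, mem_nonunits_iff, ← hgΦ, M1.isUnit_germ_iff hW hx]
    exact not_not.symm
  constructor
  · intro hT
    refine GoodAt.of_stage (A₀ := A₀) (appLin h₀ U₀) (A' := Γ(Y, V)) (T' := Γ(X, W)) (AlgHom.id _ _) g'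
      (fun a => eT.symm.commutes a) q ?_
    have : q.comap g'.toRingHom = r := Ideal.ext fun z => by
      show g' z ∈ q ↔ z ∈ r
      rw [← hq]
      exact Iff.of_eq (congrArg (· ∈ r) (eT.apply_symm_apply z))
    convert hT using 1
  · intro hP
    refine GoodAt.of_stage (A₀ := A₀) (appLin h₀ U₀) (A' := Γ(Y, V))
      (T' := Γ(Y, V) ⊗[Γ(Y₀, V₀)] Γ(X₀, U₀)) (AlgHom.id _ _) g (fun a => eT.commutes a) r ?_
    have : r.comap g.toRingHom = q := Ideal.ext fun z => hq z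
    convert hP using 1

/-- The stalk maps see a morphism through germs. -/
theorem stalkMap_germ_app_congr {X X' Y : Scheme.{u}} {v : X ⟶ X'} {m : X' ⟶ Y} {m' : X ⟶ Y}
    (hm : v ≫ m = m') {V : Y.Opens} {x : X} (h : v x ∈ m ⁻¹ᵁ V) (h' : x ∈ m' ⁻¹ᵁ V) (a : Γ(Y, V)) :
    v.stalkMap x (X'.presheaf.germ (m ⁻¹ᵁ V) (v x) h (m.app V a)) =
      X.presheaf.germ (m' ⁻¹ᵁ V) x h' (m'.app V a) := by
  subst hm
  rw [Scheme.Hom.germ_stalkMap_apply, Scheme.Hom.comp_app]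
  rfl

end Chart

section Stages

variable {J : Type u} [SmallCategory J] [IsCofiltered J] (E : J ⥤ Scheme.{u}) (e : Cone E) (he : IsLimit e)
  [∀ {i j : J} (b : i ⟶ j), IsAffineHom (E.map b)] {Y₀ : Scheme.{u}} (s : ∀ j, E.obj j ⟶ Y₀)
  [∀ j, IsAffineHom (s j)] (hs : ∀ {i j : J} (b : i ⟶ j), E.map b ≫ s j = s i) (q : e.pt ⟶ Y₀)
  (hq : ∀ j, e.π.app j ≫ s j = q) {V₀ : Y₀.Opens} (hV₀ : IsAffineOpen V₀)

include he hs hq hV₀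

/-- Finitely many sections and equations come from a stage. -/
theorem exists_stage_solution {k : ℕ} (a : Fin k → Γ(e.pt, q ⁻¹ᵁ V₀))
    (rel : Finset (MvPolynomial (Fin k) Γ(Y₀, V₀)))
    (hrel : ∀ p ∈ rel, MvPolynomial.eval₂ (q.app V₀).hom a p = 0) :
    ∃ (j : J) (le : q ⁻¹ᵁ V₀ ≤ e.π.app j ⁻¹ᵁ ((s j) ⁻¹ᵁ V₀)) (a' : Fin k → Γ(E.obj j, (s j) ⁻¹ᵁ V₀)),
      (∀ i, (e.π.app j).appLE ((s j) ⁻¹ᵁ V₀) (q ⁻¹ᵁ V₀) le (a' i) = a i) ∧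
        ∀ p ∈ rel, MvPolynomial.eval₂ ((s j).app V₀).hom a' p = 0 := by
  classical
  have hle : ∀ j, q ⁻¹ᵁ V₀ ≤ e.π.app j ⁻¹ᵁ ((s j) ⁻¹ᵁ V₀) := fun j => by
    rw [← Scheme.Hom.comp_preimage, hq]
  have hge : ∀ j, e.π.app j ⁻¹ᵁ ((s j) ⁻¹ᵁ V₀) ≤ q ⁻¹ᵁ V₀ := fun j => by
    rw [← Scheme.Hom.comp_preimage, hq]
  have hmap : ∀ {i j : J} (b : i ⟶ j), (s i) ⁻¹ᵁ V₀ ≤ E.map b ⁻¹ᵁ ((s j) ⁻¹ᵁ V₀) := fun b => by
    rw [← Scheme.Hom.comp_preimage, hs]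
  have hmap' : ∀ {i j : J} (b : i ⟶ j), E.map b ⁻¹ᵁ ((s j) ⁻¹ᵁ V₀) ≤ (s i) ⁻¹ᵁ V₀ := fun b => by
    rw [← Scheme.Hom.comp_preimage, hs]
  -- each section comes from a stage
  have hsec : ∀ r : Γ(e.pt, q ⁻¹ᵁ V₀), ∃ (j : J) (z : Γ(E.obj j, (s j) ⁻¹ᵁ V₀)),
      (e.π.app j).appLE ((s j) ⁻¹ᵁ V₀) (q ⁻¹ᵁ V₀) (hle j) z = r := by
    intro r
    obtain ⟨j₀⟩ := IsCofiltered.nonempty (C := J)
    obtain ⟨j, b, z, le, hz⟩ := LimH13.exists_section_of_isLimit he ((s j₀) ⁻¹ᵁ V₀) (hV₀.preimage (s j₀))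
      (e.pt.presheaf.map (homOfLE (hge j₀)).op r)
    refine ⟨j, (E.obj j).presheaf.map (homOfLE (hmap b)).op z, ?_⟩
    rw [← CommRingCat.comp_apply, Scheme.Hom.map_appLE]
    have h1 := congrArg (e.pt.presheaf.map (homOfLE (hle j₀)).op) hz
    erw [← CommRingCat.comp_apply, Scheme.Hom.appLE_map] at h1
    rw [← CommRingCat.comp_apply, ← Functor.map_comp] at h1
    refine h1.trans ?_
    have h2 : (homOfLE (hge j₀)).op ≫ (homOfLE (hle j₀)).op = 𝟙 _ := Subsingleton.elim _ _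
    rw [h2, CategoryTheory.Functor.map_id]
    rfl
  choose ji zi hzi using fun i => hsec (a i)
  obtain ⟨j₁, hj₁⟩ := IsCofiltered.inf_objs_exists (Finset.univ.image ji)
  let bi : ∀ i, j₁ ⟶ ji i := fun i => (hj₁ (Finset.mem_image_of_mem _ (Finset.mem_univ i))).some
  let a₁ : Fin k → Γ(E.obj j₁, (s j₁) ⁻¹ᵁ V₀) := fun i =>
    (E.map (bi i)).appLE ((s (ji i)) ⁻¹ᵁ V₀) ((s j₁) ⁻¹ᵁ V₀) (hmap _) (zi i)
  have key : ∀ (j : J) {Z : Scheme.{u}} {U : Z.Opens} (φ φ' : Z ⟶ E.obj j) (_ : φ = φ') (h h')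
      (z : Γ(E.obj j, (s j) ⁻¹ᵁ V₀)),
      φ.appLE ((s j) ⁻¹ᵁ V₀) U h z = φ'.appLE ((s j) ⁻¹ᵁ V₀) U h' z := by
    rintro j Z U φ _ rfl h h' z; rfl
  have ha₁ : ∀ i, (e.π.app j₁).appLE ((s j₁) ⁻¹ᵁ V₀) (q ⁻¹ᵁ V₀) (hle j₁) (a₁ i) = a i := fun i => by
    rw [← hzi i]
    show ((E.map (bi i)).appLE _ _ (hmap _) ≫ (e.π.app j₁).appLE _ _ (hle j₁)) (zi i) = _
    rw [Scheme.Hom.appLE_comp_appLE]
    exact key _ _ _ (e.w (bi i)) _ _ _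
  -- equations hold at a later stage
  have hzero : ∀ p ∈ rel, ∃ (j : J) (b : j ⟶ j₁),
      (E.map b).appLE ((s j₁) ⁻¹ᵁ V₀) ((s j) ⁻¹ᵁ V₀) (hmap b)
        (MvPolynomial.eval₂ ((s j₁).app V₀).hom a₁ p) = 0 := by
    intro p hp
    let z := MvPolynomial.eval₂ ((s j₁).app V₀).hom a₁ p
    have hz : (e.π.app j₁).appLE ((s j₁) ⁻¹ᵁ V₀) (q ⁻¹ᵁ V₀) (hle j₁) z = 0 := by
      rw [MvPolynomial.eval₂_comp_left, ← hrel p hp]
      congr 1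
      · rw [← CommRingCat.hom_comp]
        congr 1
        rw [Scheme.Hom.app_eq_appLE, Scheme.Hom.appLE_comp_appLE, Scheme.Hom.app_eq_appLE]
        simp only [hq]
      · exact funext ha₁
    have hz' : (e.π.app j₁).app ((s j₁) ⁻¹ᵁ V₀) z = 0 := by
      rw [Scheme.Hom.app_eq_appLE, ← Scheme.Hom.appLE_map _ (hle j₁) (homOfLE (hge j₁)).op,
        CommRingCat.comp_apply, hz, map_zero]
    obtain ⟨j, b, hb⟩ := exists_app_map_eq_zero_of_isLimit E e he (hV₀.preimage (s j₁)).isCompact z hz'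
    refine ⟨j, b, ?_⟩
    rw [Scheme.Hom.appLE, CommRingCat.comp_apply, hb, map_zero]
  choose jp bp hbp using hzero
  obtain ⟨j₂, c, d, hcd⟩ := IsCofiltered.wideCospan (fun p : rel => bp p.1 p.2)
  let a' : Fin k → Γ(E.obj j₂, (s j₂) ⁻¹ᵁ V₀) := fun i =>
    (E.map c).appLE ((s j₁) ⁻¹ᵁ V₀) ((s j₂) ⁻¹ᵁ V₀) (hmap _) (a₁ i)
  refine ⟨j₂, hle j₂, a', fun i => ?_, fun p hp => ?_⟩
  · rw [← ha₁ i]
    show ((E.map c).appLE _ _ (hmap _) ≫ (e.π.app j₂).appLE _ _ (hle j₂)) (a₁ i) = _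
    rw [Scheme.Hom.appLE_comp_appLE]
    exact key _ _ _ (e.w c) _ _ _
  · have h1 : MvPolynomial.eval₂ ((s j₂).app V₀).hom a' p =
        (E.map c).appLE ((s j₁) ⁻¹ᵁ V₀) ((s j₂) ⁻¹ᵁ V₀) (hmap c)
          (MvPolynomial.eval₂ ((s j₁).app V₀).hom a₁ p) := by
      rw [MvPolynomial.eval₂_comp_left]
      congr 1
      rw [← CommRingCat.hom_comp]
      congr 1
      rw [Scheme.Hom.app_eq_appLE, Scheme.Hom.app_eq_appLE, Scheme.Hom.appLE_comp_appLE]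
      simp only [hs]
    have h2 : (E.map (d ⟨p, hp⟩ ≫ bp p hp)).appLE ((s j₁) ⁻¹ᵁ V₀) ((s j₂) ⁻¹ᵁ V₀) (hmap _)
        (MvPolynomial.eval₂ ((s j₁).app V₀).hom a₁ p) = 0 := by
      rw [key j₁ _ _ (E.map_comp _ _) (hmap _) ((hmap (d ⟨p, hp⟩)).trans
        (Scheme.Hom.preimage_mono _ (hmap (bp p hp)))), ← Scheme.Hom.appLE_comp_appLE _ _ _
        ((s (jp p hp)) ⁻¹ᵁ V₀) _ (hmap (bp p hp)) (hmap (d ⟨p, hp⟩)), CommRingCat.comp_apply, hbp p hp, map_zero]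
    rw [h1, key j₁ _ _ (congrArg E.map (hcd ⟨p, hp⟩).symm) (hmap c) (hmap _)]
    exact h2

end Stages

section Main

/-- Injectivity with flat cokernel at a point, at the level of a stage and of the limit. -/
abbrev Good {X₀ : Scheme.{u}} {F₀ G₀ : X₀.Modules} (h₀ : F₀ ⟶ G₀) {X' Y' : Scheme.{u}} (qX : X' ⟶ X₀)
    (f : X' ⟶ Y') (x : X') : Prop :=
  Function.Injective ((TopCat.Presheaf.stalkFunctor Ab x).map
      (Scheme.Modules.Hom.mapPresheaf ((Scheme.Modules.pullback qX).map h₀))) ∧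
    FlatMod.IsFlatOverAt f (cokernel ((Scheme.Modules.pullback qX).map h₀)) x


variable {I : Type u} [SmallCategory I] [IsCofiltered I] (D : I ⥤ Scheme.{u}) (c : Cone D)
  (hc : IsLimit c) [∀ (i j : I) (φ : i ⟶ j), IsAffineHom (D.map φ)] (i₀ : I)
  {X₀ Y₀ : Scheme.{u}} (f₀ : X₀ ⟶ Y₀) (g₀ : Y₀ ⟶ D.obj i₀) [LocallyOfFinitePresentation f₀]
  (F₀ G₀ : X₀.Modules) [Coh.IsQCoh F₀] [Coh.IsQCoh G₀] (hF₀ : CohB1.IsFP F₀) (hG₀ : CohB1.IsFP G₀)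
  (h₀ : F₀ ⟶ G₀)
  {X Y : Scheme.{u}} (f : X ⟶ Y) (g : Y ⟶ c.pt) (qY : Y ⟶ Y₀) (qX : X ⟶ X₀)
  (hY : IsPullback qY g g₀ (c.π.app i₀)) (hX : IsPullback qX f f₀ qY) (x : X)

include hX in
omit [LocallyOfFinitePresentation f₀] in
/-- Being good passes from a stage to the limit. -/
theorem good_of_stage {Xi Yi : Scheme.{u}} (fi : Xi ⟶ Yi) (pY : Yi ⟶ Y₀) [IsAffineHom pY] [IsAffineHom qY]
    (pX : Xi ⟶ X₀) (hXi : IsPullback pX fi f₀ pY) (vY : Y ⟶ Yi) (vX : X ⟶ Xi)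
    (hvY : vY ≫ pY = qY) (hvX : vX ≫ pX = qX) (hvf : vX ≫ fi = f ≫ vY)
    (h : Good h₀ pX fi (vX x)) : Good h₀ qX f x := by
  obtain ⟨V₀, hV₀, hxV₀, -⟩ := exists_isAffineOpen_mem_and_subset (X := Y₀) (x := qY (f x)) (U := ⊤) trivial
  have hx₀ : f₀ (qX x) = qY (f x) := by rw [← Scheme.Hom.comp_apply, hX.w]; rfl
  obtain ⟨U₀, hU₀, hxU₀, hUV⟩ := exists_isAffineOpen_mem_and_subset (X := X₀) (x := qX x) (U := f₀ ⁻¹ᵁ V₀)
    (show f₀ (qX x) ∈ V₀ by rw [hx₀]; exact hxV₀)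
  have hU : U₀ ≤ f₀ ⁻¹ᵁ V₀ := hUV
  let V := qY ⁻¹ᵁ V₀
  let Vi := pY ⁻¹ᵁ V₀
  have hleV : V ≤ vY ⁻¹ᵁ Vi := by rw [← Scheme.Hom.comp_preimage, hvY]
  letI : Algebra Γ(Y₀, V₀) Γ(Y, V) := (qY.appLE V₀ V le_rfl).hom.toAlgebra
  letI : Algebra Γ(Y₀, V₀) Γ(Yi, Vi) := (pY.appLE V₀ Vi le_rfl).hom.toAlgebra
  letI : Algebra Γ(Y₀, V₀) Γ(X₀, U₀) := (f₀.appLE V₀ U₀ hU).hom.toAlgebra
  letI := FlatH4.secModuleOver f₀ F₀ V₀ U₀ hU
  letI := FlatH4.secModuleOver f₀ G₀ V₀ U₀ hU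
  haveI : IsScalarTower Γ(Y₀, V₀) Γ(X₀, U₀) Γ(F₀, U₀) := IsScalarTower.of_algebraMap_smul fun _ _ => rfl
  haveI : IsScalarTower Γ(Y₀, V₀) Γ(X₀, U₀) Γ(G₀, U₀) := IsScalarTower.of_algebraMap_smul fun _ _ => rfl
  have hxU' : pX (vX x) ∈ U₀ := by rw [← Scheme.Hom.comp_apply, hvX]; exact hxU₀
  have hxV' : fi (vX x) ∈ Vi := by
    show pY (fi (vX x)) ∈ V₀
    rw [← Scheme.Hom.comp_apply vX fi, hvf, Scheme.Hom.comp_apply, ← Scheme.Hom.comp_apply vY pY, hvY]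
    exact hxV₀
  obtain ⟨Φ, hΦ⟩ := exists_ptHom hX (V := V) le_rfl hU rfl rfl hxU₀ (show f x ∈ V from hxV₀)
  obtain ⟨Φi, hΦi⟩ := exists_ptHom hXi (V := Vi) le_rfl hU rfl rfl hxU' hxV'
  let ψ : Γ(Yi, Vi) →ₐ[Γ(Y₀, V₀)] Γ(Y, V) :=
    { (vY.appLE Vi V hleV).hom with
      commutes' := fun r => by
        show vY.appLE Vi V hleV (pY.appLE V₀ Vi le_rfl r) = qY.appLE V₀ V le_rfl r
        rw [← CommRingCat.comp_apply, Scheme.Hom.appLE_comp_appLE]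
        simp only [hvY] }
  let γ : Γ(Yi, Vi) ⊗[Γ(Y₀, V₀)] Γ(X₀, U₀) →ₐ[Γ(X₀, U₀)] Γ(Y, V) ⊗[Γ(Y₀, V₀)] Γ(X₀, U₀) :=
    { (Algebra.TensorProduct.map ψ (AlgHom.id _ _)).toRingHom with
      commutes' := fun b => by
        show Algebra.TensorProduct.map ψ (AlgHom.id _ _) ((1 : Γ(Yi, Vi)) ⊗ₜ b) = (1 : Γ(Y, V)) ⊗ₜ b
        simp }
  have hγ : ∀ z, vX.stalkMap x (Φi z) = Φ (γ z) := by
    intro z
    induction z using TensorProduct.induction_on with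
    | zero => simp
    | add a b ha hb => simp only [map_add, ha, hb]
    | tmul a b =>
      rw [hΦi, map_mul, show γ (a ⊗ₜ b) = ψ a ⊗ₜ b from rfl, hΦ]
      congr 1
      · rw [stalkMap_germ_app_congr hvf hxV' (show x ∈ (f ≫ vY) ⁻¹ᵁ Vi from hleV (show f x ∈ V from hxV₀)) a]
        exact (germ_app_appLE f vY hleV _ _ a).symm
      · exact stalkMap_germ_app_congr hvX hxU' hxU₀ b
  have hi := (goodAt_pullback_iff hXi hV₀ hU₀ (hV₀.preimage pY) le_rfl hU rfl rfl h₀ hxU' hxV' Φi hΦi).1 h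
  refine (goodAt_pullback_iff hX hV₀ hU₀ (hV₀.preimage qY) le_rfl hU rfl rfl h₀ hxU₀ hxV₀ Φ hΦ).2 ?_
  refine GoodAt.of_stage (A₀ := Γ(Y₀, V₀)) (appLin h₀ U₀) ψ γ (fun a => ?_) _ ?_
  · show Algebra.TensorProduct.map ψ (AlgHom.id _ _) (a ⊗ₜ (1 : Γ(X₀, U₀))) = ψ a ⊗ₜ (1 : Γ(X₀, U₀))
    simp
  have hcomap : ((IsLocalRing.maximalIdeal (X.presheaf.stalk x)).comap Φ).comap γ.toRingHom =
      (IsLocalRing.maximalIdeal (Xi.presheaf.stalk (vX x))).comap Φi := by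
    ext z
    show Φ (γ z) ∈ IsLocalRing.maximalIdeal _ ↔ Φi z ∈ IsLocalRing.maximalIdeal _
    rw [← hγ, IsLocalRing.mem_maximalIdeal, IsLocalRing.mem_maximalIdeal, mem_nonunits_iff, mem_nonunits_iff,
      isUnit_map_iff]
  convert hi using 1

include hc hF₀ hG₀ hY hX in
/-- Injectivity with flat cokernel at a point comes from a stage. -/
theorem exists_stage_good (h : Good h₀ qX f x) :
    ∃ (k : Over i₀) (vY : Y ⟶ pullback g₀ (D.map k.hom))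
      (vX : X ⟶ pullback f₀ (pullback.fst g₀ (D.map k.hom))),
      vY ≫ pullback.fst g₀ (D.map k.hom) = qY ∧
        vY ≫ pullback.snd g₀ (D.map k.hom) = g ≫ c.π.app k.left ∧
        vX ≫ pullback.fst f₀ (pullback.fst g₀ (D.map k.hom)) = qX ∧
        vX ≫ pullback.snd f₀ (pullback.fst g₀ (D.map k.hom)) = f ≫ vY ∧
        Good h₀ (pullback.fst f₀ (pullback.fst g₀ (D.map k.hom)))
          (pullback.snd f₀ (pullback.fst g₀ (D.map k.hom))) (vX x) := by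
  let c' : Cone (Over.forget i₀ ⋙ D) := c.whisker (Over.forget i₀)
  have hc' : IsLimit c' := (Functor.Initial.isLimitWhiskerEquiv (Over.forget i₀) c).symm hc
  have hq : ∀ k, c'.π.app k ≫ (Descend.overT D i₀).app k = c.π.app i₀ := fun k => c.w k.hom
  let E := Descend.pbDiagram (Over.forget i₀ ⋙ D) (Descend.overT D i₀) g₀
  let e := Descend.pbCone _ (Descend.overT D i₀) g₀ c' hq hY
  have he : IsLimit e := Descend.pbIsLimit _ (Descend.overT D i₀) g₀ c' hq hY hc'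
  let s : ∀ k, E.obj k ⟶ Y₀ := fun k => pullback.fst g₀ (D.map k.hom)
  haveI : ∀ k, IsAffineHom (s k) := fun k =>
    inferInstanceAs (IsAffineHom ((Descend.pbFst (Over.forget i₀ ⋙ D) (Descend.overT D i₀) g₀).app k))
  haveI : ∀ {i j} (b : i ⟶ j), IsAffineHom (E.map b) := fun b => Descend.isAffineHom_map _
    (Descend.pbFst (Over.forget i₀ ⋙ D) (Descend.overT D i₀) g₀) b
  haveI : ∀ {i j : I} (a : i ⟶ j), IsAffineHom (D.map a) := fun a => inferInstance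
  haveI : IsAffineHom (c.π.app i₀) := isAffineHom_π_app D c hc i₀
  haveI : IsAffineHom qY := MorphismProperty.of_isPullback (P := @IsAffineHom) hY.flip ‹_›
  obtain ⟨V₀, hV₀, hxV₀, -⟩ := exists_isAffineOpen_mem_and_subset (X := Y₀) (x := qY (f x)) (U := ⊤) trivial
  have hx₀ : f₀ (qX x) = qY (f x) := by rw [← Scheme.Hom.comp_apply, hX.w]; rfl
  obtain ⟨U₀, hU₀, hxU₀, hUV⟩ := exists_isAffineOpen_mem_and_subset (X := X₀) (x := qX x) (U := f₀ ⁻¹ᵁ V₀)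
    (show f₀ (qX x) ∈ V₀ by rw [hx₀]; exact hxV₀)
  have hU : U₀ ≤ f₀ ⁻¹ᵁ V₀ := hUV
  let V := qY ⁻¹ᵁ V₀
  letI : Algebra Γ(Y₀, V₀) Γ(Y, V) := (qY.appLE V₀ V le_rfl).hom.toAlgebra
  letI : Algebra Γ(Y₀, V₀) Γ(X₀, U₀) := (f₀.appLE V₀ U₀ hU).hom.toAlgebra
  letI := FlatH4.secModuleOver f₀ F₀ V₀ U₀ hU
  letI := FlatH4.secModuleOver f₀ G₀ V₀ U₀ hU
  haveI : IsScalarTower Γ(Y₀, V₀) Γ(X₀, U₀) Γ(F₀, U₀) := IsScalarTower.of_algebraMap_smul fun _ _ => rfl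
  haveI : IsScalarTower Γ(Y₀, V₀) Γ(X₀, U₀) Γ(G₀, U₀) := IsScalarTower.of_algebraMap_smul fun _ _ => rfl
  haveI : Algebra.FinitePresentation Γ(Y₀, V₀) Γ(X₀, U₀) := f₀.finitePresentation_appLE hV₀ hU₀ hU
  haveI : Module.FinitePresentation Γ(X₀, U₀) Γ(F₀, U₀) := M1.finitePresentation_sections hF₀ hU₀
  haveI : Module.FinitePresentation Γ(X₀, U₀) Γ(G₀, U₀) := M1.finitePresentation_sections hG₀ hU₀
  obtain ⟨Φ, hΦ⟩ := exists_ptHom hX (V := V) le_rfl hU rfl rfl hxU₀ (show f x ∈ V from hxV₀)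
  have hgood := (goodAt_pullback_iff hX hV₀ hU₀ (hV₀.preimage qY) le_rfl hU rfl rfl h₀ hxU₀ hxV₀ Φ hΦ).1 h
  obtain ⟨m, a, rel, hrel, hfin⟩ := exists_finite_goodAt (A₀ := Γ(Y₀, V₀)) (appLin h₀ U₀) Γ(Y, V)
    (Γ(Y, V) ⊗[Γ(Y₀, V₀)] Γ(X₀, U₀)) _ hgood
  obtain ⟨k, le, a', ha', hrel'⟩ := exists_stage_solution E e he s
    (fun b => Descend.pbMap_fst _ (Descend.overT D i₀) g₀ b) qY
    (fun k => Descend.pbCone_fst _ (Descend.overT D i₀) g₀ c' hq hY k) hV₀ a rel (fun p hp => by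
      have h0 := hrel p hp
      rw [MvPolynomial.aeval_def] at h0
      refine Eq.trans ?_ h0
      congr 1
      show (qY.app V₀).hom = (qY.appLE V₀ V le_rfl).hom
      rw [Scheme.Hom.app_eq_appLE])
  let pY : pullback g₀ (D.map k.hom) ⟶ Y₀ := pullback.fst g₀ (D.map k.hom)
  haveI : IsAffineHom pY := ‹∀ k, IsAffineHom (s k)› k
  let vY : Y ⟶ pullback g₀ (D.map k.hom) := e.π.app k
  have hvY : vY ≫ pY = qY := Descend.pbCone_fst _ (Descend.overT D i₀) g₀ c' hq hY k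
  have hvYs : vY ≫ pullback.snd g₀ (D.map k.hom) = g ≫ c.π.app k.left :=
    Descend.pbCone_snd _ (Descend.overT D i₀) g₀ c' hq hY k
  let pX : pullback f₀ pY ⟶ X₀ := pullback.fst f₀ pY
  let fk : pullback f₀ pY ⟶ pullback g₀ (D.map k.hom) := pullback.snd f₀ pY
  let vX : X ⟶ pullback f₀ pY := pullback.lift qX (f ≫ vY) (by rw [Category.assoc, hvY, hX.w])
  have hXk : IsPullback pX fk f₀ pY := IsPullback.of_hasPullback f₀ pY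
  refine ⟨k, vY, vX, hvY, hvYs, pullback.lift_fst _ _ _, pullback.lift_snd _ _ _, ?_⟩
  have hvX : vX ≫ pX = qX := pullback.lift_fst _ _ _
  have hvf : vX ≫ fk = f ≫ vY := pullback.lift_snd _ _ _
  let Vi := pY ⁻¹ᵁ V₀
  letI : Algebra Γ(Y₀, V₀) Γ(pullback g₀ (D.map k.hom), Vi) := (pY.appLE V₀ Vi le_rfl).hom.toAlgebra
  have hleV : V ≤ vY ⁻¹ᵁ Vi := le
  have hxU' : pX (vX x) ∈ U₀ := by rw [← Scheme.Hom.comp_apply, hvX]; exact hxU₀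
  have hxV' : fk (vX x) ∈ Vi := by
    show pY (fk (vX x)) ∈ V₀
    rw [← Scheme.Hom.comp_apply vX fk, hvf, Scheme.Hom.comp_apply, ← Scheme.Hom.comp_apply vY pY, hvY]
    exact hxV₀
  obtain ⟨Φi, hΦi⟩ := exists_ptHom hXk (V := Vi) le_rfl hU rfl rfl hxU' hxV'
  let ψ : Γ(pullback g₀ (D.map k.hom), Vi) →ₐ[Γ(Y₀, V₀)] Γ(Y, V) :=
    { (vY.appLE Vi V hleV).hom with
      commutes' := fun r => by
        show vY.appLE Vi V hleV (pY.appLE V₀ Vi le_rfl r) = qY.appLE V₀ V le_rfl r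
        rw [← CommRingCat.comp_apply, Scheme.Hom.appLE_comp_appLE]
        simp only [hvY] }
  let γ : Γ(pullback g₀ (D.map k.hom), Vi) ⊗[Γ(Y₀, V₀)] Γ(X₀, U₀) →ₐ[Γ(X₀, U₀)]
      Γ(Y, V) ⊗[Γ(Y₀, V₀)] Γ(X₀, U₀) :=
    { (Algebra.TensorProduct.map ψ (AlgHom.id _ _)).toRingHom with
      commutes' := fun b => by
        show Algebra.TensorProduct.map ψ (AlgHom.id _ _) ((1 : Γ(pullback g₀ (D.map k.hom), Vi)) ⊗ₜ b) =
          (1 : Γ(Y, V)) ⊗ₜ b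
        simp }
  have hγ : ∀ z, vX.stalkMap x (Φi z) = Φ (γ z) := by
    intro z
    induction z using TensorProduct.induction_on with
    | zero => simp
    | add a b ha hb => simp only [map_add, ha, hb]
    | tmul a b =>
      rw [hΦi, map_mul, show γ (a ⊗ₜ b) = ψ a ⊗ₜ b from rfl, hΦ]
      congr 1
      · rw [stalkMap_germ_app_congr hvf hxV' (show x ∈ (f ≫ vY) ⁻¹ᵁ Vi from hleV (show f x ∈ V from hxV₀)) a]
        exact (germ_app_appLE f vY hleV _ _ a).symm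
      · exact stalkMap_germ_app_congr hvX hxU' hxU₀ b
  refine (goodAt_pullback_iff hXk hV₀ hU₀ (hV₀.preimage pY) le_rfl hU rfl rfl h₀ hxU' hxV' Φi hΦi).2 ?_
  have hcomap : ((IsLocalRing.maximalIdeal (X.presheaf.stalk x)).comap Φ).comap γ.toRingHom =
      (IsLocalRing.maximalIdeal ((pullback f₀ pY).presheaf.stalk (vX x))).comap Φi := by
    ext z
    show Φ (γ z) ∈ IsLocalRing.maximalIdeal _ ↔ Φi z ∈ IsLocalRing.maximalIdeal _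
    rw [← hγ, IsLocalRing.mem_maximalIdeal, IsLocalRing.mem_maximalIdeal, mem_nonunits_iff, mem_nonunits_iff,
      isUnit_map_iff]
  have hg : GoodAt Γ(pullback g₀ (D.map k.hom), Vi)
      (((IsLocalRing.maximalIdeal (X.presheaf.stalk x)).comap Φ).comap γ.toRingHom)
      ((appLin h₀ U₀).baseChange (Γ(pullback g₀ (D.map k.hom), Vi) ⊗[Γ(Y₀, V₀)] Γ(X₀, U₀))) := by
    let a'' : Fin m → Γ(pullback g₀ (D.map k.hom), Vi) := a'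
    refine hfin ψ γ (fun z => ?_) a'' ha' fun p hp => ?_
    · show Algebra.TensorProduct.map ψ (AlgHom.id _ _) (z ⊗ₜ (1 : Γ(X₀, U₀))) = ψ z ⊗ₜ (1 : Γ(X₀, U₀))
      simp
    · refine Eq.trans ?_ (hrel' p hp)
      rw [MvPolynomial.aeval_def]
      congr 1
      show (pY.appLE V₀ Vi le_rfl).hom = (pY.app V₀).hom
      rw [Scheme.Hom.app_eq_appLE]
  convert hg using 1
  exact hcomap.symm

end Main

end Groth.Agent.SchDom
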