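import Groth.Agent.Lib.SchDom.Alg
import Mathlib.AlgebraicGeometry.Morphisms.Flat
import Mathlib.AlgebraicGeometry.Morphisms.FinitePresentation
import Mathlib.AlgebraicGeometry.Pullbacks

/-!
# Schematically dominant families and flat base change
-/

universe u

open AlgebraicGeometry CategoryTheory Limits TensorProduct

namespace Groth.Agent.SchDom

/-- The family kills no nonzero section. -/
def Dom {X : Scheme.{u}} {ι : Type u} {Z : ι → Scheme.{u}} (f : ∀ i, Z i ⟶ X) : Prop :=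
  ∀ (V : X.Opens) (t : Γ(X, V)), (∀ i, (f i).app V t = 0) → t = 0

variable {X : Scheme.{u}}

theorem appLE_eq_zero_of_app_eq_zero {Z : Scheme.{u}} (f : Z ⟶ X) {V : X.Opens} {Q : Z.Opens}
    (e : Q ≤ f ⁻¹ᵁ V) (t : Γ(X, V)) (ht : f.app V t = 0) : f.appLE V Q e t = 0 := by
  rw [Scheme.Hom.appLE, CommRingCat.comp_apply, ht, map_zero]

theorem appLE_comp_eq_zero {Z T : Scheme.{u}} (f : Z ⟶ X) (w : T ⟶ Z) {V : X.Opens} {Q : T.Opens}
    (e : Q ≤ (w ≫ f) ⁻¹ᵁ V) (t : Γ(X, V)) (ht : f.app V t = 0) : (w ≫ f).appLE V Q e t = 0 := by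
  rw [Scheme.Hom.comp_appLE, CommRingCat.comp_apply, ht, map_zero]

/-- A section is zero if it is zero near each point. -/
theorem eq_zero_of_locally {V : X.Opens} (t : Γ(X, V))
    (h : ∀ x ∈ V, ∃ (W : X.Opens) (e : W ≤ V), x ∈ W ∧ X.presheaf.map (homOfLE e).op t = 0) :
    t = 0 := by
  choose W hWV hxW hW using h
  refine X.sheaf.eq_of_locally_eq' (fun x : V => W x x.2) V (fun x => homOfLE (hWV x x.2))
    (fun y hy => TopologicalSpace.Opens.mem_iSup.2 ⟨⟨y, hy⟩, hxW y hy⟩) t 0 fun x => ?_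
  rw [map_zero]
  exact hW x x.2

/-- The value of a map into an affine open on global sections. -/
theorem appLE_specMap_fromSpec {W : X.Opens} (hW : IsAffineOpen W) {R : CommRingCat.{u}}
    (φ : Γ(X, W) ⟶ R) (e) (t : Γ(X, W)) :
    (Spec.map φ ≫ hW.fromSpec).appLE W ⊤ e t = (Scheme.ΓSpecIso R).inv (φ t) := by
  have h1 : hW.fromSpec.appLE W ⊤ (by rw [hW.fromSpec_preimage_self]) = (Scheme.ΓSpecIso Γ(X, W)).inv := by
    rw [Scheme.Hom.appLE, hW.fromSpec_app_self, Category.assoc, ← Functor.map_comp,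
      Subsingleton.elim (_ ≫ _) (𝟙 _), CategoryTheory.Functor.map_id, Category.comp_id]
  rw [← Scheme.Hom.appLE_comp_appLE (Spec.map φ) hW.fromSpec W ⊤ ⊤ (by rw [hW.fromSpec_preimage_self])
      (by simp), h1, ← CommRingCat.comp_apply,
    show (Scheme.ΓSpecIso Γ(X, W)).inv ≫ (Spec.map φ).appLE ⊤ ⊤ (by simp) = φ ≫ (Scheme.ΓSpecIso R).inv
      from by rw [Scheme.ΓSpecIso_inv_naturality]; simp [Scheme.Hom.appLE, Scheme.Hom.appTop]]

/-- Vanishing of a section through a map from an affine scheme. -/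
theorem eq_zero_of_appLE {W V : X.Opens} (hW : IsAffineOpen W) (hWV : W ≤ V) {R : CommRingCat.{u}}
    (φ : Γ(X, W) ⟶ R) (t : Γ(X, V)) (e) (h : (Spec.map φ ≫ hW.fromSpec).appLE V ⊤ e t = 0) :
    φ (X.presheaf.map (homOfLE hWV).op t) = 0 := by
  have hinj : Function.Injective (Scheme.ΓSpecIso R).inv :=
    (ConcreteCategory.bijective_of_isIso (Scheme.ΓSpecIso R).inv).1
  apply hinj
  rw [map_zero, ← appLE_specMap_fromSpec hW φ (by simp [hW.fromSpec_preimage_self])]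
  rw [← h, ← CommRingCat.comp_apply, Scheme.Hom.map_appLE]

variable {ι : Type u} {Z : ι → Scheme.{u}} {f : ∀ i, Z i ⟶ X}

/-- A dominant family separates sections after localizing. -/
theorem Dom.sep (hf : Dom f) {U : X.Opens} (hU : IsAffineOpen U) (a n : Γ(X, U))
    (h : ∀ (i : ι) (Q : (Z i).Opens) (e : Q ≤ (f i) ⁻¹ᵁ U), IsAffineOpen Q →
      ∃ k : ℕ, (f i).appLE U Q e (a ^ k * n) = 0) :
    ∃ k : ℕ, a ^ k * n = 0 := by
  have h0 : X.presheaf.map (homOfLE (X.basicOpen_le a)).op n = 0 := by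
    refine hf _ _ fun i => eq_zero_of_locally _ fun z hz => ?_
    obtain ⟨Q, hQ, hzQ, hle'⟩ := exists_isAffineOpen_mem_and_subset (X := Z i)
      (x := z) (U := (f i) ⁻¹ᵁ U) (X.basicOpen_le a hz)
    have hle : Q ≤ (f i) ⁻¹ᵁ U := hle'
    obtain ⟨k, hk⟩ := h i Q hle hQ
    have hb : (Z i).basicOpen ((f i).appLE U Q hle a) = Q ⊓ (f i) ⁻¹ᵁ X.basicOpen a := by
      rw [Scheme.Hom.appLE, CommRingCat.comp_apply, Scheme.basicOpen_res, Scheme.preimage_basicOpen]
    refine ⟨(Z i).basicOpen ((f i).appLE U Q hle a), hb.le.trans inf_le_right, by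
      rw [hb]; exact ⟨hzQ, hz⟩, ?_⟩
    set W := (Z i).basicOpen ((f i).appLE U Q hle a) with hWdef
    have hWQ : W ≤ Q := (Z i).basicOpen_le _
    have key : (f i).appLE U W (hWQ.trans hle) a ^ k * (f i).appLE U W (hWQ.trans hle) n = 0 := by
      have := congrArg ((Z i).presheaf.map (homOfLE hWQ).op) hk
      rw [map_zero, ← CommRingCat.comp_apply, Scheme.Hom.appLE_map, map_mul, map_pow] at this
      exact this
    have hu : IsUnit ((f i).appLE U W (hWQ.trans hle) a) := by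
      have := RingedSpace.isUnit_res_basicOpen (Z i).toRingedSpace ((f i).appLE U Q hle a)
      rw [← Scheme.Hom.appLE_map (f i) hle (homOfLE hWQ).op, CommRingCat.comp_apply]
      exact this
    rw [(hu.pow k).mul_right_eq_zero] at key
    rw [← key]
    exact ConcreteCategory.congr_hom
      (Scheme.Hom.map_appLE (f i) (hb.le.trans inf_le_right) (homOfLE (X.basicOpen_le a)).op) n
  haveI := hU.isLocalization_basicOpen a
  obtain ⟨⟨_, k, rfl⟩, hk⟩ := (IsLocalization.map_eq_zero_iff (Submonoid.powers a)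
    Γ(X, X.basicOpen a) n).1 h0
  exact ⟨k, hk⟩

/-- Schematically dominant families stay so after flat base change of finite presentation. -/
theorem Dom.baseChange (hf : Dom f) {X' : Scheme.{u}} (g : X' ⟶ X) [Flat g]
    [LocallyOfFinitePresentation g] : Dom fun i => pullback.snd (f i) g := by
  intro V t ht
  refine eq_zero_of_locally t fun x hx => ?_
  obtain ⟨U, hU, hxU, -⟩ := exists_isAffineOpen_mem_and_subset (X := X) (x := g x) (U := ⊤) trivial
  obtain ⟨W, hW, hxW, hle⟩ := exists_isAffineOpen_mem_and_subset (X := X') (x := x) (U := V ⊓ g ⁻¹ᵁ U)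
    ⟨hx, hxU⟩
  have hWV : W ≤ V := hle.trans inf_le_left
  have hWU : W ≤ g ⁻¹ᵁ U := hle.trans inf_le_right
  refine ⟨W, hWV, hxW, ?_⟩
  have hflat : (g.appLE U W hWU).hom.Flat :=
    HasRingHomProperty.appLE (P := @Flat) g inferInstance ⟨U, hU⟩ ⟨W, hW⟩ hWU
  have hfp : (g.appLE U W hWU).hom.FinitePresentation :=
    HasRingHomProperty.appLE (P := @LocallyOfFinitePresentation) g inferInstance ⟨U, hU⟩ ⟨W, hW⟩ hWU
  letI := (g.appLE U W hWU).hom.toAlgebra
  haveI : Module.Flat Γ(X, U) Γ(X', W) := hflat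
  haveI : Algebra.FinitePresentation Γ(X, U) Γ(X', W) := hfp
  let J := Σ i, {Q : (Z i).Opens // IsAffineOpen Q ∧ Q ≤ (f i) ⁻¹ᵁ U}
  letI alg : ∀ j : J, Algebra Γ(X, U) Γ(Z j.1, j.2.1) := fun j =>
    ((f j.1).appLE U j.2.1 j.2.2.2).hom.toAlgebra
  refine eq_zero_of_flat_fp (fun j : J => Γ(Z j.1, j.2.1))
    (fun a n hn => hf.sep hU a n fun i Q e hQ => hn ⟨i, Q, hQ, e⟩) _ fun j => ?_
  obtain ⟨i, Q, hQ, e⟩ := j
  letI := ((f i).appLE U Q e).hom.toAlgebra
  let T := Γ(Z i, Q) ⊗[Γ(X, U)] Γ(X', W)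
  let φ : Γ(Z i, Q) ⟶ CommRingCat.of T :=
    CommRingCat.ofHom (Algebra.TensorProduct.includeLeft (S := Γ(X, U))).toRingHom
  let ψ : Γ(X', W) ⟶ CommRingCat.of T :=
    CommRingCat.ofHom (Algebra.TensorProduct.includeRight (R := Γ(X, U)) (A := Γ(Z i, Q))).toRingHom
  have hcomp : (f i).appLE U Q e ≫ φ = g.appLE U W hWU ≫ ψ := by
    refine CommRingCat.hom_ext (RingHom.ext fun a => ?_)
    show (algebraMap Γ(X, U) Γ(Z i, Q) a) ⊗ₜ[Γ(X, U)] (1 : Γ(X', W)) =
      (1 : Γ(Z i, Q)) ⊗ₜ[Γ(X, U)] (algebraMap Γ(X, U) Γ(X', W) a)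
    rw [Algebra.algebraMap_eq_smul_one, Algebra.algebraMap_eq_smul_one, TensorProduct.smul_tmul]
  have hsq : (Spec.map φ ≫ hQ.fromSpec) ≫ f i = (Spec.map ψ ≫ hW.fromSpec) ≫ g := by
    rw [Category.assoc, Category.assoc, ← hU.SpecMap_appLE_fromSpec (f i) hQ e,
      ← hU.SpecMap_appLE_fromSpec g hW hWU, ← Spec.map_comp_assoc, ← Spec.map_comp_assoc, hcomp]
  have hb : (Spec.map ψ ≫ hW.fromSpec) = pullback.lift _ _ hsq ≫ pullback.snd (f i) g :=
    (pullback.lift_snd _ _ _).symm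
  have he : (⊤ : (Spec (CommRingCat.of T)).Opens) ≤ (Spec.map ψ ≫ hW.fromSpec) ⁻¹ᵁ V := by
    rw [Scheme.Hom.comp_preimage]
    exact fun y _ => hWV (show _ ∈ W from hW.range_fromSpec.subset ⟨_, rfl⟩)
  refine eq_zero_of_appLE hW hWV ψ t he ?_
  have hz : ∀ (b : Spec (CommRingCat.of T) ⟶ X'), b = pullback.lift _ _ hsq ≫ pullback.snd (f i) g →
      ∀ he' : ⊤ ≤ b ⁻¹ᵁ V, b.appLE V ⊤ he' t = 0 := by
    rintro _ rfl he'
    exact appLE_comp_eq_zero _ _ _ t (ht i)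
  exact hz _ hb he

end Groth.Agent.SchDom
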