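import Groth.Agent.Lib.SchDom.Glue
import Mathlib.AlgebraicGeometry.Morphisms.Flat

/-!
# Dominant families in affine charts
-/

universe u

open AlgebraicGeometry CategoryTheory Limits TensorProduct

namespace Groth.Agent.SchDom

theorem flat_of_comp_isOpenImmersion {W Y S : Scheme.{u}} (φ : W ⟶ Y) (j : Y ⟶ S) [IsOpenImmersion j]
    [Flat (φ ≫ j)] : Flat φ := by
  have sq : IsPullback (𝟙 W) φ (φ ≫ j) j :=
    IsPullback.of_horiz_isIso_mono ⟨by rw [Category.id_comp]⟩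
  exact MorphismProperty.of_isPullback sq inferInstance

variable {X S S' : Scheme.{u}} {p : X ⟶ S} {g : S' ⟶ S} {A B A' : Type u} [CommRing A] [CommRing B]
  [CommRing A'] [Algebra A B] [Algebra A A'] (c : Chart p g A B A')

/-- The affine pieces of a family over a chart. -/
def Pieces {ι : Type u} {Z : ι → Scheme.{u}} (f : ∀ i, Z i ⟶ X) (U : X.Opens) : Type u :=
  Σ i, {Q : (Z i).Opens // IsAffineOpen Q ∧ Q ≤ (f i) ⁻¹ᵁ U}

theorem Chart.exists_piece {Z : Scheme.{u}} (f : Z ⟶ X) {Q : Z.Opens} (hQ : IsAffineOpen Q)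
    (hle : ∀ z ∈ Q, f z ∈ Set.range c.uB) :
    ∃ φ : CommRingCat.of B ⟶ Γ(Z, Q), hQ.fromSpec ≫ f = Spec.map φ ≫ c.uB := by
  haveI := c.openB
  refine ⟨Spec.preimage (IsOpenImmersion.lift c.uB (hQ.fromSpec ≫ f) ?_), ?_⟩
  · rintro _ ⟨z, rfl⟩
    exact hle _ (hQ.range_fromSpec.subset ⟨z, rfl⟩)
  · rw [Spec.map_preimage, IsOpenImmersion.lift_fac]

theorem Chart.flat_piece {Z : Scheme.{u}} (f : Z ⟶ X) [Flat (f ≫ p)] {Q : Z.Opens}
    (hQ : IsAffineOpen Q) (φ : CommRingCat.of B ⟶ Γ(Z, Q)) (hφ : hQ.fromSpec ≫ f = Spec.map φ ≫ c.uB) :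
    RingHom.Flat (φ.hom.comp (algebraMap A B)) := by
  haveI := c.openA
  have h1 : Spec.map (CommRingCat.ofHom (algebraMap A B) ≫ φ) ≫ c.uA = hQ.fromSpec ≫ (f ≫ p) := by
    rw [Spec.map_comp, Category.assoc, c.wB, ← Category.assoc, ← hφ, Category.assoc]
  haveI : Flat (Spec.map (CommRingCat.ofHom (algebraMap A B) ≫ φ) ≫ c.uA) := by
    rw [h1]; infer_instance
  exact (HasRingHomProperty.Spec_iff (P := @Flat)).1 (flat_of_comp_isOpenImmersion _ c.uA)

variable {ι : Type u} {Z : ι → Scheme.{u}} {f : ∀ i, Z i ⟶ X}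

/-- Algebraic separation gives vanishing of sections in the chart. -/
theorem Chart.exists_nhd_eq_zero {J : Type u} (idx : J → ι) (C : J → Type u) [∀ j, CommRing (C j)]
    [∀ j, Algebra B (C j)] [∀ j, Algebra A (C j)] [∀ j, IsScalarTower A B (C j)]
    (uC : ∀ j, Spec (CommRingCat.of (C j)) ⟶ Z (idx j)) [∀ j, IsOpenImmersion (uC j)]
    (hC : ∀ j, uC j ≫ f (idx j) = Spec.map (CommRingCat.ofHom (algebraMap B (C j))) ≫ c.uB)
    (hsep : ∀ h m : B ⊗[A] A', (∀ j, ∃ l : ℕ, Chart.mapAlg A B (C j) A' (h ^ l * m) = 0) →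
      ∃ l : ℕ, h ^ l * m = 0)
    {V : (pullback p g).Opens} (t : Γ(pullback p g, V)) (ht : ∀ i, (Chart.mapB (f i)).app V t = 0)
    (x : (pullback p g : Scheme.{u})) (hx : x ∈ V) (hxj : x ∈ Set.range c.j) :
    ∃ (W : (pullback p g : Scheme.{u}).Opens) (e : W ≤ V),
      x ∈ W ∧ (pullback p g).presheaf.map (homOfLE e).op t = 0 := by
  obtain ⟨y, rfl⟩ := hxj
  obtain ⟨_, ⟨_, ⟨h, rfl⟩, rfl⟩, hyh, hhV⟩ :=
    PrimeSpectrum.isBasis_basic_opens.exists_subset_of_mem_open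
      (show y ∈ c.j ⁻¹' (V : Set _) from hx) (V.2.preimage c.j.continuous)
  have htop : (⊤ : (Spec _).Opens) ≤ c.jL h ⁻¹ᵁ V := fun z _ => by
    obtain ⟨y', hy', hy'z⟩ := c.exists_of_range_jL ⟨z, rfl⟩
    show c.jL h z ∈ V
    rw [← hy'z]; exact hhV hy'
  have hle : (c.jL h).opensRange ≤ V := by rintro _ ⟨z, rfl⟩; exact htop (x := z) trivial
  refine ⟨_, hle, c.mem_range_jL hyh, ?_⟩
  apply (appLE_opensRange_bijective (c.jL h) fun w _ => ⟨w, rfl⟩).1
  rw [map_zero, ← CommRingCat.comp_apply, Scheme.Hom.map_appLE]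
  let s : Localization.Away h := (Scheme.ΓSpecIso _).hom ((c.jL h).appLE V ⊤ htop t)
  obtain ⟨⟨m, ⟨_, r, rfl⟩⟩, hsm⟩ := IsLocalization.surj (Submonoid.powers h) s
  obtain ⟨l, hl⟩ := hsep h m fun j =>
    c.exists_pow_mul_mapAlg_eq_zero (f (idx j)) t (ht (idx j)) h htop m r hsm (uC j) (hC j)
  have hu : IsUnit (algebraMap (B ⊗[A] A') (Localization.Away h) h) :=
    IsLocalization.Away.algebraMap_isUnit h
  have hm : algebraMap (B ⊗[A] A') (Localization.Away h) m = 0 :=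
    (hu.pow l).mul_right_eq_zero.1 (by rw [← map_pow, ← map_mul, hl, map_zero])
  rw [hm, map_pow] at hsm
  have hs : s = 0 := (hu.pow r).mul_left_eq_zero.1 hsm
  apply (ConcreteCategory.bijective_of_isIso
    (Scheme.ΓSpecIso (CommRingCat.of (Localization.Away h))).hom).1
  rw [map_zero]
  exact hs

/-- Dominance gives algebraic separation in the chart. -/
theorem Chart.sep_of_dom (hdom : Dom fun i => Chart.mapB (p := p) (g := g) (f i))
    (h m : B ⊗[A] A')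
    (hm : ∀ (i : ι) (Q : (Z i).Opens) (hQ : IsAffineOpen Q), (∀ z ∈ Q, f i z ∈ Set.range c.uB) →
      ∀ (φ : CommRingCat.of B ⟶ Γ(Z i, Q)), hQ.fromSpec ≫ f i = Spec.map φ ≫ c.uB →
        letI : Algebra B Γ(Z i, Q) := φ.hom.toAlgebra
        letI : Algebra A Γ(Z i, Q) := (φ.hom.comp (algebraMap A B)).toAlgebra
        haveI : IsScalarTower A B Γ(Z i, Q) := IsScalarTower.of_algebraMap_eq fun _ => rfl
        ∃ l : ℕ, Chart.mapAlg A B Γ(Z i, Q) A' (h ^ l * m) = 0) :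
    ∃ l : ℕ, h ^ l * m = 0 := by
  have e : (⊤ : (Spec _).Opens) ≤ c.jL h ⁻¹ᵁ (c.jL h).opensRange := fun z _ => ⟨z, rfl⟩
  obtain ⟨t, ht⟩ := (appLE_opensRange_bijective (c.jL h) e).2
    ((Scheme.ΓSpecIso (CommRingCat.of (Localization.Away h))).inv (algebraMap _ (Localization.Away h) m))
  have ht' : (Scheme.ΓSpecIso (CommRingCat.of (Localization.Away h))).hom
      ((c.jL h).appLE (c.jL h).opensRange ⊤ e t) = algebraMap _ (Localization.Away h) m := by
    rw [ht, Iso.inv_hom_id_apply]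
  have h0 : t = 0 := hdom _ t fun i => eq_zero_of_locally _ fun z hz => by
    have hzU : f i (pullback.fst (f i ≫ p) g z) ∈ Set.range c.uB := by
      obtain ⟨y', -, hy'z⟩ := c.exists_of_range_jL hz
      have h1 : c.j y' ∈ Set.range c.j := ⟨y', rfl⟩
      rw [c.range_j] at h1
      have h2 : pullback.fst p g (Chart.mapB (f i) z) = f i (pullback.fst (f i ≫ p) g z) := by
        rw [← Scheme.Hom.comp_apply, pullback.lift_fst, Scheme.Hom.comp_apply]
      rw [← h2, ← hy'z]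
      exact h1.1
    haveI := c.openB
    obtain ⟨Q, hQ, hzQ, hle⟩ := exists_isAffineOpen_mem_and_subset (X := Z i)
      (x := pullback.fst (f i ≫ p) g z) (U := (f i) ⁻¹ᵁ c.uB.opensRange) hzU
    obtain ⟨φ, hφ⟩ := c.exists_piece (f i) hQ fun w hw => hle hw
    letI : Algebra B Γ(Z i, Q) := φ.hom.toAlgebra
    letI : Algebra A Γ(Z i, Q) := (φ.hom.comp (algebraMap A B)).toAlgebra
    haveI : IsScalarTower A B Γ(Z i, Q) := IsScalarTower.of_algebraMap_eq fun _ => rfl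
    obtain ⟨l, hl⟩ := hm i Q hQ (fun w hw => hle hw) φ hφ
    obtain ⟨W, eW, hzW, hW⟩ := c.exists_nhd_app_eq_zero (f i) m t e ht' hl hQ.fromSpec hφ z hz
      (hQ.range_fromSpec.symm.subset hzQ)
    exact ⟨W, eW, hzW, hW⟩
  rw [h0, map_zero, map_zero] at ht'
  obtain ⟨⟨_, l, rfl⟩, hl⟩ :=
    (IsLocalization.map_eq_zero_iff (Submonoid.powers h) _ m).1 ht'.symm
  exact ⟨l, hl⟩

end Groth.Agent.SchDom
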