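import Groth.Agent.Lib.SchDom.Alg
import Groth.Agent.Lib.FlatH4.InjCrit
import Mathlib.RingTheory.Filtration
import Mathlib.RingTheory.LocalRing.ResidueField.Ideal
import Mathlib.RingTheory.Localization.FractionRing
import Mathlib.Algebra.Module.LocalizedModule.IsLocalization

/-!
# Fibrewise criterion for universally separating families (Noetherian source)
-/

universe u

namespace Groth.Agent.SchDom

open TensorProduct

variable {A B : Type u} [CommRing A] [CommRing B] [Algebra A B]

theorem one_tmul_eq_zero_iff_mem_map (I : Ideal A) (x : B) :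
    (1 : A ⧸ I) ⊗ₜ[A] x = 0 ↔ x ∈ I.map (algebraMap A B) := by
  rw [FlatH4.one_tmul_eq_zero_iff, Ideal.smul_top_eq_map]
  rfl

/-- Vanishing in the fibre at `p`. -/
theorem exists_smul_mem_map_of_one_tmul_eq_zero (p : Ideal A) [p.IsPrime] (x : B)
    (hx : (1 : p.ResidueField) ⊗ₜ[A] x = 0) : ∃ a ∉ p, a • x ∈ p.map (algebraMap A B) := by
  have heq : Algebra.algebraMapSubmonoid (A ⧸ p) p.primeCompl = nonZeroDivisors (A ⧸ p) := by
    ext y
    rw [mem_nonZeroDivisors_iff_ne_zero]
    constructor
    · rintro ⟨a, ha, rfl⟩ h0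
      exact ha (Ideal.Quotient.eq_zero_iff_mem.1 h0)
    · intro hy
      obtain ⟨a, rfl⟩ := Ideal.Quotient.mk_surjective y
      exact ⟨a, fun ha => hy (Ideal.Quotient.eq_zero_iff_mem.2 ha), rfl⟩
  haveI : IsLocalization (Algebra.algebraMapSubmonoid (A ⧸ p) p.primeCompl) p.ResidueField := by
    rw [heq]; exact inferInstanceAs (IsFractionRing (A ⧸ p) p.ResidueField)
  haveI : IsLocalizedModule p.primeCompl (IsScalarTower.toAlgHom A (A ⧸ p) p.ResidueField).toLinearMap :=
    isLocalizedModule_iff_isLocalization.2 ‹_›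
  have h0 : (IsScalarTower.toAlgHom A (A ⧸ p) p.ResidueField).toLinearMap.rTensor B
      ((1 : A ⧸ p) ⊗ₜ[A] x) = 0 := by
    rw [LinearMap.rTensor_tmul, AlgHom.toLinearMap_apply, map_one]; exact hx
  obtain ⟨⟨a, ha⟩, hax⟩ := (IsLocalizedModule.eq_zero_iff p.primeCompl
    (AlgebraTensorModule.rTensor A B (IsScalarTower.toAlgHom A (A ⧸ p) p.ResidueField).toLinearMap)).1 h0
  refine ⟨a, ha, (one_tmul_eq_zero_iff_mem_map p _).1 ?_⟩
  rw [tmul_smul]
  exact hax

variable {ι : Type u} (C : ι → Type u) [∀ i, CommRing (C i)] [∀ i, Algebra B (C i)]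
  [∀ i, Algebra A (C i)] [∀ i, IsScalarTower A B (C i)]

/-- The image in the `i`-th member. -/
noncomputable abbrev toMember (N : Type u) [AddCommGroup N] [Module A N] (i : ι) :
    N ⊗[A] B →ₗ[A] N ⊗[A] C i :=
  (IsScalarTower.toAlgHom A B (C i)).toLinearMap.lTensor N

variable [∀ i, Module.Flat A (C i)] [IsNoetherianRing B]

/-- Fibrewise separation gives separation modulo every ideal of the base. -/
theorem mem_map_of_fibre
    (hf : ∀ (p : Ideal A) [p.IsPrime] (x : p.ResidueField ⊗[A] B),
      (∀ i, toMember C p.ResidueField i x = 0) → x = 0)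
    (I : Ideal A) (x : B) (hx : ∀ i, algebraMap B (C i) x ∈ I.map (algebraMap A (C i))) :
    x ∈ I.map (algebraMap A B) := by
  suffices ∀ (J : Ideal B) (I : Ideal A), I.map (algebraMap A B) = J →
      ∀ x : B, (∀ i, algebraMap B (C i) x ∈ I.map (algebraMap A (C i))) → x ∈ J from this _ I rfl x hx
  clear hx x I
  intro J
  induction J using WellFoundedGT.induction with
  | _ J ih =>
  intro I₀ hI₀ x hx₀
  -- replace the ideal by the contraction of `J`
  let I := J.comap (algebraMap A B)
  have hIJ : I.map (algebraMap A B) = J :=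
    le_antisymm Ideal.map_comap_le (hI₀.ge.trans (Ideal.map_mono (by
      show I₀ ≤ J.comap _
      rw [← hI₀]; exact Ideal.le_comap_map)))
  have hx : ∀ i, algebraMap B (C i) x ∈ I.map (algebraMap A (C i)) := fun i =>
    Ideal.map_mono (show I₀ ≤ J.comap _ by rw [← hI₀]; exact Ideal.le_comap_map) (hx₀ i)
  by_cases htop : I = ⊤
  · rw [← hIJ, htop, Ideal.map_top]; exact Submodule.mem_top
  have hlt : ∀ I' : Ideal A, I ≤ I' → ∀ a ∈ I', a ∉ I → J < I'.map (algebraMap A B) := by
    intro I' hle a ha haI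
    refine lt_of_le_of_ne (hIJ.ge.trans (Ideal.map_mono hle)) fun he => haI ?_
    show algebraMap A B a ∈ J
    rw [he]; exact Ideal.mem_map_of_mem _ ha
  by_cases hI : I.IsPrime
  · -- vanishing in the fibre
    have h1 : (1 : I.ResidueField) ⊗ₜ[A] x = 0 := hf I _ fun i => by
      show (1 : I.ResidueField) ⊗ₜ[A] algebraMap B (C i) x = 0
      have := (one_tmul_eq_zero_iff_mem_map I _).2 (hx i)
      have := congrArg ((IsScalarTower.toAlgHom A (A ⧸ I) I.ResidueField).toLinearMap.rTensor (C i)) this
      rwa [LinearMap.rTensor_tmul, AlgHom.toLinearMap_apply, map_one, map_zero] at this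
    obtain ⟨a, ha, hax⟩ := exists_smul_mem_map_of_one_tmul_eq_zero I x h1
    rw [hIJ, Algebra.smul_def] at hax
    have hn : ∀ n : ℕ, x ∈ (I ⊔ Ideal.span {a ^ n}).map (algebraMap A B) := by
      intro n
      rcases Nat.eq_zero_or_pos n with rfl | hn
      · simp [Ideal.map_top]
      · exact ih _ (hlt _ le_sup_left _ (Ideal.mem_sup_right (Ideal.mem_span_singleton_self (a ^ n)))
          fun h => ha (hI.mem_of_pow_mem _ h)) _ rfl x fun i => Ideal.map_mono le_sup_left (hx i)
    have hmem : Ideal.Quotient.mk J x ∈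
        (⨅ n : ℕ, (Ideal.span {algebraMap A B a}) ^ n • ⊤ : Submodule B (B ⧸ J)) := by
      rw [Submodule.mem_iInf]
      intro n
      obtain ⟨y, hy, z, hz, hyz⟩ := Submodule.mem_sup.1 (by
        have := hn n
        rwa [Ideal.map_sup, hIJ, Ideal.map_span, Set.image_singleton, map_pow] at this :
          x ∈ J ⊔ Ideal.span {algebraMap A B a ^ n})
      obtain ⟨c, rfl⟩ := Ideal.mem_span_singleton'.1 hz
      rw [← hyz, map_add, Ideal.Quotient.eq_zero_iff_mem.2 hy, zero_add, Ideal.span_singleton_pow,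
        mul_comm c]
      exact Submodule.smul_mem_smul (Ideal.mem_span_singleton_self _) (Submodule.mem_top
        (x := Ideal.Quotient.mk J c))
    obtain ⟨⟨r, hr⟩, hrx⟩ := (Ideal.mem_iInf_smul_pow_eq_bot_iff _ _).1 hmem
    obtain ⟨b, rfl⟩ := Ideal.mem_span_singleton'.1 hr
    have h2 : Ideal.Quotient.mk J (b * (algebraMap A B a * x)) = Ideal.Quotient.mk J x := by
      rw [← hrx, ← mul_assoc]
      rfl
    rw [Ideal.Quotient.eq_zero_iff_mem.2 (Ideal.mul_mem_left _ b hax)] at h2
    exact Ideal.Quotient.eq_zero_iff_mem.1 h2.symm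
  · rw [Ideal.isPrime_iff] at hI
    push Not at hI
    obtain ⟨a, b, hab, ha, hb⟩ := hI htop
    have h1 : x ∈ (I ⊔ Ideal.span {a}).map (algebraMap A B) :=
      ih _ (hlt _ le_sup_left a (Ideal.mem_sup_right (Ideal.mem_span_singleton_self a)) ha) _ rfl x
        fun i => Ideal.map_mono le_sup_left (hx i)
    rw [Ideal.map_sup, hIJ, Ideal.map_span, Set.image_singleton] at h1
    obtain ⟨w, hw, z, hz, rfl⟩ := Submodule.mem_sup.1 h1
    obtain ⟨y, rfl⟩ := Ideal.mem_span_singleton'.1 hz
    refine add_mem hw ?_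
    -- the colon ideal
    let I' : Ideal A := Submodule.comap (LinearMap.mulLeft A a) I
    have hle : I ≤ I' := fun c hc => Ideal.mul_mem_left I a hc
    have hy : y ∈ I'.map (algebraMap A B) := by
      refine ih _ (hlt _ hle b hab hb) _ rfl y fun i => ?_
      have hay : algebraMap B (C i) (algebraMap A B a * y) ∈ I.map (algebraMap A (C i)) := by
        have h2 := hx i
        rw [map_add, mul_comm y] at h2
        refine (Ideal.add_mem_iff_right _ ?_).1 h2
        rw [IsScalarTower.algebraMap_eq A B (C i), ← Ideal.map_map, hIJ]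
        exact Ideal.mem_map_of_mem _ hw
      rw [← one_tmul_eq_zero_iff_mem_map]
      let μ : A ⧸ I' →ₗ[A] A ⧸ I := Submodule.mapQ I' I (LinearMap.mulLeft A a) le_rfl
      have hμ : Function.Injective μ := by
        rw [injective_iff_map_eq_zero]
        intro c hc
        obtain ⟨c, rfl⟩ := Submodule.Quotient.mk_surjective _ c
        rw [Submodule.mapQ_apply, Submodule.Quotient.mk_eq_zero] at hc
        exact (Submodule.Quotient.mk_eq_zero _).2 hc
      apply Module.Flat.rTensor_preserves_injective_linearMap (M := C i) μ hμ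
      rw [map_zero, LinearMap.rTensor_tmul]
      show (Ideal.Quotient.mk I (a * 1)) ⊗ₜ[A] algebraMap B (C i) y = 0
      rw [mul_one, show Ideal.Quotient.mk I a = a • (1 : A ⧸ I) from by
        rw [Algebra.smul_def, mul_one]; rfl, smul_tmul, Algebra.smul_def,
        IsScalarTower.algebraMap_apply A B (C i), ← map_mul]
      exact (one_tmul_eq_zero_iff_mem_map I _).2 hay
    rw [mul_comm]
    have : algebraMap A B a * y ∈ (I.map (algebraMap A B) : Ideal B) := by
      refine Submodule.span_induction (fun v ⟨c, hc, hcv⟩ => ?_) (by simp) (fun u v _ _ hu hv => ?_)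
        (fun r v _ hv => ?_) hy
      · rw [← hcv, ← map_mul]; exact Ideal.mem_map_of_mem _ hc
      · rw [mul_add]; exact add_mem hu hv
      · rw [smul_eq_mul, mul_left_comm]; exact Ideal.mul_mem_left _ r hv
    rwa [hIJ] at this

/-- Fibrewise separation gives separation with coefficients in any module. -/
theorem eq_zero_of_fibre
    (hf : ∀ (p : Ideal A) [p.IsPrime] (x : p.ResidueField ⊗[A] B),
      (∀ i, toMember C p.ResidueField i x = 0) → x = 0)
    (N : Type u) [AddCommGroup N] [Module A N] (z : N ⊗[A] B) (hz : ∀ i, toMember C N i z = 0) :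
    z = 0 := by
  classical
  obtain ⟨T, rfl⟩ := TensorProduct.exists_finset (R := A) z
  -- filtrate by the spans of finite subsets of the coefficients
  suffices ∀ (G : Finset N) (z : (Submodule.span A (G : Set N)) ⊗[A] B),
      (∀ i, toMember C (Submodule.span A (G : Set N)) i z = 0) → z = 0 by
    let N₀ := Submodule.span A ((T.image Prod.fst : Finset N) : Set N)
    have hT : ∀ t ∈ T, t.1 ∈ N₀ := fun t ht => Submodule.subset_span (Finset.mem_image_of_mem _ ht)
    let z₀ : N₀ ⊗[A] B := ∑ t ∈ T.attach, (⟨t.1.1, hT _ t.2⟩ : N₀) ⊗ₜ[A] t.1.2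
    have hz₀ : N₀.subtype.rTensor B z₀ = ∑ t ∈ T, t.1 ⊗ₜ[A] t.2 := by
      rw [map_sum, ← Finset.sum_attach T (fun t => t.1 ⊗ₜ[A] t.2)]
      rfl
    rw [← hz₀, this (T.image Prod.fst) z₀ fun i => ?_, map_zero]
    apply Module.Flat.rTensor_preserves_injective_linearMap (M := C i) _ N₀.injective_subtype
    rw [map_zero, ← hz i, ← hz₀]
    rw [← LinearMap.comp_apply, LinearMap.rTensor_comp_lTensor, ← LinearMap.lTensor_comp_rTensor,
      LinearMap.comp_apply]
  intro G
  induction G using Finset.induction_on with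
  | empty =>
    intro z _
    haveI : Subsingleton (Submodule.span A ((∅ : Finset N) : Set N)) := by
      simp only [Finset.coe_empty, Submodule.span_empty]; infer_instance
    exact Subsingleton.elim _ _
  | insert n G _ ih =>
    let N₁ := Submodule.span A (G : Set N)
    let N₂ := Submodule.span A ((insert n G : Finset N) : Set N)
    show ∀ z : N₂ ⊗[A] B, (∀ i, toMember C N₂ i z = 0) → z = 0
    intro z hz
    have hle : N₁ ≤ N₂ := Submodule.span_mono (by simp)
    have hn : n ∈ N₂ := Submodule.subset_span (by simp)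
    let i₁₂ : N₁ →ₗ[A] N₂ := Submodule.inclusion hle
    let Q := N₂ ⧸ LinearMap.range i₁₂
    let g : A →ₗ[A] Q := LinearMap.toSpanSingleton A Q (Submodule.Quotient.mk ⟨n, hn⟩)
    have hg : Function.Surjective g := by
      intro q
      obtain ⟨⟨w, hw⟩, rfl⟩ := Submodule.Quotient.mk_surjective _ q
      simp only [N₂, Finset.coe_insert, Submodule.mem_span_insert] at hw
      obtain ⟨a, v, hv, hwv⟩ := hw
      refine ⟨a, ?_⟩
      rw [LinearMap.toSpanSingleton_apply, ← Submodule.Quotient.mk_smul, Submodule.Quotient.eq]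
      exact ⟨-⟨v, hv⟩, Subtype.ext (by simp [i₁₂, hwv])⟩
    -- the image in the cyclic quotient vanishes
    have hq : ((LinearMap.range i₁₂).mkQ.rTensor B) z = 0 := by
      obtain ⟨w, hw⟩ := LinearMap.rTensor_surjective B hg ((LinearMap.range i₁₂).mkQ.rTensor B z)
      obtain ⟨x, rfl⟩ : ∃ x : B, (1 : A) ⊗ₜ[A] x = w := ⟨TensorProduct.lid A B w, by
        apply (TensorProduct.lid A B).injective; simp⟩
      rw [← hw]
      let K : Ideal A := LinearMap.ker g
      have hx : x ∈ Ideal.map (algebraMap A B) K := by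
        refine mem_map_of_fibre C hf K x fun i => ?_
        rw [← one_tmul_eq_zero_iff_mem_map]
        let e : (A ⧸ K) ≃ₗ[A] Q := g.quotKerEquivOfSurjective hg
        apply (LinearEquiv.rTensor (C i) e).injective
        rw [map_zero]
        have h2 := congrArg ((LinearMap.range i₁₂).mkQ.rTensor (C i)) (hz i)
        rw [map_zero, ← LinearMap.comp_apply, LinearMap.rTensor_comp_lTensor,
          ← LinearMap.lTensor_comp_rTensor, LinearMap.comp_apply, ← hw] at h2
        exact h2
      rw [← one_tmul_eq_zero_iff_mem_map] at hx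
      have := congrArg ((g.quotKerEquivOfSurjective hg).toLinearMap.rTensor B) hx
      rw [map_zero] at this
      exact this
    have hex : Function.Exact i₁₂ (LinearMap.range i₁₂).mkQ :=
      LinearMap.exact_map_mkQ_range i₁₂
    obtain ⟨y, hy⟩ := (_root_.rTensor_exact B hex (Submodule.mkQ_surjective _) z).1 hq
    rw [← hy, ih y fun i => ?_, map_zero]
    apply Module.Flat.rTensor_preserves_injective_linearMap (M := C i) i₁₂ (Submodule.inclusion_injective hle)
    rw [map_zero, ← hz i, ← hy, ← LinearMap.comp_apply, LinearMap.rTensor_comp_lTensor,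
      ← LinearMap.lTensor_comp_rTensor, LinearMap.comp_apply]

end Groth.Agent.SchDom
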