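import Mathlib.AlgebraicGeometry.Fiber
import Mathlib.AlgebraicGeometry.OpenImmersion
import Mathlib.RingTheory.LocalRing.ResidueField.Ideal
import Mathlib.RingTheory.Flat.Basic
import Mathlib.LinearAlgebra.TensorProduct.Tower
import Mathlib.AlgebraicGeometry.Morphisms.Flat

/-!
# The fibre over a prime of an affine chart
-/

universe u

open AlgebraicGeometry CategoryTheory TensorProduct

namespace Groth.Agent.SchDom

/-- The residue field of a point of an affine chart, as an algebra over the chart. -/
theorem exists_fibre_point {S : Scheme.{u}} {A : CommRingCat.{u}} (uA : Spec A ⟶ S) [IsOpenImmersion uA]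
    (q : Ideal A) [q.IsPrime] :
    ∃ ψ : A ⟶ S.residueField (uA ⟨q, inferInstance⟩),
      Spec.map ψ ≫ uA = S.fromSpecResidueField (uA ⟨q, inferInstance⟩) ∧ RingHom.ker ψ.hom = q := by
  let s : S := uA ⟨q, inferInstance⟩
  have hrange : Set.range (S.fromSpecResidueField s) ⊆ Set.range uA := by
    rw [Scheme.range_fromSpecResidueField]
    exact Set.singleton_subset_iff.2 ⟨_, rfl⟩
  refine ⟨Spec.preimage (IsOpenImmersion.lift uA (S.fromSpecResidueField s) hrange), ?_, ?_⟩
  · rw [Spec.map_preimage, IsOpenImmersion.lift_fac]
  · let K := S.residueField s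
    let ψ : A ⟶ K := Spec.preimage (IsOpenImmersion.lift uA (S.fromSpecResidueField s) hrange)
    show RingHom.ker ψ.hom = q
    have h1 : Spec.map ψ (IsLocalRing.closedPoint K) = (⟨q, inferInstance⟩ : PrimeSpectrum A) := by
      apply uA.isOpenEmbedding.injective
      show uA (Spec.map ψ _) = s
      rw [← Scheme.Hom.comp_apply, Spec.map_preimage, IsOpenImmersion.lift_fac]
      exact Scheme.fromSpecResidueField_apply s _
    have h2 := congrArg PrimeSpectrum.asIdeal h1
    refine Eq.trans ?_ h2
    ext a
    exact Iff.intro (fun ha => by
        show ψ a ∈ IsLocalRing.maximalIdeal K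
        rw [show ψ a = 0 from ha]; exact zero_mem _)
      (fun ha => by
        have ha' : ψ a ∈ IsLocalRing.maximalIdeal K := ha
        rw [IsLocalRing.maximalIdeal_eq_bot, Ideal.mem_bot] at ha'
        exact ha')

/-- Extending the base field is injective on fibres. -/
theorem rTensor_fieldExt_injective {A k K : Type u} [CommRing A] [Field k] [Field K] [Algebra A k]
    [Algebra A K] (φ : k →ₐ[A] K) (M : Type u) [AddCommGroup M] [Module A M] :
    Function.Injective (φ.toLinearMap.rTensor M) := by
  letI : Algebra k K := φ.toRingHom.toAlgebra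
  haveI : IsScalarTower A k K := IsScalarTower.of_algebraMap_eq fun a => (φ.commutes a).symm
  let c := AlgebraTensorModule.cancelBaseChange A k k K M
  have key : ∀ z, φ.toLinearMap.rTensor M z = c ((1 : K) ⊗ₜ[k] z) := by
    intro z
    induction z using TensorProduct.induction_on with
    | zero => simp
    | add a b ha hb => simp only [map_add, tmul_add, ha, hb]
    | tmul a b => simp [c, Algebra.smul_def]; rfl
  intro a b hab
  rw [key, key] at hab
  have := c.injective hab
  have h1 : Function.Injective ((Algebra.linearMap k K).rTensor (k ⊗[A] M)) :=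
    Module.Flat.rTensor_preserves_injective_linearMap _ (algebraMap k K).injective
  apply (TensorProduct.lid k (k ⊗[A] M)).symm.injective
  apply h1
  simpa using this

end Groth.Agent.SchDom
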