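import Groth.Agent.Lib.SchDom.Alg
import Mathlib.RingTheory.Localization.Away.AdjoinRoot
import Mathlib.RingTheory.Adjoin.FG

/-!
# Separating families and field extensions
-/

universe u

namespace Groth.Agent.SchDom

open TensorProduct

/-- Separation of a family is kept by an extension of the ground field. -/
theorem sep_field_extension {k A B : Type u} [Field k] [CommRing A] [Algebra k A] [CommRing B] [Algebra k B]
    {J : Type u} (C : J → Type u) [∀ j, CommRing (C j)] [∀ j, Algebra A (C j)] [∀ j, Algebra k (C j)]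
    [∀ j, IsScalarTower k A (C j)]
    (hsep : ∀ a n : A, (∀ j, ∃ l : ℕ, algebraMap A (C j) (a ^ l * n) = 0) → ∃ l : ℕ, a ^ l * n = 0)
    (h m : A ⊗[k] B) (hC : ∀ j, ∃ l : ℕ,
      (Algebra.TensorProduct.map (IsScalarTower.toAlgHom k A (C j)) (AlgHom.id k B)) (h ^ l * m) = 0) :
    ∃ l : ℕ, h ^ l * m = 0 := by
  classical
  obtain ⟨Th, hTh⟩ := TensorProduct.exists_finset (R := k) h
  obtain ⟨Tm, hTm⟩ := TensorProduct.exists_finset (R := k) m
  let G : Finset B := Th.image Prod.snd ∪ Tm.image Prod.snd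
  let B₀ : Subalgebra k B := Algebra.adjoin k (G : Set B)
  haveI : Algebra.FiniteType k B₀ := B₀.fg_iff_finiteType.1 (Subalgebra.fg_adjoin_finset G)
  haveI : Algebra.FinitePresentation k B₀ := Algebra.FinitePresentation.of_finiteType.1 inferInstance
  let ι₀ : A ⊗[k] B₀ →ₐ[k] A ⊗[k] B := Algebra.TensorProduct.map (AlgHom.id k A) B₀.val
  have hlift : ∀ (T : Finset (A × B)), T.image Prod.snd ⊆ G →
      ∃ z, ι₀ z = ∑ i ∈ T, i.1 ⊗ₜ[k] i.2 := by
    intro T hT
    refine ⟨∑ i ∈ T.attach, i.1.1 ⊗ₜ[k] (⟨i.1.2, Algebra.subset_adjoin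
      (hT (Finset.mem_image_of_mem _ i.2))⟩ : B₀), ?_⟩
    rw [map_sum, ← Finset.sum_attach T (fun i => i.1 ⊗ₜ[k] i.2)]
    exact Finset.sum_congr rfl fun i _ => by simp [ι₀]
  obtain ⟨h₀, hh₀⟩ := hlift Th Finset.subset_union_left
  obtain ⟨m₀, hm₀⟩ := hlift Tm Finset.subset_union_right
  rw [← hTh] at hh₀
  rw [← hTm] at hm₀
  let L := Localization.Away h₀
  haveI : Algebra.FinitePresentation (A ⊗[k] B₀) L := IsLocalization.Away.finitePresentation h₀
  haveI : Algebra.FinitePresentation A L := Algebra.FinitePresentation.trans A (A ⊗[k] B₀) L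
  haveI : Module.Flat (A ⊗[k] B₀) L := IsLocalization.flat L (Submonoid.powers h₀)
  haveI : Module.Flat A L := Module.Flat.trans A (A ⊗[k] B₀) L
  have hzero : algebraMap (A ⊗[k] B₀) L m₀ = 0 := by
    refine eq_zero_of_flat_fp C hsep _ fun j => ?_
    obtain ⟨l, hl⟩ := hC j
    let χ : C j ⊗[k] B₀ →ₐ[k] C j ⊗[A] L :=
      Algebra.TensorProduct.lift (IsScalarTower.toAlgHom k (C j) (C j ⊗[A] L))
        (((Algebra.TensorProduct.includeRight : L →ₐ[A] C j ⊗[A] L).restrictScalars k).comp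
          ((IsScalarTower.toAlgHom k (A ⊗[k] B₀) L).comp Algebra.TensorProduct.includeRight))
        fun _ _ => mul_comm (G := C j ⊗[A] L) _ _
    let πC : A ⊗[k] B₀ →ₐ[k] C j ⊗[k] B₀ :=
      Algebra.TensorProduct.map (IsScalarTower.toAlgHom k A (C j)) (AlgHom.id k B₀)
    have hinj : Function.Injective (Algebra.TensorProduct.map (AlgHom.id k (C j)) B₀.val) :=
      Module.Flat.lTensor_preserves_injective_linearMap B₀.val.toLinearMap Subtype.val_injective
    have hnat : ∀ z, Algebra.TensorProduct.map (AlgHom.id k (C j)) B₀.val (πC z) =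
        Algebra.TensorProduct.map (IsScalarTower.toAlgHom k A (C j)) (AlgHom.id k B) (ι₀ z) := by
      intro z
      induction z using TensorProduct.induction_on with
      | zero => simp
      | add a b ha hb => simp only [map_add, ha, hb]
      | tmul a b => simp [πC, ι₀]
    have h1 : πC (h₀ ^ l * m₀) = 0 := hinj (by
      rw [hnat, map_zero, map_mul, map_pow, hh₀, hm₀]; exact hl)
    have hχ : ∀ z, χ (πC z) = (1 : C j) ⊗ₜ[A] algebraMap (A ⊗[k] B₀) L z := by
      intro z
      induction z using TensorProduct.induction_on with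
      | zero => simp
      | add a b ha hb => simp only [map_add, tmul_add, ha, hb]
      | tmul a b =>
        have e1 : χ (πC (a ⊗ₜ[k] b)) = (algebraMap A (C j) a ⊗ₜ[A] (1 : L)) *
            ((1 : C j) ⊗ₜ[A] algebraMap (A ⊗[k] B₀) L ((1 : A) ⊗ₜ[k] b)) := by
          simp [πC, χ, Algebra.TensorProduct.algebraMap_apply]
        rw [e1, Algebra.TensorProduct.tmul_mul_tmul, mul_one, one_mul, Algebra.algebraMap_eq_smul_one,
          TensorProduct.smul_tmul, Algebra.smul_def, IsScalarTower.algebraMap_apply A (A ⊗[k] B₀) L,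
          ← map_mul]
        simp [Algebra.TensorProduct.algebraMap_apply, Algebra.TensorProduct.tmul_mul_tmul]
    have h2 : (1 : C j) ⊗ₜ[A] algebraMap (A ⊗[k] B₀) L (h₀ ^ l * m₀) = 0 := by rw [← hχ, h1, map_zero]
    obtain ⟨v, hv⟩ := (IsLocalization.Away.algebraMap_isUnit (S := L) h₀).pow l
    have h3 : algebraMap (A ⊗[k] B₀) L m₀ = (↑v⁻¹ : L) * algebraMap (A ⊗[k] B₀) L (h₀ ^ l * m₀) := by
      rw [map_mul, map_pow, ← hv, Units.inv_mul_cancel_left]
    rw [h3, ← one_mul (1 : C j), ← Algebra.TensorProduct.tmul_mul_tmul, h2, mul_zero]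
  obtain ⟨⟨_, r, rfl⟩, hr⟩ := (IsLocalization.map_eq_zero_iff (Submonoid.powers h₀) L m₀).1 hzero
  exact ⟨r, by rw [← hh₀, ← hm₀, ← map_pow, ← map_mul]; exact (congrArg ι₀ hr).trans (map_zero _)⟩

end Groth.Agent.SchDom
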