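import Groth.Agent.Lib.SchDom.FibreCrit
import Groth.Agent.Lib.SchDom.Field
import Mathlib.RingTheory.TensorProduct.MvPolynomial
import Mathlib.RingTheory.Polynomial.Basic

/-!
# Fibrewise separation, localized
-/

universe u

namespace Groth.Agent.SchDom

open TensorProduct

section Theta

variable {A A₁ : Type u} [CommRing A] [CommRing A₁] [Algebra A A₁] (K : Type u) [CommRing K]
  [Algebra A K] [Algebra A₁ K] [IsScalarTower A A₁ K] {B : Type u} [CommRing B] [Algebra A B]
  (h₀ : A₁ ⊗[A] B)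

/-- The image of `h₀` in `K ⊗ B`. -/
noncomputable def pushK : A₁ ⊗[A] B →ₐ[A] K ⊗[A] B :=
  Algebra.TensorProduct.map (IsScalarTower.toAlgHom A A₁ K) (AlgHom.id A B)

/-- Comparison with the base change of the localization. -/
noncomputable def theta : K ⊗[A] B →ₐ[A] K ⊗[A₁] Localization.Away h₀ :=
  Algebra.TensorProduct.lift (IsScalarTower.toAlgHom A K _)
    (((Algebra.TensorProduct.includeRight :
      Localization.Away h₀ →ₐ[A₁] K ⊗[A₁] Localization.Away h₀).restrictScalars A).comp
      ((IsScalarTower.toAlgHom A (A₁ ⊗[A] B) (Localization.Away h₀)).comp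
        Algebra.TensorProduct.includeRight))
    fun _ _ => mul_comm (G := K ⊗[A₁] Localization.Away h₀) _ _

theorem theta_tmul (c : K) (b : B) :
    theta K h₀ (c ⊗ₜ[A] b) = c ⊗ₜ[A₁] algebraMap (A₁ ⊗[A] B) (Localization.Away h₀) ((1 : A₁) ⊗ₜ[A] b) := by
  simp [theta, Algebra.TensorProduct.algebraMap_apply, Algebra.TensorProduct.tmul_mul_tmul]

theorem theta_pushK (z : A₁ ⊗[A] B) :
    theta K h₀ (pushK K z) = (1 : K) ⊗ₜ[A₁] algebraMap (A₁ ⊗[A] B) (Localization.Away h₀) z := by
  induction z using TensorProduct.induction_on with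
  | zero => simp
  | add a b ha hb => simp only [map_add, tmul_add, ha, hb]
  | tmul a b =>
    rw [pushK, Algebra.TensorProduct.map_tmul, theta_tmul]
    show algebraMap A₁ K a ⊗ₜ[A₁] _ = _
    rw [Algebra.algebraMap_eq_smul_one, TensorProduct.smul_tmul, Algebra.smul_def,
      IsScalarTower.algebraMap_apply A₁ (A₁ ⊗[A] B) (Localization.Away h₀), ← map_mul]
    simp [Algebra.TensorProduct.algebraMap_apply, Algebra.TensorProduct.tmul_mul_tmul]

theorem isUnit_theta : IsUnit (theta K h₀ (pushK K h₀)) := by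
  rw [theta_pushK]
  exact (IsLocalization.Away.algebraMap_isUnit h₀).map
    (Algebra.TensorProduct.includeRight : Localization.Away h₀ →ₐ[A₁] K ⊗[A₁] Localization.Away h₀)

theorem exists_eq_theta (x : K ⊗[A₁] Localization.Away h₀) :
    ∃ (r : ℕ) (m : K ⊗[A] B), x * theta K h₀ (pushK K h₀) ^ r = theta K h₀ m := by
  induction x using TensorProduct.induction_on with
  | zero => exact ⟨0, 0, by simp⟩
  | add a b ha hb =>
    obtain ⟨r, m, hm⟩ := ha
    obtain ⟨s, n, hn⟩ := hb
    refine ⟨r + s, m * pushK K h₀ ^ s + n * pushK K h₀ ^ r, ?_⟩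
    rw [map_add, map_mul, map_mul, ← hm, ← hn, map_pow, map_pow, add_mul, pow_add]
    ring
  | tmul c l =>
    obtain ⟨⟨w, ⟨_, r, rfl⟩⟩, hw⟩ := IsLocalization.surj (Submonoid.powers h₀) l
    refine ⟨r, (c ⊗ₜ[A] (1 : B)) * pushK K w, ?_⟩
    rw [map_mul, theta_tmul, theta_pushK, theta_pushK, Algebra.TensorProduct.tmul_pow,
      Algebra.TensorProduct.tmul_mul_tmul, Algebra.TensorProduct.tmul_mul_tmul, one_pow, mul_one,
      ← Algebra.TensorProduct.one_def, map_one, one_mul, ← map_pow]
    exact congrArg _ hw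

theorem exists_pow_mul_of_theta_eq_zero (z : K ⊗[A] B) (hz : theta K h₀ z = 0) :
    ∃ l : ℕ, pushK K h₀ ^ l * z = 0 := by
  let M := Localization.Away (pushK K h₀)
  let π : A₁ ⊗[A] B →ₐ[A₁] K ⊗[A] B :=
    Algebra.TensorProduct.map (Algebra.ofId A₁ K) (AlgHom.id A B)
  have hπ : ∀ w, π w = pushK K w := fun w => by
    induction w using TensorProduct.induction_on with
    | zero => simp
    | add a b ha hb => simp only [map_add, ha, hb]
    | tmul a b => rfl
  have hu : IsUnit (((algebraMap (K ⊗[A] B) M).comp π.toRingHom) h₀) := by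
    show IsUnit (algebraMap (K ⊗[A] B) M (π h₀))
    rw [hπ]
    exact IsLocalization.Away.algebraMap_isUnit _
  let ρ : Localization.Away h₀ →ₐ[A₁] M :=
    { IsLocalization.Away.lift h₀ hu with
      commutes' := fun r => by
        show IsLocalization.Away.lift h₀ hu (algebraMap A₁ (Localization.Away h₀) r) = _
        rw [IsScalarTower.algebraMap_apply A₁ (A₁ ⊗[A] B) (Localization.Away h₀),
          IsLocalization.Away.lift_eq]
        show algebraMap (K ⊗[A] B) M (π (algebraMap A₁ _ r)) = _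
        rw [AlgHom.commutes, ← IsScalarTower.algebraMap_apply] }
  let κ : K ⊗[A₁] Localization.Away h₀ →ₐ[A₁] M :=
    Algebra.TensorProduct.lift ((IsScalarTower.toAlgHom A₁ (K ⊗[A] B) M).comp
      (IsScalarTower.toAlgHom A₁ K (K ⊗[A] B))) ρ fun _ _ => mul_comm (G := M) _ _
  have hκ : ∀ w, κ (theta K h₀ w) = algebraMap (K ⊗[A] B) M w := by
    intro w
    induction w using TensorProduct.induction_on with
    | zero => simp
    | add a b ha hb => simp only [map_add, ha, hb]
    | tmul c b =>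
      rw [theta_tmul, Algebra.TensorProduct.lift_tmul]
      show algebraMap (K ⊗[A] B) M (algebraMap K (K ⊗[A] B) c) * IsLocalization.Away.lift h₀ hu _ = _
      rw [IsLocalization.Away.lift_eq]
      show _ * algebraMap (K ⊗[A] B) M (π ((1 : A₁) ⊗ₜ[A] b)) = _
      rw [← map_mul, hπ]
      congr 1
      simp [pushK, Algebra.TensorProduct.algebraMap_apply, Algebra.TensorProduct.tmul_mul_tmul]
  obtain ⟨⟨_, l, rfl⟩, hl⟩ := (IsLocalization.map_eq_zero_iff (Submonoid.powers (pushK K h₀)) M z).1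
    (by rw [← hκ, hz, map_zero])
  exact ⟨l, hl⟩

end Theta

variable {A B : Type u} [CommRing A] [CommRing B] [Algebra A B]
  {ι : Type u} (C : ι → Type u) [∀ i, CommRing (C i)] [∀ i, Algebra B (C i)]
  [∀ i, Algebra A (C i)] [∀ i, IsScalarTower A B (C i)]

/-- The map of algebras to the `i`-th member. -/
noncomputable abbrev toMemberAlg (N : Type u) [CommRing N] [Algebra A N] (i : ι) :
    N ⊗[A] B →ₐ[A] N ⊗[A] C i :=
  Algebra.TensorProduct.map (AlgHom.id A N) (IsScalarTower.toAlgHom A B (C i))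

/-- The family separates, after localizing, on every fibre. -/
def FibSep : Prop :=
  ∀ (p : Ideal A) [p.IsPrime] (h m : p.ResidueField ⊗[A] B),
    (∀ i, ∃ l : ℕ, toMemberAlg C p.ResidueField i (h ^ l * m) = 0) → ∃ l : ℕ, h ^ l * m = 0

variable {C}

/-- Fibrewise separation holds over every field. -/
theorem FibSep.field (hsep : FibSep (A := A) (B := B) C) (K : Type u) [Field K] [Algebra A K] (h m : K ⊗[A] B)
    (hm : ∀ i, ∃ l : ℕ, toMemberAlg C K i (h ^ l * m) = 0) : ∃ l : ℕ, h ^ l * m = 0 := by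
  let p := RingHom.ker (algebraMap A K)
  haveI : p.IsPrime := RingHom.ker_isPrime _
  let k := p.ResidueField
  let kK : k →ₐ[A] K := Ideal.ResidueField.liftₐ p (Algebra.ofId A K) le_rfl
    fun a ha => IsUnit.mk0 _ ha
  letI : Algebra k K := kK.toRingHom.toAlgebra
  haveI : IsScalarTower A k K := IsScalarTower.of_algebraMap_eq fun a => (kK.commutes a).symm
  letI algE : ∀ i, Algebra (k ⊗[A] B) (k ⊗[A] C i) := fun i => (toMemberAlg C k i).toRingHom.toAlgebra
  haveI : ∀ i, IsScalarTower k (k ⊗[A] B) (k ⊗[A] C i) := fun i => IsScalarTower.of_algebraMap_eq fun c => by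
    show _ = toMemberAlg C k i (c ⊗ₜ[A] 1)
    simp [Algebra.TensorProduct.algebraMap_apply]
  let eB : (k ⊗[A] B) ⊗[k] K ≃ₐ[k] K ⊗[A] B :=
    (Algebra.TensorProduct.comm k (k ⊗[A] B) K).trans (Algebra.TensorProduct.cancelBaseChange A k k K B)
  obtain ⟨h', rfl⟩ := eB.surjective h
  obtain ⟨m', rfl⟩ := eB.surjective m
  obtain ⟨l, hl⟩ := sep_field_extension (fun i => k ⊗[A] C i) (fun a n hn => hsep p a n hn) h' m' fun i => by
    obtain ⟨l, hl⟩ := hm i
    refine ⟨l, ?_⟩
    let eC : (k ⊗[A] C i) ⊗[k] K ≃ₐ[k] K ⊗[A] C i :=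
      (Algebra.TensorProduct.comm k (k ⊗[A] C i) K).trans (Algebra.TensorProduct.cancelBaseChange A k k K (C i))
    have key : ∀ z, eC (Algebra.TensorProduct.map (IsScalarTower.toAlgHom k (k ⊗[A] B) (k ⊗[A] C i))
        (AlgHom.id k K) z) = toMemberAlg C K i (eB z) := by
      intro z
      induction z using TensorProduct.induction_on with
      | zero => simp
      | add a b ha hb => simp only [map_add, ha, hb]
      | tmul w c =>
        induction w using TensorProduct.induction_on with
        | zero => simp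
        | add a b ha hb => simp only [add_tmul, map_add, ha, hb]
        | tmul a b =>
          show eC (toMemberAlg C k i (a ⊗ₜ[A] b) ⊗ₜ[k] c) = _
          simp [eC, eB]
    apply eC.injective
    rw [key, map_mul, map_pow, map_zero]
    exact hl
  exact ⟨l, by rw [← map_pow, ← map_mul, hl, map_zero]⟩

variable [∀ i, Module.Flat A (C i)] [IsNoetherianRing B]

/-- Fibrewise separation gives separation after localizing over every base. -/
theorem FibSep.exists_pow_mul_eq_zero (hsep : FibSep (A := A) (B := B) C) (A' : Type u) [CommRing A'] [Algebra A A']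
    (h m : A' ⊗[A] B) (hm : ∀ i, ∃ l : ℕ, toMemberAlg C A' i (h ^ l * m) = 0) :
    ∃ l : ℕ, h ^ l * m = 0 := by
  classical
  obtain ⟨T, hT⟩ := TensorProduct.exists_finset (R := A) h
  let A₁ := MvPolynomial T A
  let ψ : A₁ →ₐ[A] A' := MvPolynomial.aeval fun t : T => t.1.1
  letI : Algebra A₁ A' := ψ.toRingHom.toAlgebra
  haveI : IsScalarTower A A₁ A' := IsScalarTower.of_algebraMap_eq fun a => (ψ.commutes a).symm
  let h₀ : A₁ ⊗[A] B := ∑ t ∈ T.attach, (MvPolynomial.X t : A₁) ⊗ₜ[A] t.1.2
  have hh₀ : pushK A' h₀ = h := by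
    rw [hT, map_sum, ← Finset.sum_attach T (fun t => t.1 ⊗ₜ[A] t.2)]
    refine Finset.sum_congr rfl fun t _ => ?_
    simp [pushK]
    congr 1
    exact MvPolynomial.aeval_X _ _
  haveI : IsNoetherianRing (A₁ ⊗[A] B) := isNoetherianRing_of_ringEquiv (MvPolynomial T B)
    ((MvPolynomial.algebraTensorAlgEquiv A B).symm.toRingEquiv.trans
      (Algebra.TensorProduct.comm A B A₁).toRingEquiv)
  let L := Localization.Away h₀
  haveI : IsNoetherianRing L := IsLocalization.isNoetherianRing (Submonoid.powers h₀) L inferInstance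
  let hC : ∀ i, A₁ ⊗[A] C i := fun i => toMemberAlg C A₁ i h₀
  let C₁ : ι → Type u := fun i => Localization.Away (hC i)
  have hu : ∀ i, IsUnit (((algebraMap (A₁ ⊗[A] C i) (C₁ i)).comp (toMemberAlg C A₁ i).toRingHom) h₀) :=
    fun i => IsLocalization.Away.algebraMap_isUnit (hC i)
  let g : ∀ i, L →+* C₁ i := fun i => IsLocalization.Away.lift h₀ (hu i)
  letI : ∀ i, Algebra L (C₁ i) := fun i => (g i).toAlgebra
  haveI : ∀ i, IsScalarTower A₁ L (C₁ i) := fun i => IsScalarTower.of_algebraMap_eq fun r => by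
    show _ = g i (algebraMap A₁ L r)
    rw [IsScalarTower.algebraMap_apply A₁ (A₁ ⊗[A] B) L, IsLocalization.Away.lift_eq,
      IsScalarTower.algebraMap_apply A₁ (A₁ ⊗[A] C i) (C₁ i)]
    show _ = algebraMap (A₁ ⊗[A] C i) (C₁ i) (toMemberAlg C A₁ i (r ⊗ₜ[A] 1))
    rw [Algebra.TensorProduct.map_tmul, map_one]
    rfl
  haveI : ∀ i, Module.Flat A₁ (C₁ i) := fun i =>
    haveI : Module.Flat (A₁ ⊗[A] C i) (C₁ i) := IsLocalization.flat _ (Submonoid.powers (hC i))
    Module.Flat.trans A₁ (A₁ ⊗[A] C i) (C₁ i)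
  -- compatibility of the comparison maps
  have hnat : ∀ (K : Type u) [CommRing K] [Algebra A K] [Algebra A₁ K] [IsScalarTower A A₁ K]
      (i : ι) (z : K ⊗[A] B),
      toMember C₁ K i (theta K h₀ z) = theta K (hC i) (toMemberAlg C K i z) := by
    intro K _ _ _ _ i z
    induction z using TensorProduct.induction_on with
    | zero => simp
    | add a b ha hb => simp only [map_add, ha, hb]
    | tmul c b =>
      rw [theta_tmul, Algebra.TensorProduct.map_tmul, theta_tmul, LinearMap.lTensor_tmul]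
      show c ⊗ₜ[A₁] g i (algebraMap (A₁ ⊗[A] B) L _) = _
      rw [IsLocalization.Away.lift_eq]
      congr 1
  have hpush : ∀ (K : Type u) [CommRing K] [Algebra A K] [Algebra A₁ K] [IsScalarTower A A₁ K]
      (i : ι), pushK K (hC i) = toMemberAlg C K i (pushK K h₀) := by
    intro K _ _ _ _ i
    show pushK K (toMemberAlg C A₁ i h₀) = _
    generalize h₀ = z
    induction z using TensorProduct.induction_on with
    | zero => simp
    | add a b ha hb => simp only [map_add, ha, hb]
    | tmul a b => simp [pushK]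
  -- fibrewise injectivity after localizing
  have hf : ∀ (P : Ideal A₁) [P.IsPrime] (x : P.ResidueField ⊗[A₁] L),
      (∀ i, toMember C₁ P.ResidueField i x = 0) → x = 0 := by
    intro P _ x hx
    let K := P.ResidueField
    obtain ⟨r, w, hw⟩ := exists_eq_theta K h₀ x
    obtain ⟨l, hl⟩ := hsep.field K (pushK K h₀) w fun i => by
      have h1 : theta K (hC i) (toMemberAlg C K i w) = 0 := by
        rw [← hnat, ← hw]
        let Φ : K ⊗[A₁] L →ₐ[A₁] K ⊗[A₁] C₁ i :=
          Algebra.TensorProduct.map (AlgHom.id A₁ K) (IsScalarTower.toAlgHom A₁ L (C₁ i))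
        show Φ (x * theta K h₀ (pushK K h₀) ^ r) = 0
        rw [map_mul, show Φ x = 0 from hx i, zero_mul]
      obtain ⟨l, hl⟩ := exists_pow_mul_of_theta_eq_zero K (hC i) _ h1
      refine ⟨l, ?_⟩
      rw [map_mul, map_pow, ← hpush]
      exact hl
    have h2 : theta K h₀ w = 0 := by
      refine ((isUnit_theta K h₀).pow l).mul_right_eq_zero.1 ?_
      rw [← map_pow, ← map_mul, hl, map_zero]
    rw [h2] at hw
    exact ((isUnit_theta K h₀).pow r).mul_left_eq_zero.1 hw
  have h0 : theta A' h₀ m = 0 := eq_zero_of_fibre C₁ hf A' _ fun i => by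
    rw [hnat]
    obtain ⟨l, hl⟩ := hm i
    refine ((isUnit_theta A' (hC i)).pow l).mul_right_eq_zero.1 ?_
    rw [← map_pow, ← map_mul, hpush, hh₀, ← map_pow, ← map_mul, hl, map_zero]
  obtain ⟨l, hl⟩ := exists_pow_mul_of_theta_eq_zero A' h₀ m h0
  exact ⟨l, by rwa [hh₀] at hl⟩

end Groth.Agent.SchDom
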