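import Groth.Agent.Lib.SchDom.Basic
import Groth.Agent.Lib.SchDom.FibreSep
import Mathlib.AlgebraicGeometry.PullbackCarrier
import Mathlib.AlgebraicGeometry.Morphisms.OpenImmersion

/-!
# Sections of fibre products in affine charts
-/

universe u

open AlgebraicGeometry CategoryTheory Limits TensorProduct

namespace Groth.Agent.SchDom

/-- Pulling a section back through a map of spectra. -/
theorem appLE_specMap_comp {P : Scheme.{u}} {L C : CommRingCat.{u}} (j : Spec L ⟶ P) (r : L ⟶ C)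
    {V : P.Opens} (t : Γ(P, V)) (h₁ : (⊤ : (Spec L).Opens) ≤ j ⁻¹ᵁ V)
    (h₂ : (⊤ : (Spec C).Opens) ≤ (Spec.map r ≫ j) ⁻¹ᵁ V) :
    (Spec.map r ≫ j).appLE V ⊤ h₂ t =
      (Scheme.ΓSpecIso C).inv (r ((Scheme.ΓSpecIso L).hom (j.appLE V ⊤ h₁ t))) := by
  rw [← Scheme.Hom.appLE_comp_appLE (Spec.map r) j V ⊤ ⊤ h₁ le_top, CommRingCat.comp_apply,
    ← CommRingCat.comp_apply r, Scheme.ΓSpecIso_inv_naturality, CommRingCat.comp_apply,
    Iso.hom_inv_id_apply]
  simp [Scheme.Hom.appLE, Scheme.Hom.appTop]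

/-- Sections over the range of an open immersion are determined by their pullback. -/
theorem appLE_opensRange_bijective {P Y : Scheme.{u}} (j : Y ⟶ P) [IsOpenImmersion j]
    (e : (⊤ : Y.Opens) ≤ j ⁻¹ᵁ j.opensRange) :
    Function.Bijective (j.appLE j.opensRange ⊤ e) := by
  haveI := j.isIso_app j.opensRange le_rfl
  have hpre : j ⁻¹ᵁ j.opensRange = ⊤ := top_le_iff.1 e
  have : IsIso (j.appLE j.opensRange ⊤ e) := by
    rw [Scheme.Hom.appLE,
      show (homOfLE e : (⊤ : Y.Opens) ⟶ _) = eqToHom hpre.symm from Subsingleton.elim _ _]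
    infer_instance
  exact ConcreteCategory.bijective_of_isIso _

variable {X S S' : Scheme.{u}}

/-- An affine chart of a fibre product. -/
structure Chart (p : X ⟶ S) (g : S' ⟶ S) (A B A' : Type u) [CommRing A] [CommRing B] [CommRing A']
    [Algebra A B] [Algebra A A'] where
  /-- The chart of the base. -/
  uA : Spec (CommRingCat.of A) ⟶ S
  /-- The chart of the source. -/
  uB : Spec (CommRingCat.of B) ⟶ X
  /-- The chart of the new base. -/
  uA' : Spec (CommRingCat.of A') ⟶ S'
  openA : IsOpenImmersion uA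
  openB : IsOpenImmersion uB
  openA' : IsOpenImmersion uA'
  wB : Spec.map (CommRingCat.ofHom (algebraMap A B)) ≫ uA = uB ≫ p
  wA' : Spec.map (CommRingCat.ofHom (algebraMap A A')) ≫ uA = uA' ≫ g

namespace Chart

variable {p : X ⟶ S} {g : S' ⟶ S} {A B A' : Type u} [CommRing A] [CommRing B] [CommRing A']
  [Algebra A B] [Algebra A A'] (c : Chart p g A B A')

/-- The chart of the fibre product. -/
noncomputable def j : Spec (CommRingCat.of (B ⊗[A] A')) ⟶ pullback p g :=
  (pullbackSpecIso A B A').inv ≫ pullback.map _ _ p g c.uB c.uA' c.uA c.wB c.wA'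

instance : IsOpenImmersion c.j :=
  haveI := c.openA
  haveI := c.openB
  haveI := c.openA'
  inferInstanceAs (IsOpenImmersion ((pullbackSpecIso A B A').inv ≫
    pullback.map _ _ p g c.uB c.uA' c.uA c.wB c.wA'))

theorem j_fst : c.j ≫ pullback.fst p g =
    Spec.map (CommRingCat.ofHom Algebra.TensorProduct.includeLeftRingHom) ≫ c.uB := by
  rw [j, Category.assoc, pullback.lift_fst, pullbackSpecIso_inv_fst_assoc]

theorem j_snd : c.j ≫ pullback.snd p g =
    Spec.map (CommRingCat.ofHom Algebra.TensorProduct.includeRight.toRingHom) ≫ c.uA' := by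
  rw [j, Category.assoc, pullback.lift_snd, pullbackSpecIso_inv_snd_assoc]
  rfl

theorem range_j : Set.range c.j =
    pullback.fst p g ⁻¹' Set.range c.uB ∩ pullback.snd p g ⁻¹' Set.range c.uA' := by
  haveI := c.openA
  rw [← Scheme.Pullback.range_map (Spec.map (CommRingCat.ofHom (algebraMap A B)))
    (Spec.map (CommRingCat.ofHom (algebraMap A A'))) p g c.uB c.uA' c.uA c.wB c.wA']
  ext z
  constructor
  · rintro ⟨y, rfl⟩
    exact ⟨_, rfl⟩
  · rintro ⟨y, rfl⟩
    refine ⟨(pullbackSpecIso A B A').hom y, ?_⟩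
    show pullback.map _ _ p g c.uB c.uA' c.uA c.wB c.wA'
      ((pullbackSpecIso A B A').inv ((pullbackSpecIso A B A').hom y)) = _
    rw [← Scheme.Hom.comp_apply (pullbackSpecIso A B A').hom, Iso.hom_inv_id]
    rfl

/-- A basic open chart. -/
noncomputable def jL (h : B ⊗[A] A') : Spec (CommRingCat.of (Localization.Away h)) ⟶ pullback p g :=
  Spec.map (CommRingCat.ofHom (algebraMap (B ⊗[A] A') (Localization.Away h))) ≫ c.j

instance (h : B ⊗[A] A') : IsOpenImmersion (c.jL h) := by
  unfold jL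
  infer_instance

theorem mem_range_jL {h : B ⊗[A] A'} {y : PrimeSpectrum (B ⊗[A] A')} (hy : y ∈ PrimeSpectrum.basicOpen h) :
    c.j y ∈ Set.range (c.jL h) := by
  have : y ∈ Set.range (PrimeSpectrum.comap (algebraMap (B ⊗[A] A') (Localization.Away h))) := by
    rw [PrimeSpectrum.localization_away_comap_range (Localization.Away h) h]; exact hy
  obtain ⟨z, rfl⟩ := this
  exact ⟨z, rfl⟩

theorem exists_of_range_jL {h : B ⊗[A] A'} {z} (hz : z ∈ Set.range (c.jL h)) :
    ∃ y : PrimeSpectrum (B ⊗[A] A'), y ∈ PrimeSpectrum.basicOpen h ∧ c.j y = z := by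
  obtain ⟨y, rfl⟩ := hz
  refine ⟨PrimeSpectrum.comap (algebraMap (B ⊗[A] A') (Localization.Away h)) y, ?_, rfl⟩
  have : PrimeSpectrum.comap (algebraMap (B ⊗[A] A') (Localization.Away h)) y ∈
      Set.range (PrimeSpectrum.comap (algebraMap (B ⊗[A] A') (Localization.Away h))) := ⟨y, rfl⟩
  rwa [PrimeSpectrum.localization_away_comap_range (Localization.Away h) h] at this

variable {Z : Scheme.{u}} (f : Z ⟶ X) {C : Type u} [CommRing C] [Algebra B C] [Algebra A C]
  [IsScalarTower A B C] (uC : Spec (CommRingCat.of C) ⟶ Z) [IsOpenImmersion uC]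
  (hC : uC ≫ f = Spec.map (CommRingCat.ofHom (algebraMap B C)) ≫ c.uB)

/-- The induced chart of a scheme over the source. -/
noncomputable def comp : Chart (f ≫ p) g A C A' where
  uA := c.uA
  uB := uC
  uA' := c.uA'
  openA := c.openA
  openB := inferInstance
  openA' := c.openA'
  wB := by
    rw [← Category.assoc, hC, Category.assoc, ← c.wB, ← Spec.map_comp_assoc, ← CommRingCat.ofHom_comp,
      ← IsScalarTower.algebraMap_eq]
  wA' := c.wA'

/-- The base change of the map to the source. -/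
noncomputable abbrev mapB : pullback (f ≫ p) g ⟶ pullback p g :=
  pullback.map (f ≫ p) g p g f (𝟙 S') (𝟙 S) (Category.comp_id _)
    ((Category.comp_id _).trans (Category.id_comp _).symm)

/-- The map of rings underlying `mapB`. -/
noncomputable abbrev mapAlg (A B C A' : Type u) [CommRing A] [CommRing B] [CommRing C] [CommRing A']
    [Algebra A B] [Algebra A A'] [Algebra B C] [Algebra A C] [IsScalarTower A B C] :
    B ⊗[A] A' →ₐ[A] C ⊗[A] A' :=
  Algebra.TensorProduct.map (IsScalarTower.toAlgHom A B C) (AlgHom.id A A')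

theorem comp_j : (c.comp f uC hC).j ≫ mapB f =
    Spec.map (CommRingCat.ofHom (mapAlg A B C A').toRingHom) ≫ c.j := by
  apply pullback.hom_ext
  · rw [Category.assoc, pullback.lift_fst, ← Category.assoc, j_fst, Category.assoc, Category.assoc,
      c.j_fst, ← Spec.map_comp_assoc]
    show _ ≫ uC ≫ f = _
    rw [hC, ← Spec.map_comp_assoc]
    congr 2
  · rw [Category.assoc, pullback.lift_snd, Category.comp_id, Category.assoc, c.j_snd, j_snd,
      ← Spec.map_comp_assoc]
    show Spec.map _ ≫ c.uA' = Spec.map _ ≫ c.uA'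
    congr 2
    refine CommRingCat.hom_ext (RingHom.ext fun a => ?_)
    show (1 : C) ⊗ₜ[A] a = mapAlg A B C A' ((1 : B) ⊗ₜ[A] a)
    rw [Algebra.TensorProduct.map_tmul, map_one]
    rfl

/-- The map between localizations. -/
noncomputable def locMap (h : B ⊗[A] A') :
    Localization.Away h →+* Localization.Away (mapAlg A B C A' h) :=
  IsLocalization.Away.lift h
    (g := (algebraMap (C ⊗[A] A') (Localization.Away (mapAlg A B C A' h))).comp (mapAlg A B C A').toRingHom)
    (IsLocalization.Away.algebraMap_isUnit (mapAlg A B C A' h))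

theorem comp_jL (h : B ⊗[A] A') : (c.comp f uC hC).jL (mapAlg A B C A' h) ≫ mapB f =
    Spec.map (CommRingCat.ofHom (locMap (C := C) h)) ≫ c.jL h := by
  rw [jL, jL, Category.assoc, comp_j, ← Spec.map_comp_assoc, ← Spec.map_comp_assoc]
  congr 2
  refine CommRingCat.hom_ext (RingHom.ext fun a => ?_)
  show algebraMap _ (Localization.Away (mapAlg A B C A' h)) (mapAlg A B C A' a) =
    locMap (C := C) h (algebraMap _ (Localization.Away h) a)
  rw [locMap, IsLocalization.Away.lift_eq]
  rfl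

/-- A section killed by the base change is killed in the chart. -/
theorem exists_pow_mul_mapAlg_eq_zero {V : (pullback p g).Opens} (t : Γ(pullback p g, V))
    (ht : (mapB f).app V t = 0) (h : B ⊗[A] A') (htop : (⊤ : (Spec _).Opens) ≤ c.jL h ⁻¹ᵁ V)
    (m : B ⊗[A] A') (r : ℕ)
    (hm : (Scheme.ΓSpecIso _).hom ((c.jL h).appLE V ⊤ htop t) *
      algebraMap (B ⊗[A] A') (Localization.Away h) (h ^ r) = algebraMap _ _ m)
    (uC : Spec (CommRingCat.of C) ⟶ Z) [IsOpenImmersion uC]
    (hC : uC ≫ f = Spec.map (CommRingCat.ofHom (algebraMap B C)) ≫ c.uB) :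
    ∃ l : ℕ, mapAlg A B C A' (h ^ l * m) = 0 := by
  have e : (⊤ : (Spec _).Opens) ≤ (Spec.map (CommRingCat.ofHom (locMap (C := C) h)) ≫ c.jL h) ⁻¹ᵁ V :=
    fun z _ => htop (x := Spec.map (CommRingCat.ofHom (locMap (C := C) h)) z) trivial
  have hv : ∀ (v) (_ : v = (c.comp f uC hC).jL (mapAlg A B C A' h) ≫ mapB f)
      (e : (⊤ : (Spec _).Opens) ≤ v ⁻¹ᵁ V), v.appLE V ⊤ e t = 0 := by
    rintro _ rfl e
    exact appLE_comp_eq_zero _ _ _ t ht
  have h0 := hv _ (c.comp_jL f uC hC h).symm e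
  rw [appLE_specMap_comp _ _ t htop] at h0
  have h1 : locMap (C := C) h ((Scheme.ΓSpecIso _).hom ((c.jL h).appLE V ⊤ htop t)) = 0 := by
    apply (ConcreteCategory.bijective_of_isIso (Scheme.ΓSpecIso
      (CommRingCat.of (Localization.Away (mapAlg A B C A' h)))).inv).1
    rw [map_zero]; exact h0
  have h2 := congrArg (locMap (C := C) h) hm
  rw [map_mul, h1, zero_mul] at h2
  have h3 : algebraMap (C ⊗[A] A') (Localization.Away (mapAlg A B C A' h)) (mapAlg A B C A' m) = 0 := by
    rw [locMap, IsLocalization.Away.lift_eq] at h2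
    exact h2.symm
  obtain ⟨⟨_, l, rfl⟩, hl⟩ :=
    (IsLocalization.map_eq_zero_iff (Submonoid.powers (mapAlg A B C A' h)) _ _).1 h3
  exact ⟨l, by rw [map_mul, map_pow]; exact hl⟩

/-- The pullback of a chart section vanishes near a point over it. -/
theorem exists_nhd_app_eq_zero {h : B ⊗[A] A'} (m : B ⊗[A] A')
    (t : Γ(pullback p g, (c.jL h).opensRange)) (e : (⊤ : (Spec _).Opens) ≤ c.jL h ⁻¹ᵁ (c.jL h).opensRange)
    (ht : (Scheme.ΓSpecIso _).hom ((c.jL h).appLE (c.jL h).opensRange ⊤ e t) = algebraMap _ _ m)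
    {l : ℕ} (hl : mapAlg A B C A' (h ^ l * m) = 0)
    (uC : Spec (CommRingCat.of C) ⟶ Z) [IsOpenImmersion uC]
    (hC : uC ≫ f = Spec.map (CommRingCat.ofHom (algebraMap B C)) ≫ c.uB)
    (z : (pullback (f ≫ p) g : Scheme.{u})) (hz : mapB f z ∈ (c.jL h).opensRange)
    (hzC : pullback.fst (f ≫ p) g z ∈ Set.range uC) :
    ∃ (W : (pullback (f ≫ p) g : Scheme.{u}).Opens) (eW : W ≤ mapB f ⁻¹ᵁ (c.jL h).opensRange),
      z ∈ W ∧ (mapB f).appLE _ W eW t = 0 := by
  obtain ⟨y', hy', hy'z⟩ := c.exists_of_range_jL hz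
  have hzj : z ∈ Set.range (c.comp f uC hC).j := by
    rw [range_j]
    refine ⟨hzC, ?_⟩
    have h1 : c.j y' ∈ Set.range c.j := ⟨y', rfl⟩
    rw [range_j] at h1
    have h2 : pullback.snd p g (mapB f z) = pullback.snd (f ≫ p) g z := by
      rw [← Scheme.Hom.comp_apply, pullback.lift_snd, Category.comp_id]
    show pullback.snd (f ≫ p) g z ∈ Set.range c.uA'
    rw [← h2, ← hy'z]
    exact h1.2
  obtain ⟨y, rfl⟩ := hzj
  have hπy : Spec.map (CommRingCat.ofHom (mapAlg A B C A').toRingHom) y = y' := by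
    apply c.j.isOpenEmbedding.injective
    rw [hy'z]
    exact (congrArg (fun v => v y) (c.comp_j f uC hC)).symm
  have hy : y ∈ PrimeSpectrum.basicOpen (mapAlg A B C A' h) := by
    rw [← hπy] at hy'
    exact hy'
  have hW : ((c.comp f uC hC).jL (mapAlg A B C A' h)).opensRange ≤ mapB f ⁻¹ᵁ (c.jL h).opensRange := by
    rintro _ ⟨w, rfl⟩
    exact ⟨Spec.map (CommRingCat.ofHom (locMap (C := C) h)) w,
      (congrArg (fun v => v w) (c.comp_jL f uC hC h)).symm⟩
  refine ⟨_, hW, (c.comp f uC hC).mem_range_jL hy, ?_⟩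
  apply (appLE_opensRange_bijective ((c.comp f uC hC).jL (mapAlg A B C A' h)) fun w _ => ⟨w, rfl⟩).1
  rw [map_zero, ← CommRingCat.comp_apply, Scheme.Hom.appLE_comp_appLE]
  have hv : ∀ (v) (_ : v = Spec.map (CommRingCat.ofHom (locMap (C := C) h)) ≫ c.jL h)
      (e' : (⊤ : (Spec _).Opens) ≤ v ⁻¹ᵁ (c.jL h).opensRange), v.appLE _ ⊤ e' t = 0 := by
    rintro _ rfl e'
    rw [appLE_specMap_comp _ _ t e, ht]
    show (Scheme.ΓSpecIso (CommRingCat.of (Localization.Away (mapAlg A B C A' h)))).inv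
      (locMap (C := C) h (algebraMap _ _ m)) = 0
    rw [locMap, IsLocalization.Away.lift_eq]
    have : algebraMap (C ⊗[A] A') (Localization.Away (mapAlg A B C A' h)) (mapAlg A B C A' m) = 0 := by
      refine ((IsLocalization.Away.algebraMap_isUnit (mapAlg A B C A' h)).pow l).mul_right_eq_zero.1 ?_
      rw [← map_pow, ← map_mul, ← map_pow, ← map_mul, hl, map_zero]
    show (Scheme.ΓSpecIso (CommRingCat.of (Localization.Away (mapAlg A B C A' h)))).inv
      (algebraMap (C ⊗[A] A') (Localization.Away (mapAlg A B C A' h)) (mapAlg A B C A' m)) = 0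
    rw [this, map_zero]
  exact hv _ (c.comp_jL f uC hC h) _

end Chart

end Groth.Agent.SchDom
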