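import Groth.Agent.Lib.FlatH4.FlatLocus
import Groth.Agent.Lib.FlatSyz.Kernel
import Mathlib.Algebra.Module.LocalizedModule.Submodule
import Mathlib.RingTheory.Localization.BaseChange
import Mathlib.RingTheory.IsTensorProduct
import Mathlib.LinearAlgebra.TensorProduct.RightExactness
import Mathlib.RingTheory.TensorProduct.DirectLimitFG

/-!
# Maps injective at a point with flat cokernel: base change and descent
-/

universe u

namespace Groth.Agent.SchDom

open TensorProduct LinearMap

/-- The map is injective at `q` and its cokernel is flat over `A` at `q`. -/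
def GoodAt (A : Type u) [CommRing A] {T N M : Type u} [CommRing T] [Algebra A T] [AddCommGroup N]
    [Module T N] [AddCommGroup M] [Module A M] [Module T M] [IsScalarTower A T M] (q : Ideal T)
    [q.IsPrime] (u : N →ₗ[T] M) : Prop :=
  (∀ (y : N) (t : T), t ∉ q → t • u y = 0 → ∃ t' ∉ q, t' • y = 0) ∧
    Module.Flat A (LocalizedModule q.primeCompl (M ⧸ LinearMap.range u))

variable {R S N M : Type u} [CommRing R] [CommRing S] [Algebra R S] [AddCommGroup N] [Module R N]
  [Module S N] [IsScalarTower R S N] [AddCommGroup M] [Module R M] [Module S M] [IsScalarTower R S M]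

/-- When the cokernel is flat at `q`, kernels commute with base change near `q`. -/
theorem exists_smul_mem_range_rTensor (q : Ideal S) [q.IsPrime] (f : N →ₗ[S] M)
    (hC : Module.Flat R (LocalizedModule q.primeCompl (M ⧸ LinearMap.range f)))
    (A : Type u) [CommRing A] [Algebra R A] (y : N ⊗[R] A) (hy : (f.restrictScalars R).rTensor A y = 0) :
    ∃ s ∉ q, ∃ k : (LinearMap.ker f) ⊗[R] A,
      AlgebraTensorModule.rTensor R A (LinearMap.ker f).subtype k = s • y := by
  let gN := LocalizedModule.mkLinearMap q.primeCompl N
  let gM := LocalizedModule.mkLinearMap q.primeCompl M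
  let S' := Localization q.primeCompl
  let fS : LocalizedModule q.primeCompl N →ₗ[S'] LocalizedModule q.primeCompl M :=
    LocalizedModule.map q.primeCompl f
  have hfg : ∀ x, fS (gN x) = gM (f x) := fun x => IsLocalizedModule.map_apply q.primeCompl gN gM f x
  let fq := fS.restrictScalars R
  let I := LinearMap.range fq
  -- the cokernel of the localized map is flat
  have hflat : Module.Flat R (LocalizedModule q.primeCompl M ⧸ I) := by
    haveI := hC
    have hloc : Submodule.localized q.primeCompl (LinearMap.range f) = LinearMap.range fS := by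
      rw [Submodule.localized, LinearMap.localized'_range_eq_range_localizedMap S' q.primeCompl gN gM]
      rfl
    let e : (LocalizedModule q.primeCompl M ⧸ LinearMap.range fS) ≃ₗ[S']
        LocalizedModule q.primeCompl (M ⧸ LinearMap.range f) :=
      (Submodule.quotEquivOfEq _ _ hloc.symm).trans (localizedQuotientEquiv q.primeCompl (LinearMap.range f))
    have hI : I = (LinearMap.range fS).restrictScalars R := by ext; simp [I, fq]
    exact Module.Flat.of_linearEquiv ((Submodule.quotEquivOfEq _ _ hI).trans
      ((Submodule.Quotient.restrictScalarsEquiv R (LinearMap.range fS)).trans (e.restrictScalars R)))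
  let g₁ := AlgebraTensorModule.rTensor R A gN
  have h1 : fq.rTensor A (g₁ y) = 0 := by
    show fq.rTensor A ((gN.restrictScalars R).rTensor A y) = 0
    rw [← rTensor_comp_apply, show fq.comp (gN.restrictScalars R) = (gM.restrictScalars R).comp
      (f.restrictScalars R) from LinearMap.ext hfg, rTensor_comp_apply, hy, map_zero]
  have h2 : fq.rangeRestrict.rTensor A (g₁ y) = 0 := by
    have hinj : Function.Injective (I.subtype.rTensor A) := by
      have hex : Function.Exact I.subtype I.mkQ := LinearMap.exact_subtype_mkQ I
      haveI := hflat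
      exact (LinearMap.lTensor_inj_iff_rTensor_inj A I.subtype).1
        (FlatSyz.lTensor_subtype_injective_of_flat_quotient I.subtype I.injective_subtype I.mkQ hex I.mkQ_surjective A)
    apply hinj
    rw [← rTensor_comp_apply, map_zero]
    exact h1
  obtain ⟨k₁, hk₁⟩ := (rTensor_exact A (g := fq.rangeRestrict) (f := (LinearMap.ker fq).subtype)
    (fun v => ⟨fun hv => ⟨⟨v, congrArg Subtype.val hv⟩, rfl⟩, fun ⟨w, hw⟩ => hw ▸ Subtype.ext w.2⟩)
    fq.surjective_rangeRestrict (g₁ y)).1 h2
  have key : ∀ k₁ : (LinearMap.ker fq) ⊗[R] A, ∃ t ∉ q, ∃ k : (LinearMap.ker f) ⊗[R] A,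
      g₁ (AlgebraTensorModule.rTensor R A (LinearMap.ker f).subtype k) =
        t • (LinearMap.ker fq).subtype.rTensor A k₁ := by
    intro k₁
    induction k₁ using TensorProduct.induction_on with
    | zero => exact ⟨1, (q.primeCompl).one_mem, 0, by simp⟩
    | tmul v a =>
      obtain ⟨⟨n, c⟩, hc⟩ := IsLocalizedModule.surj q.primeCompl gN v.1
      have hc' : (c : S) • v.1 = gN n := hc
      have h0 : gM (f n) = 0 := by
        rw [← hfg, ← hc', map_smul_of_tower, show fS v.1 = 0 from v.2, smul_zero]
      obtain ⟨d, hd⟩ := (IsLocalizedModule.eq_zero_iff q.primeCompl gM).1 h0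
      refine ⟨(d : S) * c, (d * c).2, (⟨(d : S) • n, by rw [LinearMap.mem_ker, map_smul]; exact hd⟩ :
        LinearMap.ker f) ⊗ₜ a, ?_⟩
      simp only [g₁, AlgebraTensorModule.rTensor_tmul, Submodule.subtype_apply, rTensor_tmul,
        TensorProduct.smul_tmul', mul_smul, hc', map_smul]
    | add a b ha hb =>
      obtain ⟨t₁, ht₁, k, hk⟩ := ha
      obtain ⟨t₂, ht₂, k', hk'⟩ := hb
      refine ⟨t₁ * t₂, fun hm => (Ideal.IsPrime.mem_or_mem ‹q.IsPrime› hm).elim ht₁ ht₂,
        t₂ • k + t₁ • k', ?_⟩
      rw [map_add, map_add, map_smul, map_smul, map_smul, map_smul, hk, hk', map_add, smul_add,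
        smul_smul, smul_smul, mul_comm t₂]
  obtain ⟨t, ht, k, hk⟩ := key k₁
  rw [hk₁, ← map_smul] at hk
  obtain ⟨c, hc⟩ := (IsLocalizedModule.eq_iff_exists q.primeCompl g₁).1 hk
  refine ⟨(c : S) * t, fun hm => (Ideal.IsPrime.mem_or_mem ‹q.IsPrime› hm).elim c.2 ht, (c : S) • k, ?_⟩
  rw [map_smul, mul_smul]
  exact hc

section BaseChange

variable {A T N' M' : Type u} [CommRing A] [Algebra R A] [CommRing T] [Algebra A T]
  [AddCommGroup N'] [Module R N'] [Module A N'] [Module T N'] [IsScalarTower A T N'] [IsScalarTower R A N']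
  [AddCommGroup M'] [Module R M'] [Module A M'] [Module T M'] [IsScalarTower A T M'] [IsScalarTower R A M']
  (μ : S →+* T) {ιN : N →ₗ[R] N'} (hN : IsBaseChange A ιN) (hNs : ∀ (s : S) (n : N), ιN (s • n) = μ s • ιN n)
  {ιM : M →ₗ[R] M'} (hM : IsBaseChange A ιM) (hMs : ∀ (s : S) (m : M), ιM (s • m) = μ s • ιM m)
  (u : N →ₗ[S] M) (u' : N' →ₗ[T] M') (hu : ∀ n, u' (ιN n) = ιM (u n))
  (q : Ideal T) [q.IsPrime]

include hN hNs hM hMs hu

/-- Base change when the cokernel is flat and the kernel dies. -/
theorem goodAt_of_ker (hC : Module.Flat R (LocalizedModule (q.comap μ).primeCompl (M ⧸ LinearMap.range u)))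
    (hK : ∀ k ∈ LinearMap.ker u, ∃ t ∉ q, t • ιN k = 0) : GoodAt A q u' := by
  let eN : A ⊗[R] N ≃ₗ[A] N' := hN.equiv
  let eM : A ⊗[R] M ≃ₗ[A] M' := hM.equiv
  let uR := u.restrictScalars R
  have hcomm : ∀ y, u' (eN y) = eM (uR.lTensor A y) := by
    intro y
    induction y using TensorProduct.induction_on with
    | zero => simp
    | add a b ha hb => simp only [map_add, ha, hb]
    | tmul a n => simp [eN, eM, uR, IsBaseChange.equiv_tmul, map_smul_of_tower, hu]
  refine ⟨fun z t ht hz => ?_, ?_⟩
  · let y : N ⊗[R] A := TensorProduct.comm R A N (eN.symm (t • z))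
    have hy : uR.rTensor A y = 0 := by
      have h1 : uR.lTensor A (eN.symm (t • z)) = 0 := eM.injective (by
        rw [← hcomm, LinearEquiv.apply_symm_apply, map_smul, hz, map_zero])
      show uR.rTensor A (TensorProduct.comm R A N (eN.symm (t • z))) = 0
      rw [show ∀ w, uR.rTensor A (TensorProduct.comm R A N w) = TensorProduct.comm R A M (uR.lTensor A w) from
        fun w => by
          induction w using TensorProduct.induction_on with
          | zero => simp
          | add a b ha hb => simp only [map_add, ha, hb]
          | tmul a n => simp, h1, map_zero]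
    obtain ⟨s, hs, k, hk⟩ := exists_smul_mem_range_rTensor (q.comap μ) u hC A y hy
    let θ : N ⊗[R] A →+ N' :=
      (eN.toLinearMap.toAddMonoidHom).comp (TensorProduct.comm R A N).symm.toLinearMap.toAddMonoidHom
    have hθ : ∀ (s : S) (w : N ⊗[R] A), θ (s • w) = μ s • θ w := by
      intro s w
      induction w using TensorProduct.induction_on with
      | zero => simp
      | add a b ha hb => simp only [smul_add, map_add, ha, hb]
      | tmul n a => simp [θ, eN, TensorProduct.smul_tmul', IsBaseChange.equiv_tmul, hNs, smul_comm a (μ s)]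
    have hkill : ∀ k : (LinearMap.ker u) ⊗[R] A,
        ∃ t' ∉ q, t' • θ (AlgebraTensorModule.rTensor R A (LinearMap.ker u).subtype k) = 0 := by
      intro k
      induction k using TensorProduct.induction_on with
      | zero => exact ⟨1, q.primeCompl.one_mem, by simp⟩
      | tmul n a =>
        obtain ⟨t', ht', h⟩ := hK n.1 n.2
        exact ⟨t', ht', by simp [θ, eN, IsBaseChange.equiv_tmul, smul_comm t' a, h]⟩
      | add a b ha hb =>
        obtain ⟨t₁, ht₁, h₁⟩ := ha
        obtain ⟨t₂, ht₂, h₂⟩ := hb
        refine ⟨t₁ * t₂, fun hm => (Ideal.IsPrime.mem_or_mem ‹q.IsPrime› hm).elim ht₁ ht₂, ?_⟩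
        rw [map_add, map_add, smul_add, mul_smul, mul_smul, h₂, smul_zero, add_zero, smul_comm, h₁, smul_zero]
    obtain ⟨t', ht', h⟩ := hkill k
    rw [hk, hθ, show θ y = t • z by simp [θ, y]] at h
    refine ⟨t' * (μ s * t), fun hm => (Ideal.IsPrime.mem_or_mem ‹q.IsPrime› hm).elim ht'
      fun hm => (Ideal.IsPrime.mem_or_mem ‹q.IsPrime› hm).elim hs ht, ?_⟩
    rw [mul_smul, mul_smul]
    exact h
  · let C₀ := M ⧸ LinearMap.range u
    letI : Algebra R T := ((algebraMap A T).comp (algebraMap R A)).toAlgebra
    haveI : IsScalarTower R T M' := IsScalarTower.of_algebraMap_smul fun r x => by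
      show algebraMap A T (algebraMap R A r) • x = r • x
      rw [algebraMap_smul, algebraMap_smul]
    haveI : IsScalarTower R A (M' ⧸ LinearMap.range u') := IsScalarTower.of_algebraMap_smul fun r x => by
      induction x using Submodule.Quotient.induction_on with
      | H x => rw [← Submodule.Quotient.mk_smul, algebraMap_smul, Submodule.Quotient.mk_smul]
    let πR : M →ₗ[R] C₀ := (LinearMap.range u).mkQ.restrictScalars R
    have hle : LinearMap.range u ≤ LinearMap.ker ((LinearMap.range u).mkQ) := by rw [Submodule.ker_mkQ]
    let ιC : C₀ →ₗ[R] M' ⧸ LinearMap.range u' :=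
      { toFun := fun c => Quotient.liftOn' c (fun m => (Submodule.Quotient.mk (ιM m) : M' ⧸ LinearMap.range u'))
          fun a b hab => by
            rw [Submodule.quotientRel_def] at hab
            obtain ⟨n, hn⟩ := hab
            rw [Submodule.Quotient.eq, ← map_sub, ← hn, ← hu]
            exact ⟨_, rfl⟩
        map_add' := fun a b => by
          induction a using Submodule.Quotient.induction_on with
          | H a => induction b using Submodule.Quotient.induction_on with
            | H b =>
              show (Submodule.Quotient.mk (ιM (a + b)) : M' ⧸ LinearMap.range u') = _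
              rw [map_add, Submodule.Quotient.mk_add]
              rfl
        map_smul' := fun r a => by
          induction a using Submodule.Quotient.induction_on with
          | H a =>
            show (Submodule.Quotient.mk (ιM (r • a)) : M' ⧸ LinearMap.range u') = _
            rw [map_smul, ← algebraMap_smul A r (ιM a), Submodule.Quotient.mk_smul, algebraMap_smul]
            rfl }
    have hιC : ∀ m, ιC (Submodule.Quotient.mk m) = Submodule.Quotient.mk (ιM m) := fun m => rfl
    let Φ := ιC.liftBaseChange A
    have hΦ : ∀ w, Φ (πR.lTensor A w) = Submodule.Quotient.mk (eM w) := by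
      intro w
      induction w using TensorProduct.induction_on with
      | zero => simp
      | add a b ha hb => simp only [map_add, ha, hb, Submodule.Quotient.mk_add]
      | tmul a m => simp [Φ, πR, hιC, eM, IsBaseChange.equiv_tmul]
    have hπR : Function.Surjective (πR.lTensor A) :=
      LinearMap.lTensor_surjective A (LinearMap.range u).mkQ_surjective
    have hbij : Function.Bijective Φ := by
      refine ⟨?_, fun c => ?_⟩
      · rw [injective_iff_map_eq_zero]
        intro v hv
        obtain ⟨w, rfl⟩ := hπR v
        rw [hΦ, Submodule.Quotient.mk_eq_zero] at hv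
        obtain ⟨z, hz⟩ := hv
        have h1 : w = uR.lTensor A (eN.symm z) := eM.injective (by
          rw [← hz, ← hcomm, LinearEquiv.apply_symm_apply])
        rw [h1, ← lTensor_comp_apply, show πR.comp uR = 0 from LinearMap.ext fun n =>
          (Submodule.Quotient.mk_eq_zero _).2 ⟨n, rfl⟩, lTensor_zero, LinearMap.zero_apply]
      · obtain ⟨m, rfl⟩ := Submodule.Quotient.mk_surjective _ c
        exact ⟨πR.lTensor A (eM.symm m), by rw [hΦ, LinearEquiv.apply_symm_apply]⟩
    haveI := hC
    refine FlatH4.flat_localized_baseChange A μ q (LinearEquiv.ofBijective Φ hbij) fun s c => ?_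
    obtain ⟨m, rfl⟩ := Submodule.Quotient.mk_surjective _ c
    simp only [LinearEquiv.ofBijective_apply, Φ, LinearMap.liftBaseChange_tmul, one_smul]
    show ιC (Submodule.Quotient.mk (s • m)) = μ s • (Submodule.Quotient.mk (ιM m) : M' ⧸ LinearMap.range u')
    rw [hιC, hMs, Submodule.Quotient.mk_smul]

/-- Base change stability. -/
theorem GoodAt.baseChange (h : GoodAt R (q.comap μ) u) : GoodAt A q u' :=
  goodAt_of_ker μ hN hNs hM hMs u u' hu q h.2 fun k hk => by
    obtain ⟨s, hs, h0⟩ := h.1 k 1 (q.comap μ).primeCompl.one_mem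
      (by rw [one_smul]; exact LinearMap.mem_ker.1 hk)
    exact ⟨μ s, hs, by rw [← hNs, h0, map_zero]⟩

end BaseChange

section Descent

open FlatH4

variable (A : Type u) [CommRing A] [Algebra R A] [IsNoetherianRing R] [Algebra.FiniteType R S]
  [Module.Finite S N] [Module.Finite S M] {F : Type u} [AddCommGroup F] [Module R F] [Module S F]
  [IsScalarTower R S F] [Module.Finite S F] [Module.Flat R F] (π : F →ₗ[S] M) (u : N →ₗ[S] M)
  (q : Ideal (A ⊗[R] S)) [q.IsPrime]

/-- Descent to a finitely generated subalgebra. -/
theorem exists_subalgebra_goodAt (hπ : Function.Surjective π)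
    (hgood : letI := tensorModule R A S N
      letI := tensorModule R A S M
      haveI := tensorModule_isScalarTower R A S M
      ∃ u' : A ⊗[R] N →ₗ[A ⊗[R] S] A ⊗[R] M,
        (∀ n, u' ((1 : A) ⊗ₜ n) = (1 : A) ⊗ₜ u n) ∧ GoodAt A q u') :
    ∃ B : Subalgebra R A, B.FG ∧
      ∀ {A' T' N'' M'' : Type u} [CommRing A'] [Algebra R A'] [CommRing T'] [Algebra A' T']
        [AddCommGroup N''] [Module R N''] [Module A' N''] [Module T' N''] [IsScalarTower A' T' N'']
        [IsScalarTower R A' N''] [AddCommGroup M''] [Module R M''] [Module A' M''] [Module T' M'']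
        [IsScalarTower A' T' M''] [IsScalarTower R A' M''] (χ : B →ₐ[R] A') (μ : S →+* T')
        (_ : ∀ r : R, μ (algebraMap R S r) = algebraMap A' T' (algebraMap R A' r))
        (ιN : N →ₗ[R] N'') (_ : IsBaseChange A' ιN) (_ : ∀ (s : S) (n : N), ιN (s • n) = μ s • ιN n)
        (ιM : M →ₗ[R] M'') (_ : IsBaseChange A' ιM) (_ : ∀ (s : S) (m : M), ιM (s • m) = μ s • ιM m)
        (u'' : N'' →ₗ[T'] M'') (_ : ∀ n, u'' (ιN n) = ιM (u n)) (q'' : Ideal T') [q''.IsPrime],
        (∀ (c : B) (s : S), algebraMap A' T' (χ c) * μ s ∈ q'' ↔ (c : A) ⊗ₜ[R] s ∈ q) →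
        (∀ z : B ⊗[R] S, ∀ e : B ⊗[R] S →+* T', (∀ c s, e (c ⊗ₜ s) = algebraMap A' T' (χ c) * μ s) →
          (e z ∈ q'' ↔ Algebra.TensorProduct.map B.val (AlgHom.id R S) z ∈ q)) →
        GoodAt A' q'' u'' := by
  classical
  letI := tensorModule R A S N
  letI := tensorModule R A S M
  haveI := tensorModule_isScalarTower R A S N
  haveI := tensorModule_isScalarTower R A S M
  obtain ⟨uA, huA, hinjA, hflatA⟩ := hgood
  let C₀ := M ⧸ LinearMap.range u
  let π₀ : F →ₗ[S] C₀ := (LinearMap.range u).mkQ.comp π
  letI := tensorModule R A S C₀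
  haveI := tensorModule_isScalarTower R A S C₀
  -- the cokernel after base change
  have hflat : Module.Flat A (LocalizedModule q.primeCompl (A ⊗[R] C₀)) := by
    let πA : A ⊗[R] M →ₗ[A ⊗[R] S] A ⊗[R] C₀ :=
      { toFun := ((LinearMap.range u).mkQ.restrictScalars R).lTensor A
        map_add' := map_add _
        map_smul' := fun c x => by
          show ((LinearMap.range u).mkQ.restrictScalars R).lTensor A (tensorAct R A S M c x) =
            tensorAct R A S C₀ c (((LinearMap.range u).mkQ.restrictScalars R).lTensor A x)
          induction c using TensorProduct.induction_on with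
          | zero => simp
          | add a b ha hb => simp only [map_add, LinearMap.add_apply, ha, hb]
          | tmul a s =>
            induction x using TensorProduct.induction_on with
            | zero => simp
            | add x y hx hy => simp only [map_add, hx, hy]
            | tmul b m => simp [tensorAct_tmul] }
    have hsurj : Function.Surjective πA :=
      LinearMap.lTensor_surjective A (LinearMap.range u).mkQ_surjective
    have huA' : ∀ y, uA y = (u.restrictScalars R).lTensor A y := by
      intro y
      induction y using TensorProduct.induction_on with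
      | zero => simp
      | add a b ha hb => simp only [map_add, ha, hb]
      | tmul a n =>
        rw [show a ⊗ₜ[R] n = a • ((1 : A) ⊗ₜ[R] n) by rw [TensorProduct.smul_tmul', smul_eq_mul, mul_one],
          map_smul_of_tower, huA, TensorProduct.smul_tmul', smul_eq_mul, mul_one, TensorProduct.smul_tmul',
          smul_eq_mul, mul_one]
        rfl
    have hker : LinearMap.ker πA = LinearMap.range uA := by
      ext x
      constructor
      · intro hx
        obtain ⟨y, hy⟩ := (_root_.lTensor_exact A (f := u.restrictScalars R)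
          (g := (LinearMap.range u).mkQ.restrictScalars R)
          (LinearMap.exact_map_mkQ_range u) (LinearMap.range u).mkQ_surjective x).1 hx
        exact ⟨y, (huA' y).trans hy⟩
      · rintro ⟨y, rfl⟩
        rw [huA']
        exact (_root_.lTensor_exact A (f := u.restrictScalars R)
          (g := (LinearMap.range u).mkQ.restrictScalars R)
          (LinearMap.exact_map_mkQ_range u) (LinearMap.range u).mkQ_surjective _).2 ⟨y, rfl⟩
    exact (flat_localized_congr q ((Submodule.quotEquivOfEq _ _ hker.symm).trans
      (πA.quotKerEquivOfSurjective hsurj))).1 hflatA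
  obtain ⟨B₀, hB₀, hflatB⟩ := exists_subalgebra_flatAt_of_presentation π₀
    ((LinearMap.range u).mkQ_surjective.comp hπ) q hflat
  haveI : IsNoetherianRing B₀ := isNoetherianRing_of_fg hB₀
  haveI : IsNoetherianRing (B₀ ⊗[R] S) := Algebra.FiniteType.isNoetherianRing B₀ _
  letI := tensorModule R B₀ S N
  letI := tensorModule R B₀ S M
  letI := tensorModule R B₀ S C₀
  haveI := tensorModule_isScalarTower R B₀ S N
  haveI := tensorModule_isScalarTower R B₀ S M
  haveI := tensorModule_isScalarTower R B₀ S C₀
  haveI := tensorModule_finite R B₀ S N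
  let uB : B₀ ⊗[R] N →ₗ[B₀ ⊗[R] S] B₀ ⊗[R] M :=
    { toFun := (u.restrictScalars R).lTensor B₀
      map_add' := map_add _
      map_smul' := fun c x => by
        show (u.restrictScalars R).lTensor B₀ (tensorAct R B₀ S N c x) =
          tensorAct R B₀ S M c ((u.restrictScalars R).lTensor B₀ x)
        induction c using TensorProduct.induction_on with
        | zero => simp
        | add a b ha hb => simp only [map_add, LinearMap.add_apply, ha, hb]
        | tmul a s =>
          induction x using TensorProduct.induction_on with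
          | zero => simp
          | add x y hx hy => simp only [map_add, hx, hy]
          | tmul b m => simp [tensorAct_tmul] }
  let πB : B₀ ⊗[R] M →ₗ[B₀ ⊗[R] S] B₀ ⊗[R] C₀ :=
    { toFun := ((LinearMap.range u).mkQ.restrictScalars R).lTensor B₀
      map_add' := map_add _
      map_smul' := fun c x => by
        show ((LinearMap.range u).mkQ.restrictScalars R).lTensor B₀ (tensorAct R B₀ S M c x) =
          tensorAct R B₀ S C₀ c (((LinearMap.range u).mkQ.restrictScalars R).lTensor B₀ x)
        induction c using TensorProduct.induction_on with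
        | zero => simp
        | add a b ha hb => simp only [map_add, LinearMap.add_apply, ha, hb]
        | tmul a s =>
          induction x using TensorProduct.induction_on with
          | zero => simp
          | add x y hx hy => simp only [map_add, hx, hy]
          | tmul b m => simp [tensorAct_tmul] }
  have hkerB : LinearMap.ker πB = LinearMap.range uB := by
    ext x
    exact (_root_.lTensor_exact B₀ (f := u.restrictScalars R)
      (g := (LinearMap.range u).mkQ.restrictScalars R)
      (LinearMap.exact_map_mkQ_range u) (LinearMap.range u).mkQ_surjective x)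
  let qB := primeAt q B₀
  have hflatB' : Module.Flat B₀ (LocalizedModule qB.primeCompl ((B₀ ⊗[R] M) ⧸ LinearMap.range uB)) :=
    (flat_localized_congr qB ((Submodule.quotEquivOfEq _ _ hkerB.symm).trans
      (πB.quotKerEquivOfSurjective (LinearMap.lTensor_surjective B₀ (LinearMap.range u).mkQ_surjective)))).2
      (hflatB B₀ le_rfl hB₀)
  -- kill the kernel at a bigger stage
  obtain ⟨r, gen, hgen⟩ := Submodule.fg_iff_exists_fin_generating_family.1
    (IsNoetherian.noetherian (LinearMap.ker uB) : (LinearMap.ker uB).FG)
  have hk : ∀ i, ∃ t ∉ q, t • (B₀.val.toLinearMap.rTensor N (gen i)) = 0 := by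
    intro i
    obtain ⟨t, ht, h⟩ := hinjA (B₀.val.toLinearMap.rTensor N (gen i)) 1 q.primeCompl.one_mem (by
      rw [one_smul]
      have h0 : (u.restrictScalars R).lTensor B₀ (gen i) = 0 :=
        LinearMap.mem_ker.1 (hgen.le (Submodule.subset_span ⟨i, rfl⟩))
      have hnat : ∀ y : B₀ ⊗[R] N, uA (B₀.val.toLinearMap.rTensor N y) =
          B₀.val.toLinearMap.rTensor M ((u.restrictScalars R).lTensor B₀ y) := by
        intro y
        induction y using TensorProduct.induction_on with
        | zero => simp
        | add a b ha hb => simp only [map_add, ha, hb]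
        | tmul a n =>
          simp only [rTensor_tmul, lTensor_tmul, AlgHom.toLinearMap_apply, LinearMap.restrictScalars_apply,
            Subalgebra.coe_val]
          rw [show (a : A) ⊗ₜ[R] n = (a : A) • ((1 : A) ⊗ₜ[R] n) by rw [TensorProduct.smul_tmul', smul_eq_mul, mul_one],
            map_smul_of_tower, huA, TensorProduct.smul_tmul', smul_eq_mul, mul_one]
      rw [hnat, h0, map_zero])
    exact ⟨t, ht, h⟩
  choose t ht htk using hk
  have hstep : ∀ i, ∃ B : Subalgebra R A, B.FG ∧ ∃ hle : B₀ ≤ B, ∃ τ : B ⊗[R] S,
      B.val.toLinearMap.rTensor S τ = t i ∧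
        tensorAct R B S N τ ((Subalgebra.inclusion hle).toLinearMap.rTensor N (gen i)) = 0 := by
    intro i
    obtain ⟨B₁, hB₁, τ₁, hτ₁⟩ := TensorProduct.Algebra.exists_of_fg (t i)
    let B₂ := B₀ ⊔ B₁
    let τ := (Subalgebra.inclusion (le_sup_right : B₁ ≤ B₂)).toLinearMap.rTensor S τ₁
    let w := tensorAct R B₂ S N τ
      ((Subalgebra.inclusion (le_sup_left : B₀ ≤ B₂)).toLinearMap.rTensor N (gen i))
    have hτ : B₂.val.toLinearMap.rTensor S τ = t i := by
      rw [← hτ₁]
      show B₂.val.toLinearMap.rTensor S ((Subalgebra.inclusion (le_sup_right : B₁ ≤ B₂)).toLinearMap.rTensor S τ₁) = _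
      rw [← rTensor_comp_apply]; rfl
    have hnat : ∀ (c : B₂ ⊗[R] S) (x : B₂ ⊗[R] N), B₂.val.toLinearMap.rTensor N (tensorAct R B₂ S N c x) =
        tensorAct R A S N (B₂.val.toLinearMap.rTensor S c) (B₂.val.toLinearMap.rTensor N x) := by
      intro c x
      induction c using TensorProduct.induction_on with
      | zero => simp
      | add a b ha hb => simp only [map_add, LinearMap.add_apply, ha, hb]
      | tmul a s =>
        induction x using TensorProduct.induction_on with
        | zero => simp
        | add x y hx hy => simp only [map_add, hx, hy]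
        | tmul b m => simp [tensorAct_tmul]
    have hw : B₂.val.toLinearMap.rTensor N w = B₂.val.toLinearMap.rTensor N 0 := by
      rw [map_zero, hnat, hτ, ← rTensor_comp_apply]
      exact htk i
    obtain ⟨B, hle, hB, hBw⟩ := TensorProduct.Algebra.eq_of_fg_of_subtype_eq (hB₀.sup hB₁) hw
    refine ⟨B, hB, le_sup_left.trans hle, (Subalgebra.inclusion hle).toLinearMap.rTensor S τ, ?_, ?_⟩
    · rw [← hτ, ← rTensor_comp_apply]; rfl
    · rw [map_zero] at hBw
      have hnat' : ∀ (c : B₂ ⊗[R] S) (x : B₂ ⊗[R] N),
          (Subalgebra.inclusion hle).toLinearMap.rTensor N (tensorAct R B₂ S N c x) =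
          tensorAct R B S N ((Subalgebra.inclusion hle).toLinearMap.rTensor S c)
            ((Subalgebra.inclusion hle).toLinearMap.rTensor N x) := by
        intro c x
        induction c using TensorProduct.induction_on with
        | zero => simp
        | add a b ha hb => simp only [map_add, LinearMap.add_apply, ha, hb]
        | tmul a s =>
          induction x using TensorProduct.induction_on with
          | zero => simp
          | add x y hx hy => simp only [map_add, hx, hy]
          | tmul b m => simp [tensorAct_tmul]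
      rw [hnat'] at hBw
      refine Eq.trans ?_ hBw
      congr 1
      rw [← rTensor_comp_apply]; rfl
  choose Bi hBi hlei τ hτ hτk using hstep
  let B := B₀ ⊔ Finset.univ.sup Bi
  have hB : B.FG := by
    refine hB₀.sup ?_
    exact Finset.sup_induction Subalgebra.fg_bot (fun _ h _ h' => h.sup h') fun i _ => hBi i
  have hleB : ∀ i, Bi i ≤ B := fun i => (Finset.le_sup (Finset.mem_univ i)).trans le_sup_right
  refine ⟨B, hB, ?_⟩
  intro A' T' N'' M'' _ _ _ _ _ _ _ _ _ _ _ _ _ _ _ _ χ μ hμ ιN hιN hNs ιM hιM hMs u'' hu q'' _ hq1 hq2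
  -- algebra structures through `χ`
  let χ₀ : B₀ →ₐ[R] A' := χ.comp (Subalgebra.inclusion le_sup_left)
  letI : Algebra B₀ A' := χ₀.toRingHom.toAlgebra
  haveI : IsScalarTower R B₀ A' := IsScalarTower.of_algebraMap_eq fun r => (χ₀.commutes r).symm
  letI : Module B₀ N'' := Module.compHom N'' χ₀.toRingHom
  letI : Module B₀ M'' := Module.compHom M'' χ₀.toRingHom
  haveI : IsScalarTower B₀ A' N'' := IsScalarTower.of_algebraMap_smul fun _ _ => rfl
  haveI : IsScalarTower B₀ A' M'' := IsScalarTower.of_algebraMap_smul fun _ _ => rfl
  haveI : IsScalarTower R B₀ N'' := IsScalarTower.of_algebraMap_smul fun r x => by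
    show χ₀ (algebraMap R B₀ r) • x = r • x
    rw [AlgHom.commutes, algebraMap_smul]
  haveI : IsScalarTower R B₀ M'' := IsScalarTower.of_algebraMap_smul fun r x => by
    show χ₀ (algebraMap R B₀ r) • x = r • x
    rw [AlgHom.commutes, algebraMap_smul]
  letI algR : Algebra R T' := ((algebraMap A' T').comp (algebraMap R A')).toAlgebra
  let μA : S →ₐ[R] T' := { μ with commutes' := hμ }
  let χT : B →ₐ[R] T' := { (algebraMap A' T').comp χ.toRingHom with
    commutes' := fun r => by
      show algebraMap A' T' (χ (algebraMap R B r)) = _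
      rw [AlgHom.commutes]; rfl }
  let eB : B ⊗[R] S →ₐ[R] T' := Algebra.TensorProduct.lift χT μA fun _ _ => Commute.all _ _
  let μ₀ : B₀ ⊗[R] S →+* T' :=
    (eB.comp (Algebra.TensorProduct.map (Subalgebra.inclusion (le_sup_left : B₀ ≤ B)) (AlgHom.id R S))).toRingHom
  have hμ₀ : ∀ (c : B₀) (s : S), μ₀ (c ⊗ₜ s) = algebraMap A' T' (χ₀ c) * μ s := fun c s => by
    simp [μ₀, eB, χT, μA, χ₀]
  let ιN₀ : B₀ ⊗[R] N →ₗ[B₀] N'' := ιN.liftBaseChange B₀
  let ιM₀ : B₀ ⊗[R] M →ₗ[B₀] M'' := ιM.liftBaseChange B₀
  have hN₀ : IsBaseChange A' ιN₀ := IsBaseChange.of_comp (TensorProduct.isBaseChange R N B₀)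
    (show IsBaseChange A' ((ιN₀.restrictScalars R).comp (TensorProduct.mk R B₀ N 1)) by
      rw [show (ιN₀.restrictScalars R).comp (TensorProduct.mk R B₀ N 1) = ιN from
        LinearMap.ext fun n => by simp [ιN₀]]
      exact hιN)
  have hM₀ : IsBaseChange A' ιM₀ := IsBaseChange.of_comp (TensorProduct.isBaseChange R M B₀)
    (show IsBaseChange A' ((ιM₀.restrictScalars R).comp (TensorProduct.mk R B₀ M 1)) by
      rw [show (ιM₀.restrictScalars R).comp (TensorProduct.mk R B₀ M 1) = ιM from
        LinearMap.ext fun n => by simp [ιM₀]]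
      exact hιM)
  have hcomap : q''.comap μ₀ = qB := by
    ext z
    show eB (Algebra.TensorProduct.map (Subalgebra.inclusion (le_sup_left : B₀ ≤ B)) (AlgHom.id R S) z) ∈ q'' ↔ _
    rw [show eB (Algebra.TensorProduct.map (Subalgebra.inclusion (le_sup_left : B₀ ≤ B)) (AlgHom.id R S) z) =
      eB.toRingHom (Algebra.TensorProduct.map (Subalgebra.inclusion (le_sup_left : B₀ ≤ B)) (AlgHom.id R S) z) from rfl,
      hq2 _ eB.toRingHom fun c s => by simp [eB, χT, μA]]
    show Algebra.TensorProduct.map B.val (AlgHom.id R S)
      (Algebra.TensorProduct.map (Subalgebra.inclusion (le_sup_left : B₀ ≤ B)) (AlgHom.id R S) z) ∈ q ↔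
        Algebra.TensorProduct.map B₀.val (AlgHom.id R S) z ∈ q
    rw [← AlgHom.comp_apply, ← Algebra.TensorProduct.map_comp]
    rfl
  haveI : Module.Flat B₀ (LocalizedModule (q''.comap μ₀).primeCompl ((B₀ ⊗[R] M) ⧸ LinearMap.range uB)) := by
    have hc : (q''.comap μ₀).primeCompl = qB.primeCompl := SetLike.ext fun z => not_congr (by rw [hcomap])
    rw [hc]; exact hflatB'
  refine goodAt_of_ker μ₀ hN₀ ?_ hM₀ ?_ uB u'' ?_ q'' inferInstance ?_
  · intro c n
    show ιN₀ (tensorAct R B₀ S N c n) = μ₀ c • ιN₀ n
    induction c using TensorProduct.induction_on with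
    | zero => simp
    | add a b ha hb => simp only [map_add, LinearMap.add_apply, add_smul, ha, hb]
    | tmul a s =>
      induction n using TensorProduct.induction_on with
      | zero => simp
      | add x y hx hy => simp only [map_add, smul_add, hx, hy]
      | tmul b m =>
        simp only [tensorAct_tmul, ιN₀, LinearMap.liftBaseChange_tmul, hNs, hμ₀]
        show χ₀ (a * b) • μ s • ιN m = (algebraMap A' T' (χ₀ a) * μ s) • χ₀ b • ιN m
        rw [mul_smul (algebraMap A' T' (χ₀ a)), algebraMap_smul, map_mul, mul_smul, smul_comm (χ₀ b) (μ s)]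
  · intro c n
    show ιM₀ (tensorAct R B₀ S M c n) = μ₀ c • ιM₀ n
    induction c using TensorProduct.induction_on with
    | zero => simp
    | add a b ha hb => simp only [map_add, LinearMap.add_apply, add_smul, ha, hb]
    | tmul a s =>
      induction n using TensorProduct.induction_on with
      | zero => simp
      | add x y hx hy => simp only [map_add, smul_add, hx, hy]
      | tmul b m =>
        simp only [tensorAct_tmul, ιM₀, LinearMap.liftBaseChange_tmul, hMs, hμ₀]
        show χ₀ (a * b) • μ s • ιM m = (algebraMap A' T' (χ₀ a) * μ s) • χ₀ b • ιM m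
        rw [mul_smul (algebraMap A' T' (χ₀ a)), algebraMap_smul, map_mul, mul_smul, smul_comm (χ₀ b) (μ s)]
  · intro n
    show u'' (ιN₀ n) = ιM₀ ((u.restrictScalars R).lTensor B₀ n)
    induction n using TensorProduct.induction_on with
    | zero => simp
    | add x y hx hy => simp only [map_add, hx, hy]
    | tmul b m =>
      simp only [ιN₀, ιM₀, LinearMap.liftBaseChange_tmul, lTensor_tmul, LinearMap.restrictScalars_apply]
      show u'' (χ₀ b • ιN m) = χ₀ b • ιM (u m)
      rw [map_smul_of_tower, hu]
  · intro k hk
    rw [← hgen] at hk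
    induction hk using Submodule.span_induction with
    | mem x hx =>
      obtain ⟨i, rfl⟩ := hx
      let θ : B ⊗[R] N →ₗ[R] N'' :=
        TensorProduct.lift (((LinearMap.lsmul A' N'').restrictScalars₁₂ R R).comp χ.toLinearMap |>.compl₂ ιN)
      let j := Subalgebra.inclusion (hleB i)
      refine ⟨eB (j.toLinearMap.rTensor S (τ i)), fun hm => ht i ?_, ?_⟩
      · have h := (hq2 (j.toLinearMap.rTensor S (τ i)) eB.toRingHom fun c s => by simp [eB, χT, μA]).1 hm
        rw [← hτ i]
        have e : ∀ v : (Bi i) ⊗[R] S, Algebra.TensorProduct.map B.val (AlgHom.id R S) (j.toLinearMap.rTensor S v) =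
            (Bi i).val.toLinearMap.rTensor S v := by
          intro v
          induction v using TensorProduct.induction_on with
          | zero => simp
          | add a b ha hb => simp only [map_add, ha, hb]
          | tmul a s => simp [j]
        rwa [e] at h
      · have hθ : ∀ (c : B ⊗[R] S) (x : B ⊗[R] N), θ (tensorAct R B S N c x) = eB c • θ x := by
          intro c x
          induction c using TensorProduct.induction_on with
          | zero => simp
          | add a b ha hb => simp only [map_add, LinearMap.add_apply, add_smul, ha, hb]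
          | tmul a s =>
            induction x using TensorProduct.induction_on with
            | zero => simp
            | add x y hx hy => simp only [map_add, smul_add, hx, hy]
            | tmul b m =>
              simp only [tensorAct_tmul, θ, TensorProduct.lift.tmul]
              show χ (a * b) • ιN (s • m) = (eB (a ⊗ₜ s)) • χ b • ιN m
              rw [hNs, show eB (a ⊗ₜ[R] s) = algebraMap A' T' (χ a) * μ s by simp [eB, χT, μA],
                mul_smul (algebraMap A' T' (χ a)), algebraMap_smul, map_mul, mul_smul, smul_comm (χ b) (μ s)]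
        have hnat' : ∀ (c : (Bi i) ⊗[R] S) (x : (Bi i) ⊗[R] N),
            j.toLinearMap.rTensor N (tensorAct R (Bi i) S N c x) =
            tensorAct R B S N (j.toLinearMap.rTensor S c) (j.toLinearMap.rTensor N x) := by
          intro c x
          induction c using TensorProduct.induction_on with
          | zero => simp
          | add a b ha hb => simp only [map_add, LinearMap.add_apply, ha, hb]
          | tmul a s =>
            induction x using TensorProduct.induction_on with
            | zero => simp
            | add x y hx hy => simp only [map_add, hx, hy]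
            | tmul b m => simp [tensorAct_tmul, j]
        have h1 : ιN₀ (gen i) = θ (j.toLinearMap.rTensor N ((Subalgebra.inclusion (hlei i)).toLinearMap.rTensor N (gen i))) := by
          generalize gen i = y
          induction y using TensorProduct.induction_on with
          | zero => simp
          | add a b ha hb => simp only [map_add, ha, hb]
          | tmul b m => simp [ιN₀, θ, j]; rfl
        rw [h1, ← hθ, ← hnat', hτk i, map_zero, map_zero]
    | zero => exact ⟨1, q''.primeCompl.one_mem, by simp⟩
    | add a b _ _ ha hb =>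
      obtain ⟨t₁, ht₁, h₁⟩ := ha
      obtain ⟨t₂, ht₂, h₂⟩ := hb
      refine ⟨t₁ * t₂, fun hm => (Ideal.IsPrime.mem_or_mem ‹q''.IsPrime› hm).elim ht₁ ht₂, ?_⟩
      rw [map_add, smul_add, mul_smul, mul_smul, h₂, smul_zero, add_zero, smul_comm, h₁, smul_zero]
    | smul c a _ ha =>
      obtain ⟨t₁, ht₁, h₁⟩ := ha
      refine ⟨t₁, ht₁, ?_⟩
      have hcs : ιN₀ (c • a) = μ₀ c • ιN₀ a := by
        show ιN₀ (tensorAct R B₀ S N c a) = μ₀ c • ιN₀ a
        clear h₁
        rename_i hmem
        clear hmem
        induction c using TensorProduct.induction_on with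
        | zero => simp
        | add a b ha hb => simp only [map_add, LinearMap.add_apply, add_smul, ha, hb]
        | tmul c s =>
          induction a using TensorProduct.induction_on with
          | zero => simp
          | add x y hx hy => simp only [map_add, smul_add, hx, hy]
          | tmul b m =>
            simp only [tensorAct_tmul, ιN₀, LinearMap.liftBaseChange_tmul, hNs, hμ₀]
            show χ₀ (c * b) • μ s • ιN m = (algebraMap A' T' (χ₀ c) * μ s) • χ₀ b • ιN m
            rw [mul_smul (algebraMap A' T' (χ₀ c)), algebraMap_smul, map_mul, mul_smul, smul_comm (χ₀ b) (μ s)]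
      rw [hcs, smul_comm, h₁, smul_zero]

end Descent

end Groth.Agent.SchDom
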