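import Mathlib.RingTheory.Localization.Away.Basic
import Mathlib.RingTheory.Localization.AtPrime.Basic
import Mathlib.RingTheory.Localization.Integer
import Mathlib.RingTheory.Adjoin.FG
import Mathlib.RingTheory.Polynomial.Basic

/-!
# Finitely generated subalgebras of a local ring lift to a principal open
-/

universe u

namespace Groth.Agent.SchDom

/-- A finitely generated subalgebra of `A_p` over a noetherian ring maps to some `A_t`, `t ∉ p`. -/
theorem exists_lift_away {R A : Type u} [CommRing R] [IsNoetherianRing R] [CommRing A] [Algebra R A]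
    (p : Ideal A) [p.IsPrime] (B₀ : Subalgebra R (Localization.AtPrime p)) (hB₀ : B₀.FG) :
    ∃ (t : A) (ht : t ∉ p) (χ : B₀ →ₐ[R] Localization.Away t), ∀ x,
      IsLocalization.Away.lift (S := Localization.Away t) t
        (IsLocalization.map_units (Localization.AtPrime p) (⟨t, ht⟩ : p.primeCompl)) (χ x) = x := by
  classical
  obtain ⟨s, hs⟩ := hB₀
  let Ap := Localization.AtPrime p
  obtain ⟨u, hu⟩ := IsLocalization.exist_integer_multiples_of_finset p.primeCompl s
  choose num hnum using fun x : s => hu x.1 x.2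
  let π : ∀ (t : A), t ∉ p → (Localization.Away t →ₐ[A] Ap) := fun t ht =>
    { IsLocalization.Away.lift (S := Localization.Away t) t
        (IsLocalization.map_units Ap (⟨t, ht⟩ : p.primeCompl)) with
      commutes' := fun r => IsLocalization.Away.lift_eq _ _ r }
  let Au := Localization.Away (u : A)
  let gen : s → Au := fun x => algebraMap A Au (num x) * IsLocalization.Away.invSelf (u : A)
  have hgen : ∀ x, π u u.2 (gen x) = x.1 := by
    intro x
    refine (IsLocalization.map_units Ap u).mul_left_cancel ?_
    rw [← Algebra.smul_def (u : A) (x.1 : Ap), ← hnum x, ← (π u u.2).commutes (u : A), ← map_mul,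
      mul_left_comm, IsLocalization.Away.mul_invSelf, mul_one, AlgHom.commutes]
  let ev : MvPolynomial s R →ₐ[R] Au := MvPolynomial.aeval gen
  let evp : MvPolynomial s R →ₐ[R] Ap := MvPolynomial.aeval fun x : s => (x.1 : Ap)
  have hev : ∀ q, π u u.2 (ev q) = evp q := fun q => by
    show ((π u u.2).restrictScalars R).comp ev q = evp q
    congr 1
    exact MvPolynomial.algHom_ext fun x => by simp [ev, evp, hgen]
  have hrange : evp.range = B₀ := by
    rw [← hs]
    refine ((Algebra.adjoin_range_eq_range_aeval R (fun x : s => (x.1 : Ap))).symm.trans ?_)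
    congr 1
    exact Subtype.range_coe
  obtain ⟨rel, hrel⟩ := IsNoetherian.noetherian (RingHom.ker evp)
  have hkill : ∀ q ∈ rel, ∃ v : A, v ∉ p ∧ algebraMap A Au v * ev q = 0 := by
    intro q hq
    obtain ⟨n, c, hc⟩ := IsLocalization.Away.surj (u : A) (ev q)
    have h0 : algebraMap A Ap c = 0 := by
      rw [← (π u u.2).commutes, ← hc, map_mul, hev, RingHom.mem_ker.1 (hrel.le (Submodule.subset_span hq)),
        zero_mul]
    obtain ⟨v, hv⟩ := (IsLocalization.map_eq_zero_iff p.primeCompl Ap c).1 h0
    refine ⟨v, v.2, ((IsLocalization.Away.algebraMap_isUnit (S := Au) (u : A)).pow n).mul_left_cancel ?_⟩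
    rw [mul_zero, mul_left_comm, mul_comm (algebraMap A Au (u : A) ^ n), hc, ← map_mul, hv, map_zero]
  choose v hv hv0 using hkill
  let t : A := (u : A) * ∏ q : rel, v q.1 q.2
  have ht : t ∉ p := fun h => (Ideal.IsPrime.mem_or_mem ‹_› h).elim u.2 fun h => by
    obtain ⟨q, -, hq⟩ := Ideal.IsPrime.prod_mem_iff.1 h
    exact hv q.1 q.2 hq
  let At := Localization.Away t
  have hut : IsUnit (algebraMap A At (u : A)) := by
    have := IsLocalization.Away.algebraMap_isUnit (S := At) t
    rw [map_mul] at this
    exact isUnit_of_mul_isUnit_left this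
  let ρ : Au →ₐ[A] At := { IsLocalization.Away.lift (u : A) hut with
    commutes' := fun r => IsLocalization.Away.lift_eq _ _ r }
  let ev' : MvPolynomial s R →ₐ[R] At := (ρ.restrictScalars R).comp ev
  have hker : ∀ q ∈ rel, ev' q = 0 := by
    intro q hq
    have hvu : IsUnit (algebraMap A At (v q hq)) := by
      have := IsLocalization.Away.algebraMap_isUnit (S := At) t
      rw [map_mul, map_prod, ← Finset.prod_erase_mul _ _ (Finset.mem_univ (⟨q, hq⟩ : rel))] at this
      exact isUnit_of_mul_isUnit_right (isUnit_of_mul_isUnit_right this)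
    refine hvu.mul_left_cancel ?_
    rw [mul_zero, ← ρ.commutes]
    show ρ _ * ρ (ev q) = 0
    rw [← map_mul, hv0 q hq, map_zero]
  let evB : MvPolynomial s R →ₐ[R] B₀ := evp.codRestrict B₀ fun q => hrange.le ⟨q, rfl⟩
  have hevB : Function.Surjective evB := fun x => by
    obtain ⟨q, hq⟩ := hrange.ge x.2
    exact ⟨q, Subtype.ext hq⟩
  have hle : RingHom.ker evB ≤ RingHom.ker ev' := by
    intro q hq
    have hq' : q ∈ RingHom.ker evp := congrArg Subtype.val (RingHom.mem_ker.1 hq)
    rw [← hrel] at hq'
    exact (Submodule.span_le.2 fun q hq => hker q hq :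
      Submodule.span _ (rel : Set (MvPolynomial s R)) ≤ RingHom.ker ev') hq'
  refine ⟨t, ht, AlgHom.liftOfSurjective evB hevB ev' hle, fun x => ?_⟩
  obtain ⟨q, rfl⟩ := hevB x
  rw [AlgHom.liftOfSurjective_apply]
  show π t ht (ρ (ev q)) = evp q
  rw [← hev]
  have : ((π t ht).comp ρ).toRingHom = (π u u.2).toRingHom :=
    IsLocalization.ringHom_ext (Submonoid.powers (u : A)) (RingHom.ext fun r => by simp)
  exact RingHom.congr_fun this (ev q)

end Groth.Agent.SchDom
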