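import Groth.Agent.Lib.FlatH4.InjCrit
import Mathlib.RingTheory.Filtration
import Mathlib.RingTheory.Localization.Finiteness
import Mathlib.RingTheory.Localization.Submodule
import Mathlib.RingTheory.Flat.Localization
import Mathlib.RingTheory.Localization.AtPrime.Basic
import Mathlib.Algebra.Module.LocalizedModule.Basic

/-!
# Non-zero-divisors on the closed fibre of a flat module (Noetherian case)
-/

universe u

namespace Groth.Agent.SchDom

open TensorProduct

/-- An element which is a non-zero-divisor on the fibre at the image of `r` is a non-zero-divisor at `r`,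
for flat finite modules over Noetherian rings. -/
theorem eq_zero_of_fibre_nzd_noetherian {R S M : Type u} [CommRing R] [CommRing S] [Algebra R S]
    [IsNoetherianRing S] [AddCommGroup M] [Module R M] [Module S M] [IsScalarTower R S M]
    [Module.Finite S M] [Module.Flat R M] (r : Ideal S) [r.IsPrime] (h : S)
    (hnzd : ∀ z : M, ∀ t ∉ r, t • h • z ∈ r.comap (algebraMap R S) • (⊤ : Submodule R M) →
      ∃ t' ∉ r, t' • z ∈ r.comap (algebraMap R S) • (⊤ : Submodule R M))
    (y : M) (t : S) (ht : t ∉ r) (hy : t • h • y = 0) : ∃ t' ∉ r, t' • y = 0 := by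
  let p := r.comap (algebraMap R S)
  let R' := Localization.AtPrime p
  let S' := Localization.AtPrime r
  let N := LocalizedModule r.primeCompl M
  let g := LocalizedModule.mkLinearMap r.primeCompl M
  let φ : R' →+* S' := Localization.localRingHom p r (algebraMap R S) rfl
  letI : Algebra R' S' := φ.toAlgebra
  haveI : IsScalarTower R R' S' := IsScalarTower.of_algebraMap_eq fun x => by
    show _ = φ (algebraMap R R' x)
    rw [Localization.localRingHom_to_map, ← IsScalarTower.algebraMap_apply]
  letI : Module R' N := Module.compHom N φ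
  haveI : IsScalarTower R' S' N := IsScalarTower.of_algebraMap_smul fun _ _ => rfl
  haveI : IsScalarTower R R' N := IsScalarTower.of_algebraMap_smul fun x n => by
    show φ (algebraMap R R' x) • n = x • n
    rw [Localization.localRingHom_to_map, algebraMap_smul, algebraMap_smul]
  haveI : SMulCommClass S R' N := ⟨fun s x n => by
    show s • φ x • n = φ x • s • n
    rw [← algebraMap_smul S' s, ← algebraMap_smul S' s n, smul_comm]⟩
  haveI : IsLocalRing S' := Localization.AtPrime.isLocalRing r
  haveI : IsNoetherianRing S' := IsLocalization.isNoetherianRing r.primeCompl S' inferInstance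
  haveI : Module.Finite S' N := Module.Finite.of_isLocalizedModule r.primeCompl g
  haveI : Module.Flat R N := by
    let e : S' ⊗[S] M ≃ₗ[S] N :=
      ((IsLocalizedModule.isBaseChange r.primeCompl S' g).equiv).restrictScalars S
    suffices Module.Flat R (S' ⊗[S] M) from Module.Flat.of_linearEquiv (e.restrictScalars R).symm
    haveI : Module.Flat S S' := IsLocalization.flat S' r.primeCompl
    refine Module.Flat.iff_lTensor_preserves_injective_linearMap.2 fun X X' _ _ _ _ u hu => ?_
    let uM : M ⊗[R] X →ₗ[S] M ⊗[R] X' := AlgebraTensorModule.lTensor S M u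
    have h2 : Function.Injective (uM.lTensor S') :=
      Module.Flat.lTensor_preserves_injective_linearMap uM
        (Module.Flat.lTensor_preserves_injective_linearMap (M := M) u hu)
    have key : ∀ z, AlgebraTensorModule.assoc R S S S' M X' (u.lTensor _ z) =
        uM.lTensor S' (AlgebraTensorModule.assoc R S S S' M X z) := by
      intro z
      induction z using TensorProduct.induction_on with
      | zero => simp
      | add a b ha hb => simp only [map_add, ha, hb]
      | tmul lm n =>
        induction lm using TensorProduct.induction_on with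
        | zero => simp
        | add a b ha hb => simp only [TensorProduct.add_tmul, map_add, ha, hb]
        | tmul l m => simp [uM]
    intro a b hab
    apply (AlgebraTensorModule.assoc R S S S' M X).injective
    apply h2
    rw [← key, ← key, hab]
  haveI : Module.Flat R' N := (Module.flat_iff_of_isLocalization R' p.primeCompl N).2 inferInstance
  let m := IsLocalRing.maximalIdeal R'
  have hpg : ∀ w ∈ p • (⊤ : Submodule R M), g w ∈ m • (⊤ : Submodule R' N) := by
    intro w hw
    refine Submodule.smul_induction_on hw (fun a ha z _ => ?_) fun a b ha hb => by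
      rw [map_add]; exact add_mem ha hb
    rw [LinearMap.map_smul_of_tower, ← algebraMap_smul R' a (g z)]
    exact Submodule.smul_mem_smul ((IsLocalization.AtPrime.to_map_mem_maximal_iff R' p a).2 ha) trivial
  have hmp : ∀ n ∈ m • (⊤ : Submodule R' N), ∃ t' ∉ r, ∃ w ∈ p • (⊤ : Submodule R M), t' • n = g w := by
    intro n hn
    refine Submodule.smul_induction_on hn (fun a ha z _ => ?_) ?_
    · obtain ⟨a, s, rfl⟩ := IsLocalization.exists_mk'_eq p.primeCompl a
      have ha' : a ∈ p := (IsLocalization.AtPrime.mk'_mem_maximal_iff R' p a s).1 ha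
      obtain ⟨⟨w, c⟩, hw⟩ := IsLocalizedModule.surj r.primeCompl g z
      refine ⟨algebraMap R S s * c, fun hm => ?_, a • w, Submodule.smul_mem_smul ha' trivial, ?_⟩
      · rcases Ideal.IsPrime.mem_or_mem ‹r.IsPrime› hm with h' | h'
        · exact s.2 h'
        · exact c.2 h'
      · have hw' : (c : S) • z = g w := hw
        rw [mul_smul, smul_comm (c : S), hw', LinearMap.map_smul_of_tower, algebraMap_smul,
          ← algebraMap_smul R' (s : R), smul_smul, IsLocalization.mk'_spec', algebraMap_smul]
    · rintro n₁ n₂ ⟨t₁, ht₁, w₁, hw₁, e₁⟩ ⟨t₂, ht₂, w₂, hw₂, e₂⟩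
      refine ⟨t₁ * t₂, fun hm => (Ideal.IsPrime.mem_or_mem ‹r.IsPrime› hm).elim ht₁ ht₂,
        t₂ • w₁ + t₁ • w₂, add_mem ?_ ?_, ?_⟩
      · exact (Submodule.map_smul'' p (⊤ : Submodule R M) ((LinearMap.lsmul S M t₂).restrictScalars R)).trans_le
          (Submodule.smul_mono le_rfl le_top) (Submodule.mem_map_of_mem hw₁)
      · exact (Submodule.map_smul'' p (⊤ : Submodule R M) ((LinearMap.lsmul S M t₁).restrictScalars R)).trans_le
          (Submodule.smul_mono le_rfl le_top) (Submodule.mem_map_of_mem hw₂)
      · rw [smul_add, map_add, map_smul, map_smul, ← e₁, ← e₂, smul_smul, smul_smul, mul_comm t₂]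
  let u : N →ₗ[R'] N := (LinearMap.lsmul S' N (algebraMap S S' h)).restrictScalars R'
  have hu1 : ∀ n : N, u n ∈ m • (⊤ : Submodule R' N) → n ∈ m • (⊤ : Submodule R' N) := by
    intro n hn
    obtain ⟨⟨w, c⟩, hw⟩ := IsLocalizedModule.surj r.primeCompl g n
    obtain ⟨t₁, ht₁, v, hv, he⟩ := hmp _ hn
    have h1 : g ((t₁ * h) • w) = g ((c : S) • v) := by
      rw [map_smul, map_smul, ← he, show g w = (c : S) • n from hw.symm,
        show u n = h • n from algebraMap_smul S' h n, smul_smul, smul_smul, smul_smul]
      congr 1
      ring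
    obtain ⟨d, hd⟩ := (IsLocalizedModule.eq_iff_exists r.primeCompl g).1 h1
    obtain ⟨t₂, ht₂, h2⟩ := hnzd w ((d : S) * t₁)
      (fun hm => (Ideal.IsPrime.mem_or_mem ‹r.IsPrime› hm).elim d.2 ht₁) (by
        rw [smul_smul, mul_assoc, mul_smul]
        show d • ((t₁ * h) • w) ∈ _
        rw [hd]
        exact (Submodule.map_smul'' p (⊤ : Submodule R M)
          ((LinearMap.lsmul S M ((d : S) * (c : S))).restrictScalars R)).trans_le
            (Submodule.smul_mono le_rfl le_top) ⟨v, hv, by simp [mul_smul]; rfl⟩)
    have h3 := hpg _ h2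
    rw [map_smul, show g w = (c : S) • n from hw.symm, smul_smul, ← algebraMap_smul S' (t₂ * (c : S)) n] at h3
    have hu : IsUnit (algebraMap S S' (t₂ * c)) :=
      IsLocalization.map_units S' (⟨t₂ * c, fun hm =>
        (Ideal.IsPrime.mem_or_mem ‹r.IsPrime› hm).elim ht₂ c.2⟩ : r.primeCompl)
    obtain ⟨v', hv'⟩ := hu
    have h4 := (Submodule.map_smul'' m (⊤ : Submodule R' N)
      ((LinearMap.lsmul S' N (↑v'⁻¹ : S')).restrictScalars R')).trans_le
        (Submodule.smul_mono le_rfl le_top) (Submodule.mem_map_of_mem h3)
    rw [← hv'] at h4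
    simpa [smul_smul] using h4
  have hu2 : Function.Injective (u.lTensor (R' ⧸ m)) := by
    rw [injective_iff_map_eq_zero]
    intro z hz
    obtain ⟨n, rfl⟩ : ∃ n : N, (1 : R' ⧸ m) ⊗ₜ[R'] n = z := by
      clear hz
      induction z using TensorProduct.induction_on with
      | zero => exact ⟨0, tmul_zero _ _⟩
      | add a b ha hb =>
        obtain ⟨x, rfl⟩ := ha
        obtain ⟨w, rfl⟩ := hb
        exact ⟨x + w, tmul_add _ _ _⟩
      | tmul a n =>
        obtain ⟨a, rfl⟩ := Ideal.Quotient.mk_surjective a
        refine ⟨a • n, ?_⟩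
        rw [← smul_tmul]
        congr 1
        simp [Algebra.smul_def]
    rw [LinearMap.lTensor_tmul, FlatH4.one_tmul_eq_zero_iff] at hz
    rw [FlatH4.one_tmul_eq_zero_iff]
    exact hu1 n hz
  have hmS : m.map φ ≤ IsLocalRing.maximalIdeal S' := by
    rw [Ideal.map_le_iff_le_comap]
    intro a ha
    haveI : IsLocalHom φ := Localization.isLocalHom_localRingHom p r (algebraMap R S) rfl
    exact fun hu => ha (IsLocalHom.map_nonunit a hu)
  have hinj : Function.Injective u := by
    apply FlatH4.injective_of_map_mem_smul u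
    intro I x hx
    refine FlatH4.mem_smul_of_map_mem_smul_of_separated m u
      (fun V _ _ hV => FlatH4.lTensor_injective_of_isMaximal m u hu2 V hV) I (fun w hw => ?_) x hx
    -- Krull intersection in the quotient by `I`
    let J : Submodule S' N := I.map φ • (⊤ : Submodule S' N)
    have hIJ : ∀ (I₁ : Ideal R') (v : N), v ∈ I₁ • (⊤ : Submodule R' N) ↔ v ∈ I₁.map φ • (⊤ : Submodule S' N) := by
      intro I₁ v
      have := Ideal.smul_top_eq_map (R := R') (S := S') I₁
      constructor
      · intro hv
        refine Submodule.smul_induction_on hv (fun a ha z _ => ?_) fun a b => add_mem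
        rw [← algebraMap_smul S' a z]
        exact Submodule.smul_mem_smul (Ideal.mem_map_of_mem _ ha) trivial
      · intro hv
        refine Submodule.smul_induction_on hv (fun a ha z _ => ?_) fun a b => add_mem
        refine Submodule.span_induction (p := fun b _ => b • z ∈ I₁ • (⊤ : Submodule R' N)) ?_ ?_ ?_ ?_ ha
        · rintro _ ⟨c, hc, rfl⟩
          rw [show φ c = algebraMap R' S' c from rfl, algebraMap_smul]
          exact Submodule.smul_mem_smul hc trivial
        · simp
        · intro b c _ _ hb hc; rw [add_smul]; exact add_mem hb hc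
        · intro s b _ hb
          rw [smul_eq_mul, mul_smul]
          exact (Submodule.map_smul'' I₁ (⊤ : Submodule R' N)
            ((LinearMap.lsmul S' N s).restrictScalars R')).trans_le
            (Submodule.smul_mono le_rfl le_top) (Submodule.mem_map_of_mem hb)
    rw [hIJ]
    have hmem : J.mkQ w ∈ (⨅ n : ℕ, (IsLocalRing.maximalIdeal S') ^ n • ⊤ : Submodule S' (N ⧸ J)) := by
      rw [Submodule.mem_iInf]
      intro n
      have h1 := (hIJ _ w).1 (hw n)
      rw [Ideal.map_sup, Ideal.map_pow, Submodule.sup_smul] at h1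
      obtain ⟨a, ha, b, hb, rfl⟩ := Submodule.mem_sup.1 h1
      rw [map_add, Submodule.mkQ_apply, (Submodule.Quotient.mk_eq_zero J).2 ha, zero_add]
      have h2 := Submodule.mem_map_of_mem (f := J.mkQ)
        (Submodule.smul_mono_left (Ideal.pow_right_mono hmS n) hb)
      rw [Submodule.map_smul''] at h2
      exact Submodule.smul_mono le_rfl le_top h2
    rw [Ideal.iInf_pow_smul_eq_bot_of_isLocalRing _ (IsLocalRing.maximalIdeal.isMaximal S').ne_top,
      Submodule.mem_bot] at hmem
    exact (Submodule.Quotient.mk_eq_zero J).1 hmem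
  have h5 : u (g y) = 0 := by
    show algebraMap S S' h • g y = 0
    have hunit : IsUnit (algebraMap S S' t) := IsLocalization.map_units S' (⟨t, ht⟩ : r.primeCompl)
    refine hunit.smul_eq_zero.1 ?_
    rw [algebraMap_smul, algebraMap_smul, ← map_smul, ← map_smul, hy, map_zero]
  obtain ⟨c, hc⟩ := (IsLocalizedModule.eq_zero_iff r.primeCompl g).1 (hinj (h5.trans (map_zero u).symm))
  exact ⟨c, c.2, hc⟩

end Groth.Agent.SchDom
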