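import Groth.Agent.Lib.SchDom.GoodAtFP

/-!
# Noetherian models of finitely presented modules
-/

universe u

namespace Groth.Agent.SchDom

open TensorProduct FlatSyz

/-- A finitely presented module over a finitely presented algebra is the base change of a finite module over a
finite type algebra over a noetherian ring. -/
theorem exists_module_model (A B M : Type u) [CommRing A] [CommRing B] [Algebra A B]
    [Algebra.FinitePresentation A B] [AddCommGroup M] [Module B M] [Module A M] [IsScalarTower A B M]
    [Module.FinitePresentation B M] :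
    ∃ (R : Type u) (_ : CommRing R) (_ : Algebra R A) (S N : Type u) (_ : CommRing S) (_ : Algebra R S)
      (_ : AddCommGroup N) (_ : Module R N) (_ : Module S N) (_ : IsScalarTower R S N),
      IsNoetherianRing R ∧ Algebra.FiniteType R S ∧ Module.Finite S N ∧ Nonempty (A ⊗[R] N ≃ₗ[A] M) := by
  classical
  obtain ⟨n, φ, hφ, hkerφ⟩ := Algebra.FinitePresentation.out (R := A) (A := B)
  let P := MvPolynomial (Fin n) A
  letI : Algebra P B := φ.toRingHom.toAlgebra
  letI : Module P M := Module.compHom M φ.toRingHom
  haveI : IsScalarTower P B M := IsScalarTower.of_algebraMap_smul fun _ _ => rfl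
  haveI : IsScalarTower A P M := IsScalarTower.of_algebraMap_smul fun c x => by
    show φ (algebraMap A P c) • x = c • x
    rw [AlgHom.commutes, algebraMap_smul]
  haveI : Module.FinitePresentation P B :=
    Module.finitePresentation_of_surjective (Algebra.linearMap P B) hφ (by exact hkerφ)
  haveI : Module.FinitePresentation P M := Module.FinitePresentation.trans P M B
  obtain ⟨m, ρ, hρ⟩ := Module.Finite.exists_fin' P M
  obtain ⟨e, w, hw⟩ := Submodule.fg_iff_exists_fin_generating_family.1
    (Module.FinitePresentation.fg_ker ρ hρ)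
  let C : Set A := ⋃ j : Fin e, ⋃ i : Fin m, ((w j i).coeffs : Set A)
  have hC : C.Finite := Set.finite_iUnion fun j => Set.finite_iUnion fun i => (w j i).coeffs.finite_toSet
  let R : Subalgebra ℤ A := Algebra.adjoin ℤ C
  haveI : IsNoetherianRing R := isNoetherianRing_of_fg (Subalgebra.fg_def.2 ⟨C, hC, rfl⟩)
  let S := MvPolynomial (Fin n) R
  have hlift : ∀ j i, ∃ p₀ : S, MvPolynomial.map (algebraMap R A) p₀ = w j i := by
    intro j i
    have h' : w j i ∈ Set.range (MvPolynomial.map (σ := Fin n) (algebraMap R A)) := by
      rw [MvPolynomial.mem_range_map_iff_coeffs_subset]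
      exact fun x hx => ⟨⟨x, Algebra.subset_adjoin (Set.mem_iUnion.2 ⟨j, Set.mem_iUnion.2 ⟨i, hx⟩⟩)⟩, rfl⟩
    exact h'
  choose w₁ hw₁ using hlift
  let K₁ := Submodule.span S (Set.range w₁)
  have hK : mapSub A K₁ = LinearMap.ker ρ := by
    rw [mapSub_span, ← hw, ← Set.range_comp]
    exact congrArg _ (congrArg Set.range (funext fun j => funext (hw₁ j)))
  obtain ⟨ι, hι, -, -⟩ := isBaseChange_quotient_model (N₀ := M) K₁ ρ hρ hK.symm
  exact ⟨R, inferInstance, inferInstance, S, (Fin m → S) ⧸ K₁, inferInstance, inferInstance, inferInstance,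
    inferInstance, inferInstance, inferInstance, inferInstance, inferInstance, inferInstance, ⟨hι.equiv⟩⟩

end Groth.Agent.SchDom
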