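import Groth.Agent.Lib.FlatH4.PullFlat
import Groth.Agent.Lib.ModM1.Exact
import Mathlib.RingTheory.Nilpotent.Lemmas

/-!
# Sections of pulled back modules killed on the trace of an open subset
-/

universe u

open AlgebraicGeometry CategoryTheory Limits TensorProduct

namespace Groth.Agent.SchDom

variable {X X' : Scheme.{u}}

/-- The ideal of functions on `W` whose non-vanishing locus lies in `U`. -/
noncomputable def openIdeal (W U : X.Opens) : Ideal Γ(X, W) where
  carrier := {b | X.basicOpen b ≤ U}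
  zero_mem' := by simp
  add_mem' := by
    intro a b ha hb y hy
    have hyW : y ∈ W := X.basicOpen_le _ hy
    rw [X.mem_basicOpen _ y hyW, map_add] at hy
    rcases IsLocalRing.isUnit_or_isUnit_of_isUnit_add hy with h | h
    · exact ha ((X.mem_basicOpen _ y hyW).2 h)
    · exact hb ((X.mem_basicOpen _ y hyW).2 h)
  smul_mem' := by
    intro c b hb
    show X.basicOpen (c * b) ≤ U
    rw [Scheme.basicOpen_mul]
    exact inf_le_right.trans hb

theorem exists_openIdeal {W U : X.Opens} (hW : IsAffineOpen W) {y : X} (hyW : y ∈ W) (hyU : y ∈ U) :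
    ∃ b ∈ openIdeal W U, y ∈ X.basicOpen b := by
  obtain ⟨b, hb, hyb⟩ := hW.exists_basicOpen_le (V := U) ⟨y, hyU⟩ hyW
  exact ⟨b, hb, hyb⟩

variable (gX : X' ⟶ X) (F : X.Modules) [Coh.IsQCoh F] {W : X.Opens}
  (hW : IsAffineOpen W) {W' : X'.Opens} (hW' : IsAffineOpen W') (e : W' ≤ gX ⁻¹ᵁ W)

include hW hW' in
/-- The base change of sections computes the stalks of the pullback, with the value on sections. -/
theorem exists_pullLin' :
    letI := (gX.appLE W W' e).hom.toAlgebra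
    ∃ L : Γ(X', W') ⊗[Γ(X, W)] Γ(F, W) →ₗ[Γ(X', W')] Γ((Scheme.Modules.pullback gX).obj F, W'),
      (∀ s : Γ(F, W), L ((1 : Γ(X', W')) ⊗ₜ s) =
        M1.mres ((Scheme.Modules.pullback gX).obj F) e (M2.pullSec gX F s)) ∧
      ∀ (x' : X') (hx' : x' ∈ W'),
        letI := M1.stalkModule ((Scheme.Modules.pullback gX).obj F) hx'
        IsLocalizedModule (hW'.primeIdealOf ⟨x', hx'⟩).asIdeal.primeCompl
          ((M1.germₗ ((Scheme.Modules.pullback gX).obj F) hx').comp L) := by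
  letI := (gX.appLE W W' e).hom.toAlgebra
  let F' := (Scheme.Modules.pullback gX).obj F
  letI : Module Γ(X, W) Γ(F', W') := Module.compHom _ (algebraMap Γ(X, W) Γ(X', W'))
  haveI : IsScalarTower Γ(X, W) Γ(X', W') Γ(F', W') := IsScalarTower.of_algebraMap_smul fun _ _ => rfl
  let u : Γ(F, W) →ₗ[Γ(X, W)] Γ(F', W') :=
    { toFun := fun s => M1.mres F' e (M2.pullSec gX F s)
      map_add' := fun s t => by rw [M2.pullSec_add, map_add]
      map_smul' := fun r s => by
        rw [M2.pullSec_smul, M1.mres_smul]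
        rfl }
  refine ⟨u.liftBaseChange Γ(X', W'), fun s => by rw [LinearMap.liftBaseChange_tmul, one_smul]; rfl,
    fun x' hx' => ?_⟩
  letI := M1.stalkModule F' hx'
  let q' := (hW'.primeIdealOf ⟨x', hx'⟩).asIdeal
  have hxW : gX x' ∈ W := e hx'
  letI : Algebra Γ(X', W') (X'.presheaf.stalk x') := X'.presheaf.algebra_section_stalk ⟨x', hx'⟩
  haveI : IsLocalization.AtPrime (X'.presheaf.stalk x') q' := hW'.isLocalization_stalk ⟨x', hx'⟩
  letI : Algebra Γ(X, W) (X.presheaf.stalk (gX x')) := X.presheaf.algebra_section_stalk ⟨gX x', hxW⟩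
  haveI : IsLocalization.AtPrime (X.presheaf.stalk (gX x')) (hW.primeIdealOf ⟨gX x', hxW⟩).asIdeal :=
    hW.isLocalization_stalk ⟨gX x', hxW⟩
  letI := M1.stalkModule F hxW
  haveI : IsScalarTower Γ(X, W) (X.presheaf.stalk (gX x')) (F.presheaf.stalk (gX x') : Type u) :=
    IsScalarTower.of_algebraMap_smul fun _ _ => rfl
  haveI := M1.isLocalizedModule_germ F hW hxW
  have h1 : IsBaseChange (X.presheaf.stalk (gX x')) (M1.germₗ F hxW) :=
    IsLocalizedModule.isBaseChange (hW.primeIdealOf ⟨gX x', hxW⟩).asIdeal.primeCompl _ _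
  letI : Algebra Γ(X, W) (X'.presheaf.stalk x') :=
    ((algebraMap Γ(X', W') (X'.presheaf.stalk x')).comp (algebraMap Γ(X, W) Γ(X', W'))).toAlgebra
  haveI : IsScalarTower Γ(X, W) Γ(X', W') (X'.presheaf.stalk x') :=
    IsScalarTower.of_algebraMap_eq fun _ => rfl
  have hgerm : ∀ r : Γ(X, W), X'.presheaf.germ W' x' hx' (gX.appLE W W' e r) =
      gX.stalkMap x' (X.presheaf.germ W (gX x') hxW r) := fun r => by
    rw [Scheme.Hom.germ_stalkMap_apply]
    exact X'.presheaf.germ_res_apply (homOfLE e) x' hx' _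
  haveI : IsScalarTower Γ(X, W) (X.presheaf.stalk (gX x')) (X'.presheaf.stalk x') :=
    IsScalarTower.of_algebraMap_eq hgerm
  letI : Module Γ(X, W) (F'.presheaf.stalk x' : Type u) :=
    Module.compHom _ (algebraMap Γ(X, W) Γ(X', W'))
  haveI : IsScalarTower Γ(X, W) Γ(X', W') (F'.presheaf.stalk x' : Type u) :=
    IsScalarTower.of_algebraMap_smul fun _ _ => rfl
  haveI : IsScalarTower Γ(X', W') (X'.presheaf.stalk x') (F'.presheaf.stalk x' : Type u) :=
    IsScalarTower.of_algebraMap_smul fun _ _ => rfl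
  haveI : IsScalarTower Γ(X, W) (X'.presheaf.stalk x') (F'.presheaf.stalk x' : Type u) :=
    IsScalarTower.of_algebraMap_smul fun _ _ => rfl
  haveI : IsScalarTower Γ(X, W) (X.presheaf.stalk (gX x')) (F'.presheaf.stalk x' : Type u) :=
    IsScalarTower.of_algebraMap_smul fun r a => by
      show gX.stalkMap x' (X.presheaf.germ W (gX x') hxW r) • a = X'.presheaf.germ W' x' hx' (gX.appLE W W' e r) • a
      rw [hgerm]
  let ι : Γ(F, W) →ₗ[Γ(X, W)] (F'.presheaf.stalk x' : Type u) :=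
    ((M2.stalkUnit gX x' F).restrictScalars Γ(X, W)).comp (M1.germₗ F hxW)
  have h2 : IsBaseChange (X'.presheaf.stalk x') ι := h1.comp (M2.isBaseChange_stalkUnit gX x' F)
  have hι : ((M1.germₗ F' hx').comp (u.liftBaseChange Γ(X', W'))).restrictScalars Γ(X, W) ∘ₗ
      (TensorProduct.mk Γ(X, W) Γ(X', W') Γ(F, W) 1) = ι := by
    refine LinearMap.ext fun s => ?_
    show F'.presheaf.germ W' x' hx' (u.liftBaseChange Γ(X', W') ((1 : Γ(X', W')) ⊗ₜ s)) =
      M2.stalkUnitHom gX x' F (F.presheaf.germ W (gX x') hxW s)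
    rw [M2.stalkUnitHom_germ, LinearMap.liftBaseChange_tmul, one_smul]
    exact M1.germ_mres F' e hx' _
  refine (isLocalizedModule_iff_isBaseChange q'.primeCompl (X'.presheaf.stalk x') _).2 ?_
  refine IsBaseChange.of_comp (T := X'.presheaf.stalk x') (O := (F'.presheaf.stalk x' : Type u))
    (h := (M1.germₗ F' hx').comp (u.liftBaseChange Γ(X', W'))) (TensorProduct.isBaseChange _ _ _) ?_
  rw [hι]
  exact h2

include hW hW' in
/-- The base change of sections computes the stalks of the pullback. -/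
theorem exists_pullLin :
    letI := (gX.appLE W W' e).hom.toAlgebra
    ∃ L : Γ(X', W') ⊗[Γ(X, W)] Γ(F, W) →ₗ[Γ(X', W')] Γ((Scheme.Modules.pullback gX).obj F, W'),
      ∀ (x' : X') (hx' : x' ∈ W'),
        letI := M1.stalkModule ((Scheme.Modules.pullback gX).obj F) hx'
        IsLocalizedModule (hW'.primeIdealOf ⟨x', hx'⟩).asIdeal.primeCompl
          ((M1.germₗ ((Scheme.Modules.pullback gX).obj F) hx').comp L) := by
  obtain ⟨L, -, hL⟩ := exists_pullLin' gX F hW hW' e
  exact ⟨L, hL⟩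

variable [Algebra Γ(X, W) Γ(X', W')]
  {M' : Type u} [AddCommGroup M'] [Module Γ(X', W') M']
  (L : M' →ₗ[Γ(X', W')] Γ((Scheme.Modules.pullback gX).obj F, W'))

omit [Coh.IsQCoh F] [Algebra Γ(X, W) Γ(X', W')] in
/-- Germs of multiples. -/
theorem germ_lin_smul {x' : X'} (hx' : x' ∈ W') (c : Γ(X', W')) (z : M') :
    ((Scheme.Modules.pullback gX).obj F).presheaf.germ W' x' hx' (L (c • z)) =
      X'.presheaf.germ W' x' hx' c •
        (((Scheme.Modules.pullback gX).obj F).presheaf.germ W' x' hx' (L z) :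
          ((Scheme.Modules.pullback gX).obj F).presheaf.stalk x') := by
  rw [map_smul]
  exact M1.germ_smul _ hx' _ _

include hW hW'

/-- Elements killed near the trace of `U` are killed by powers of the ideal of `U`. -/
theorem exists_pow_smul_eq_zero_of_germ (halg : algebraMap Γ(X, W) Γ(X', W') = (gX.appLE W W' e).hom)
    (hL : ∀ (x' : X') (hx' : x' ∈ W'),
      letI := M1.stalkModule ((Scheme.Modules.pullback gX).obj F) hx'
      IsLocalizedModule (hW'.primeIdealOf ⟨x', hx'⟩).asIdeal.primeCompl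
        ((M1.germₗ ((Scheme.Modules.pullback gX).obj F) hx').comp L))
    {U : X.Opens} (h : Γ(X', W')) (z : M')
    (hz : ∀ (x' : X') (hx' : x' ∈ W'), gX x' ∈ U → x' ∈ X'.basicOpen h →
      ((Scheme.Modules.pullback gX).obj F).presheaf.germ W' x' hx' (L z) = 0)
    {b : Γ(X, W)} (hb : b ∈ openIdeal W U) :
    ∃ l : ℕ, (algebraMap Γ(X, W) Γ(X', W') b * h) ^ l • z = 0 := by
  let a : Ideal Γ(X', W') := LinearMap.ker (LinearMap.toSpanSingleton Γ(X', W') M' z)
  suffices algebraMap Γ(X, W) Γ(X', W') b * h ∈ a.radical by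
    obtain ⟨l, hl⟩ := this
    exact ⟨l, hl⟩
  rw [Ideal.radical_eq_sInf, Ideal.mem_sInf]
  rintro q ⟨haq, hq⟩
  by_contra hmem
  obtain ⟨⟨x', hx'⟩, hxq⟩ := hW'.isoSpec.hom.surjective ⟨q, hq⟩
  have hx : hW'.primeIdealOf ⟨x', hx'⟩ = ⟨q, hq⟩ := hxq
  have hb' : x' ∈ X'.basicOpen (algebraMap Γ(X, W) Γ(X', W') b * h) := by
    rw [X'.mem_basicOpen _ x' hx', M1.isUnit_germ_iff hW' hx', hx]
    exact hmem
  rw [Scheme.basicOpen_mul, halg] at hb'
  have hU : gX x' ∈ U := by
    have h1 := hb'.1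
    rw [Scheme.Hom.appLE, CommRingCat.comp_apply, Scheme.basicOpen_res, ← Scheme.preimage_basicOpen] at h1
    exact hb h1.2
  letI := M1.stalkModule ((Scheme.Modules.pullback gX).obj F) hx'
  haveI := hL x' hx'
  obtain ⟨c, hc⟩ := (IsLocalizedModule.eq_zero_iff (hW'.primeIdealOf ⟨x', hx'⟩).asIdeal.primeCompl
    ((M1.germₗ ((Scheme.Modules.pullback gX).obj F) hx').comp L)).1 (hz x' hx' hU hb'.2)
  have h2 : (c : Γ(X', W')) ∈ q := haq (show (c : Γ(X', W')) • z = 0 from hc)
  have h3 : (c : Γ(X', W')) ∈ (hW'.primeIdealOf ⟨x', hx'⟩).asIdeal :=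
    (congrArg PrimeSpectrum.asIdeal hx).ge h2
  exact c.2 h3

omit hW in
/-- An element with all germs zero vanishes. -/
theorem eq_zero_of_germ
    (hL : ∀ (x' : X') (hx' : x' ∈ W'),
      letI := M1.stalkModule ((Scheme.Modules.pullback gX).obj F) hx'
      IsLocalizedModule (hW'.primeIdealOf ⟨x', hx'⟩).asIdeal.primeCompl
        ((M1.germₗ ((Scheme.Modules.pullback gX).obj F) hx').comp L))
    (z : M') (hz : ∀ (x' : X') (hx' : x' ∈ W'),
      ((Scheme.Modules.pullback gX).obj F).presheaf.germ W' x' hx' (L z) = 0) : z = 0 := by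
  let a : Ideal Γ(X', W') := LinearMap.ker (LinearMap.toSpanSingleton Γ(X', W') M' z)
  suffices a = ⊤ by
    have h1 : (1 : Γ(X', W')) ∈ a := this ▸ Submodule.mem_top
    simpa [a] using h1
  by_contra hne
  obtain ⟨q, hq, haq⟩ := Ideal.exists_le_maximal a hne
  obtain ⟨⟨x', hx'⟩, hxq⟩ := hW'.isoSpec.hom.surjective ⟨q, hq.isPrime⟩
  have hx : hW'.primeIdealOf ⟨x', hx'⟩ = ⟨q, hq.isPrime⟩ := hxq
  letI := M1.stalkModule ((Scheme.Modules.pullback gX).obj F) hx'
  haveI := hL x' hx'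
  obtain ⟨c, hc⟩ := (IsLocalizedModule.eq_zero_iff (hW'.primeIdealOf ⟨x', hx'⟩).asIdeal.primeCompl
    ((M1.germₗ ((Scheme.Modules.pullback gX).obj F) hx').comp L)).1 (hz x' hx')
  have h2 : (c : Γ(X', W')) ∈ q := haq (show (c : Γ(X', W')) • z = 0 from hc)
  have h3 : (c : Γ(X', W')) ∈ (hW'.primeIdealOf ⟨x', hx'⟩).asIdeal :=
    (congrArg PrimeSpectrum.asIdeal hx).ge h2
  exact c.2 h3

end Groth.Agent.SchDom
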