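import Groth.Agent.Lib.SchDom.PolyNZD

/-!
# Descending membership modulo a fibre
-/

universe u

namespace Groth.Agent.SchDom

open TensorProduct FlatSyz

variable {n : ℕ} {A : Type u} [CommRing A]

/-- Membership in a submodule modulo the fibre descends along a change of coefficient rings, up to an
element outside the prime. -/
theorem exists_smul_mem_sup_of_map {B : Type u} [CommRing B] [Algebra B A] {m b : ℕ}
    (w₁ : Fin b → Fin m → MvPolynomial (Fin n) B) (r : Ideal (MvPolynomial (Fin n) A)) [r.IsPrime]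
    (z : Fin m → MvPolynomial (Fin n) B) (t₀ : MvPolynomial (Fin n) A) (ht₀ : t₀ ∉ r)
    (hz₀ : t₀ • mapVec A z ∈ Submodule.span (MvPolynomial (Fin n) A) (Set.range fun j => mapVec A (w₁ j)) ⊔
      (r.comap (algebraMap A (MvPolynomial (Fin n) A))).map (algebraMap A (MvPolynomial (Fin n) A)) • ⊤) :
    ∃ s, s ∉ r.comap (MvPolynomial.map (algebraMap B A)) ∧
      s • z ∈ Submodule.span (MvPolynomial (Fin n) B) (Set.range w₁) ⊔
        ((r.comap (MvPolynomial.map (algebraMap B A))).comap (algebraMap B (MvPolynomial (Fin n) B))).map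
          (algebraMap B (MvPolynomial (Fin n) B)) • ⊤ := by
  classical
  let μ : MvPolynomial (Fin n) B →+* MvPolynomial (Fin n) A := MvPolynomial.map (algebraMap B A)
  let w : Fin b → Fin m → MvPolynomial (Fin n) A := fun j => mapVec A (w₁ j)
  have hw₁ : ∀ j, mapVec A (w₁ j) = w j := fun j => rfl
  let r₁ : Ideal (MvPolynomial (Fin n) B) := r.comap μ
  let p := r.comap (algebraMap A (MvPolynomial (Fin n) A))
  let p₁ := r₁.comap (algebraMap B (MvPolynomial (Fin n) B))
  have hp₁ : p₁ = p.comap (algebraMap B A) := by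
    ext a
    show μ (algebraMap B _ a) ∈ r ↔ algebraMap A _ (algebraMap B A a) ∈ r
    rw [show μ (algebraMap B _ a) = algebraMap A (MvPolynomial (Fin n) A) (algebraMap B A a) from
      MvPolynomial.map_C _ _]
  -- pass to residue fields
  let k := p.ResidueField
  let k₁ := p₁.ResidueField
  let kk : k₁ →+* k := Ideal.ResidueField.map p₁ p (algebraMap B A) hp₁
  letI : Algebra k₁ k := kk.toAlgebra
  have hkk : ∀ x : B, algebraMap k₁ k (algebraMap B k₁ x) = algebraMap A k (algebraMap B A x) := fun x =>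
    Ideal.ResidueField.map_algebraMap _ _ _ _ _
  let g : (Fin (b + 1) → MvPolynomial (Fin n) k₁) →ₗ[MvPolynomial (Fin n) k₁]
      (Fin m → MvPolynomial (Fin n) k₁) :=
    Fintype.linearCombination _ (Fin.cons (mapVec k₁ z) fun j => mapVec k₁ (w₁ j))
  have hgen : ∀ v : Fin m → MvPolynomial (Fin n) B, mapVec k (mapVec k₁ v) = mapVec k (mapVec A v) := by
    intro v
    funext i
    simp only [mapVec, MvPolynomial.map_map]
    congr 2
    exact RingHom.ext fun x => hkk x
  obtain ⟨e', he', f', hf', hef⟩ := Submodule.mem_sup.1 hz₀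
  obtain ⟨d, hd⟩ : ∃ d : Fin b → MvPolynomial (Fin n) A, ∑ j, d j • w j = e' :=
    (Submodule.mem_span_range_iff_exists_fun _).1 he'
  let v : Fin (b + 1) → MvPolynomial (Fin n) k := Fin.cons (MvPolynomial.map (algebraMap A k) t₀)
    fun j => -MvPolynomial.map (algebraMap A k) (d j)
  have hv : v ∈ LinearMap.ker (mapHom k g) := by
    rw [LinearMap.mem_ker, mapHom, Fintype.linearCombination_apply, Fin.sum_univ_succ]
    simp only [g, Fintype.linearCombination_apply_single, one_smul, v, Fin.cons_zero, Fin.cons_succ,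
      hgen, hw₁, neg_smul, Finset.sum_neg_distrib]
    rw [← mapVec_smul, ← hef, mapVec_add, mapVec_eq_zero_of_mem (k := k) (fun a ha =>
      Ideal.algebraMap_residueField_eq_zero.2 ha) f' hf', add_zero, ← hd, add_neg_eq_zero]
    funext i
    simp [mapVec, Finset.sum_apply, map_sum]
  rw [ker_mapHom] at hv
  -- a relation whose first coordinate is invertible at `r`
  let L := r.ResidueField
  let φ : MvPolynomial (Fin n) k →+* L := MvPolynomial.eval₂Hom
    (Ideal.ResidueField.map p r (algebraMap A (MvPolynomial (Fin n) A)) rfl)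
    fun i => algebraMap (MvPolynomial (Fin n) A) L (MvPolynomial.X i)
  have hφ : ∀ q, φ (MvPolynomial.map (algebraMap A k) q) = algebraMap (MvPolynomial (Fin n) A) L q := by
    intro q
    induction q using MvPolynomial.induction_on with
    | C a =>
      rw [MvPolynomial.map_C]
      simp only [φ, MvPolynomial.eval₂Hom_C]
      exact Ideal.ResidueField.map_algebraMap _ _ _ _ _
    | add a c ha hc => rw [map_add, map_add, ha, hc, map_add]
    | mul_X a i ha =>
      rw [map_mul, map_mul, ha, MvPolynomial.map_X, map_mul]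
      simp [φ]
  obtain ⟨ρ, hρ, hρ0⟩ : ∃ ρ ∈ LinearMap.ker g,
      φ (MvPolynomial.map (algebraMap k₁ k) (ρ 0)) ≠ 0 := by
    by_contra hno
    push Not at hno
    have : ∀ u ∈ mapSub k (LinearMap.ker g), φ (u 0) = 0 := by
      intro u hu
      induction hu using Submodule.span_induction with
      | mem x hx => obtain ⟨ρ, hρ, rfl⟩ := hx; exact hno ρ hρ
      | zero => simp
      | add a c _ _ ha hc => rw [Pi.add_apply, map_add, ha, hc, add_zero]
      | smul a x _ hx => rw [Pi.smul_apply, smul_eq_mul, map_mul, hx, mul_zero]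
    have h0 := this v hv
    rw [show v 0 = MvPolynomial.map (algebraMap A k) t₀ from rfl, hφ] at h0
    exact ht₀ (Ideal.algebraMap_residueField_eq_zero.1 h0)
  -- clear denominators
  choose a ha ρ₁ hρ₁ using fun j => exists_smul_eq_map (p := p₁) (ρ j)
  let aa := ∏ j, a j
  have haa : aa ∉ p₁ := fun hm => by
    obtain ⟨j, -, hj⟩ := (Ideal.IsPrime.prod_mem_iff).1 hm
    exact ha j hj
  let ρ₂ : Fin (b + 1) → MvPolynomial (Fin n) B := fun j => (∏ i ∈ Finset.univ.erase j, a i) • ρ₁ j
  have hρ₂ : ∀ j, MvPolynomial.map (algebraMap B k₁) (ρ₂ j) = aa • ρ j := fun j => by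
    show MvPolynomial.map (algebraMap B k₁) ((∏ i ∈ Finset.univ.erase j, a i) • ρ₁ j) = _
    rw [Algebra.smul_def, map_mul, hρ₁, MvPolynomial.algebraMap_eq, MvPolynomial.map_C,
      ← MvPolynomial.algebraMap_eq, ← Algebra.smul_def, algebraMap_smul, smul_smul,
      Finset.prod_erase_mul _ _ (Finset.mem_univ j)]
  let q := ρ₂ 0 • z + ∑ j : Fin b, ρ₂ j.succ • w₁ j
  have hq0 : mapVec k₁ q = 0 := by
    have h1 : g ρ = 0 := hρ
    rw [Fintype.linearCombination_apply, Fin.sum_univ_succ] at h1
    simp only [Fin.cons_zero, Fin.cons_succ] at h1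
    have h2 : mapVec k₁ q = aa • (ρ 0 • mapVec k₁ z + ∑ j : Fin b, ρ j.succ • mapVec k₁ (w₁ j)) := by
      funext i
      simp only [q, mapVec, Pi.add_apply, Pi.smul_apply, Finset.sum_apply, map_add, map_sum, map_mul,
        smul_eq_mul, hρ₂, smul_add, Finset.smul_sum, smul_mul_assoc]
    rw [h2, h1, smul_zero]
  refine ⟨ρ₂ 0, fun hmem => hρ0 ?_, ?_⟩
  · have h1 : φ (MvPolynomial.map (algebraMap k₁ k) (MvPolynomial.map (algebraMap B k₁) (ρ₂ 0))) = 0 := by
      rw [MvPolynomial.map_map, show (algebraMap k₁ k).comp (algebraMap B k₁) =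
        (algebraMap A k).comp (algebraMap B A) from RingHom.ext hkk, ← MvPolynomial.map_map, hφ]
      exact Ideal.algebraMap_residueField_eq_zero.2 hmem
    rw [hρ₂, Algebra.smul_def, map_mul, map_mul, mul_eq_zero] at h1
    refine h1.resolve_left ?_
    have hu : IsUnit (algebraMap B (MvPolynomial (Fin n) k₁) aa) := by
      rw [IsScalarTower.algebraMap_apply B k₁ (MvPolynomial (Fin n) k₁)]
      exact (IsUnit.mk0 _ fun h0 => haa (Ideal.algebraMap_residueField_eq_zero.1 h0)).map _
    exact (IsUnit.map φ (hu.map (MvPolynomial.map (algebraMap k₁ k)))).ne_zero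
  · have h1 : ρ₂ 0 • z = q - ∑ j : Fin b, ρ₂ j.succ • w₁ j := by simp [q]
    rw [h1]
    refine sub_mem (Submodule.mem_sup_right (mem_map_smul_top q ((mapVec_eq_zero_iff_mem q).1 hq0)))
      (Submodule.mem_sup_left (Submodule.sum_mem _ fun j _ => Submodule.smul_mem _ _
        (Submodule.subset_span ⟨j, rfl⟩)))

end Groth.Agent.SchDom
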