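import Groth.Agent.Lib.SchDom.LocalInj
import Groth.Agent.Lib.SchDom.PolyFibre
import Groth.Agent.Lib.FlatH4.FibreModels

/-!
# Maps injective on fibres: polynomial case
-/

universe u

namespace Groth.Agent.SchDom

open TensorProduct FlatSyz

variable {n : ℕ} {A : Type u} [CommRing A] {m b : ℕ}

/-- The linear map with given values commutes with changes of coefficients. -/
theorem mapVec_linearCombination {B : Type u} [CommRing B] [Algebra B A]
    (uu₁ : Fin b → Fin m → MvPolynomial (Fin n) B) (v : Fin b → MvPolynomial (Fin n) B) :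
    mapVec A (Fintype.linearCombination (MvPolynomial (Fin n) B) uu₁ v) =
      Fintype.linearCombination (MvPolynomial (Fin n) A) (fun j => mapVec A (uu₁ j)) (mapVec A v) := by
  funext i
  simp [mapVec, Fintype.linearCombination_apply, Finset.sum_apply, map_sum]

theorem mapVec_mem_span {B : Type u} [CommRing B] [Algebra B A] {a : ℕ}
    (w₁ : Fin a → Fin m → MvPolynomial (Fin n) B) (v : Fin m → MvPolynomial (Fin n) B)
    (hv : v ∈ Submodule.span (MvPolynomial (Fin n) B) (Set.range w₁)) :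
    mapVec A v ∈ Submodule.span (MvPolynomial (Fin n) A) (Set.range fun j => mapVec A (w₁ j)) := by
  induction hv using Submodule.span_induction with
  | mem x hx => obtain ⟨j, rfl⟩ := hx; exact Submodule.subset_span ⟨j, rfl⟩
  | zero => rw [mapVec_zero]; exact zero_mem _
  | add a b _ _ ha hb => rw [mapVec_add]; exact add_mem ha hb
  | smul a x _ hx => rw [mapVec_smul]; exact Submodule.smul_mem _ _ hx

/-- The model case. -/
theorem injective_flat_coker_model {B : Type u} [CommRing B] [IsNoetherianRing B] [Algebra B A]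
    {a c : ℕ} (w₁ : Fin a → Fin m → MvPolynomial (Fin n) B) (l₁ : Fin c → Fin b → MvPolynomial (Fin n) B)
    (uu₁ : Fin b → Fin m → MvPolynomial (Fin n) B)
    (hflat : Module.Flat B ((Fin m → MvPolynomial (Fin n) B) ⧸
      Submodule.span (MvPolynomial (Fin n) B) (Set.range w₁)))
    (hl : ∀ j, Fintype.linearCombination (MvPolynomial (Fin n) B) uu₁ (l₁ j) ∈
      Submodule.span (MvPolynomial (Fin n) B) (Set.range w₁))
    (r : Ideal (MvPolynomial (Fin n) A)) [r.IsPrime]
    (hinj : ∀ z : Fin b → MvPolynomial (Fin n) A, ∀ t ∉ r,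
      t • Fintype.linearCombination (MvPolynomial (Fin n) A) (fun j => mapVec A (uu₁ j)) z ∈
        Submodule.span (MvPolynomial (Fin n) A) (Set.range fun j => mapVec A (w₁ j)) ⊔
          (r.comap (algebraMap A (MvPolynomial (Fin n) A))).map (algebraMap A (MvPolynomial (Fin n) A)) • ⊤ →
      ∃ t' ∉ r, t' • z ∈ Submodule.span (MvPolynomial (Fin n) A) (Set.range fun j => mapVec A (l₁ j)) ⊔
          (r.comap (algebraMap A (MvPolynomial (Fin n) A))).map (algebraMap A (MvPolynomial (Fin n) A)) • ⊤)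
    (y₁ : Fin b → MvPolynomial (Fin n) B) (t₁ : MvPolynomial (Fin n) B) :
    (MvPolynomial.map (algebraMap B A) t₁ ∉ r →
        t₁ • Fintype.linearCombination (MvPolynomial (Fin n) B) uu₁ y₁ ∈
          Submodule.span (MvPolynomial (Fin n) B) (Set.range w₁) →
      ∃ t' ∉ r, t' • mapVec A y₁ ∈
        Submodule.span (MvPolynomial (Fin n) A) (Set.range fun j => mapVec A (l₁ j))) ∧
    Module.Flat A (LocalizedModule r.primeCompl ((Fin m → MvPolynomial (Fin n) A) ⧸
      (Submodule.span (MvPolynomial (Fin n) A) (Set.range fun j => mapVec A (w₁ j)) ⊔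
        LinearMap.range (Fintype.linearCombination (MvPolynomial (Fin n) A) fun j => mapVec A (uu₁ j))))) := by
  classical
  let μ : MvPolynomial (Fin n) B →+* MvPolynomial (Fin n) A := MvPolynomial.map (algebraMap B A)
  let K₁ := Submodule.span (MvPolynomial (Fin n) B) (Set.range w₁)
  let L₁ := Submodule.span (MvPolynomial (Fin n) B) (Set.range l₁)
  let U₁ := Fintype.linearCombination (MvPolynomial (Fin n) B) uu₁
  let K := Submodule.span (MvPolynomial (Fin n) A) (Set.range fun j => mapVec A (w₁ j))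
  let L := Submodule.span (MvPolynomial (Fin n) A) (Set.range fun j => mapVec A (l₁ j))
  let U := Fintype.linearCombination (MvPolynomial (Fin n) A) fun j => mapVec A (uu₁ j)
  have hLK : L₁ ≤ K₁.comap U₁ := Submodule.span_le.2 (by rintro _ ⟨j, rfl⟩; exact hl j)
  let M₁ := (Fin m → MvPolynomial (Fin n) B) ⧸ K₁
  let N₁ := (Fin b → MvPolynomial (Fin n) B) ⧸ L₁
  haveI : Module.Flat B M₁ := hflat
  let f : N₁ →ₗ[MvPolynomial (Fin n) B] M₁ := Submodule.mapQ L₁ K₁ U₁ hLK
  let r₁ : Ideal (MvPolynomial (Fin n) B) := r.comap μ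
  let p := r.comap (algebraMap A (MvPolynomial (Fin n) A))
  let p₁ := r₁.comap (algebraMap B (MvPolynomial (Fin n) B))
  have hp₁ : p₁ = p.comap (algebraMap B A) := by
    ext a
    show μ (algebraMap B _ a) ∈ r ↔ algebraMap A _ (algebraMap B A a) ∈ r
    rw [show μ (algebraMap B _ a) = algebraMap A (MvPolynomial (Fin n) A) (algebraMap B A a) from
      MvPolynomial.map_C _ _]
  have hq : ∀ {d : ℕ} (Q : Submodule (MvPolynomial (Fin n) B) (Fin d → MvPolynomial (Fin n) B))
      (v : Fin d → MvPolynomial (Fin n) B),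
      (Submodule.Quotient.mk v : _ ⧸ Q) ∈ p₁ • (⊤ : Submodule B (_ ⧸ Q)) ↔
        v ∈ Q ⊔ p₁.map (algebraMap B (MvPolynomial (Fin n) B)) • ⊤ := by
    intro d Q v
    constructor
    · intro hv
      have h1 : (Submodule.Quotient.mk v : _ ⧸ Q) ∈
          (p₁ • (⊤ : Submodule B (Fin d → MvPolynomial (Fin n) B))).map (Q.mkQ.restrictScalars B) := by
        rw [Submodule.map_smul'', Submodule.map_top,
          LinearMap.range_eq_top.2 (by exact Q.mkQ_surjective)]
        exact hv
      obtain ⟨e, he, hev⟩ := h1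
      have h2 : e ∈ p₁.map (algebraMap B (MvPolynomial (Fin n) B)) •
          (⊤ : Submodule (MvPolynomial (Fin n) B) (Fin d → MvPolynomial (Fin n) B)) :=
        Submodule.smul_induction_on he (fun a ha w _ => by
          rw [← algebraMap_smul (MvPolynomial (Fin n) B) a w]
          exact Submodule.smul_mem_smul (Ideal.mem_map_of_mem _ ha) trivial) fun _ _ => add_mem
      have h3 : v - e ∈ Q := (Submodule.Quotient.eq Q).1 hev.symm
      have := add_mem (Submodule.mem_sup_left h3 : _ ∈ Q ⊔ p₁.map (algebraMap B (MvPolynomial (Fin n) B)) • ⊤)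
        (Submodule.mem_sup_right h2)
      rwa [sub_add_cancel] at this
    · intro hv
      obtain ⟨a, ha, e, he, rfl⟩ := Submodule.mem_sup.1 hv
      rw [Submodule.Quotient.mk_add, (Submodule.Quotient.mk_eq_zero Q).2 ha, zero_add]
      refine Submodule.smul_induction_on (p := fun e => (Submodule.Quotient.mk e : _ ⧸ Q) ∈
        p₁ • (⊤ : Submodule B (_ ⧸ Q))) he (fun q hq x _ => ?_) fun _ _ h h' => by
          rw [Submodule.Quotient.mk_add]; exact add_mem h h'
      show (Submodule.Quotient.mk (q • x) : _ ⧸ Q) ∈ p₁ • (⊤ : Submodule B (_ ⧸ Q))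
      rw [Submodule.Quotient.mk_smul]
      refine Submodule.span_induction
        (p := fun q _ => q • (Submodule.Quotient.mk x : _ ⧸ Q) ∈ p₁ • (⊤ : Submodule B (_ ⧸ Q))) ?_ ?_ ?_ ?_ hq
      · rintro _ ⟨a', ha', rfl⟩
        rw [algebraMap_smul]
        exact Submodule.smul_mem_smul ha' trivial
      · simp
      · intro c d _ _ hc hd; rw [add_smul]; exact add_mem hc hd
      · intro q' c _ hc
        rw [smul_eq_mul, mul_smul]
        exact (Submodule.map_smul'' p₁ (⊤ : Submodule B (_ ⧸ Q))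
          ((LinearMap.lsmul (MvPolynomial (Fin n) B) (_ ⧸ Q) q').restrictScalars B)).trans_le
          (Submodule.smul_mono le_rfl le_top) (Submodule.mem_map_of_mem hc)
  have hinj₁ : ∀ z : N₁, ∀ s ∉ r₁, s • f z ∈ p₁ • (⊤ : Submodule B M₁) →
      ∃ s' ∉ r₁, s' • z ∈ p₁ • (⊤ : Submodule B N₁) := by
    intro z s hs hz
    obtain ⟨z, rfl⟩ := Submodule.Quotient.mk_surjective _ z
    rw [show f (Submodule.Quotient.mk z) = Submodule.Quotient.mk (U₁ z) from rfl,
      ← Submodule.Quotient.mk_smul, hq] at hz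
    obtain ⟨e₁, he₁, e₂, he₂, he⟩ := Submodule.mem_sup.1 hz
    have h2 : μ s • U (mapVec A z) ∈ K ⊔ p.map (algebraMap A (MvPolynomial (Fin n) A)) • ⊤ := by
      rw [← mapVec_linearCombination, ← mapVec_smul, ← he, mapVec_add]
      refine add_mem (Submodule.mem_sup_left (mapVec_mem_span w₁ e₁ he₁)) (Submodule.mem_sup_right ?_)
      refine Submodule.smul_induction_on he₂ (fun q hq x _ => ?_) fun _ _ h h' => by
        rw [mapVec_add]; exact add_mem h h'
      rw [mapVec_smul]
      refine Submodule.smul_mem_smul ?_ trivial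
      rw [MvPolynomial.algebraMap_eq, MvPolynomial.mem_map_C_iff] at hq ⊢
      intro d
      rw [MvPolynomial.coeff_map]
      have := hq d
      rw [hp₁] at this
      exact this
    obtain ⟨t₀, ht₀, hz₀⟩ := hinj (mapVec A z) (μ s) hs h2
    obtain ⟨s', hs', hz'⟩ := exists_smul_mem_sup_of_map l₁ r z t₀ ht₀ hz₀
    exact ⟨s', hs', by rw [← Submodule.Quotient.mk_smul, hq]; exact hz'⟩
  obtain ⟨hI, hF⟩ := injective_flat_coker_of_fibre_noetherian (R := B) (S := MvPolynomial (Fin n) B) r₁ f hinj₁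
  refine ⟨fun ht hy => ?_, ?_⟩
  · obtain ⟨s, hs, hsy⟩ := hI (Submodule.Quotient.mk y₁) t₁ ht (by
      rw [show f (Submodule.Quotient.mk y₁) = Submodule.Quotient.mk (U₁ y₁) from rfl,
        ← Submodule.Quotient.mk_smul]
      exact (Submodule.Quotient.mk_eq_zero _).2 hy)
    rw [← Submodule.Quotient.mk_smul, Submodule.Quotient.mk_eq_zero] at hsy
    refine ⟨μ s, hs, ?_⟩
    have := mapVec_mem_span (A := A) l₁ _ hsy
    rwa [mapVec_smul] at this
  · -- the cokernel of the model, base changed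
    let gens : ULift.{u} (Fin a ⊕ Fin b) → Fin m → MvPolynomial (Fin n) B := fun j => Sum.elim w₁ uu₁ j.down
    let Q₁ := Submodule.span (MvPolynomial (Fin n) B) (Set.range gens)
    have hrg : Set.range gens = Set.range w₁ ∪ Set.range uu₁ := by
      rw [← Set.Sum.elim_range]
      exact (Equiv.ulift.surjective.range_comp (Sum.elim w₁ uu₁))
    have hQ₁ : Q₁ = K₁ ⊔ LinearMap.range U₁ := by
      rw [Fintype.range_linearCombination, ← Submodule.span_union, ← hrg]
    let eA : A ⊗[B] MvPolynomial (Fin n) B ≃ₐ[A] MvPolynomial (Fin n) A :=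
      MvPolynomial.algebraTensorAlgEquiv B A
    have heA : ∀ q, eA ((1 : A) ⊗ₜ q) = μ q := fun q => by simp [eA, μ]
    have hK : K ⊔ LinearMap.range U = Submodule.span (MvPolynomial (Fin n) A)
        (Set.range fun j => fun i => eA ((1 : A) ⊗ₜ gens j i)) := by
      rw [Fintype.range_linearCombination, ← Submodule.span_union]
      congr 1
      simp only [heA]
      ext v
      constructor
      · rintro (⟨j, rfl⟩ | ⟨j, rfl⟩)
        · exact ⟨⟨Sum.inl j⟩, rfl⟩
        · exact ⟨⟨Sum.inr j⟩, rfl⟩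
      · rintro ⟨⟨j | j⟩, rfl⟩
        · exact Or.inl ⟨j, rfl⟩
        · exact Or.inr ⟨j, rfl⟩
    obtain ⟨eM, heM⟩ := FlatH4.exists_quotient_model eA gens (K ⊔ LinearMap.range U) hK
    have hrange : LinearMap.range f = (K₁ ⊔ LinearMap.range U₁).map K₁.mkQ := by
      apply le_antisymm
      · rintro _ ⟨x, rfl⟩
        obtain ⟨x, rfl⟩ := Submodule.Quotient.mk_surjective _ x
        exact ⟨U₁ x, Submodule.mem_sup_right ⟨x, rfl⟩, rfl⟩
      · rintro _ ⟨x, hx, rfl⟩
        obtain ⟨k, hk, _, ⟨v, rfl⟩, rfl⟩ := Submodule.mem_sup.1 hx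
        refine ⟨Submodule.Quotient.mk v, ?_⟩
        show Submodule.Quotient.mk (U₁ v) = Submodule.Quotient.mk (k + U₁ v)
        rw [Submodule.Quotient.mk_add, (Submodule.Quotient.mk_eq_zero K₁).2 hk, zero_add]
    let e₁ : (M₁ ⧸ LinearMap.range f) ≃ₗ[MvPolynomial (Fin n) B] (Fin m → MvPolynomial (Fin n) B) ⧸ Q₁ :=
      (Submodule.quotEquivOfEq _ _ hrange).trans
        ((Submodule.quotientQuotientEquivQuotient K₁ _ le_sup_left).trans (Submodule.quotEquivOfEq _ _ hQ₁.symm))
    haveI : Module.Flat B (LocalizedModule (r.comap μ).primeCompl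
        ((Fin m → MvPolynomial (Fin n) B) ⧸ Q₁)) := (FlatH4.flat_localized_congr _ e₁).1 hF
    exact FlatH4.flat_localized_baseChange A μ r eM fun s x => by rw [heM, heA]

/-- The model case, flatness given before changing coefficients. -/
theorem injective_flat_coker_model' {B : Type u} [CommRing B] [IsNoetherianRing B] [Algebra B A]
    {R₀ : Type u} [CommRing R₀] [Algebra R₀ B]
    {a c : ℕ} (w₀ : Fin a → Fin m → MvPolynomial (Fin n) R₀) (l₁ : Fin c → Fin b → MvPolynomial (Fin n) B)
    (uu₁ : Fin b → Fin m → MvPolynomial (Fin n) B)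
    (hflat : Module.Flat B (B ⊗[R₀] ((Fin m → MvPolynomial (Fin n) R₀) ⧸
      Submodule.span (MvPolynomial (Fin n) R₀) (Set.range w₀))))
    (hl : ∀ j, Fintype.linearCombination (MvPolynomial (Fin n) B) uu₁ (l₁ j) ∈
      Submodule.span (MvPolynomial (Fin n) B) (Set.range fun j => mapVec B (w₀ j)))
    (r : Ideal (MvPolynomial (Fin n) A)) [r.IsPrime]
    (hinj : ∀ z : Fin b → MvPolynomial (Fin n) A, ∀ t ∉ r,
      t • Fintype.linearCombination (MvPolynomial (Fin n) A) (fun j => mapVec A (uu₁ j)) z ∈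
        Submodule.span (MvPolynomial (Fin n) A) (Set.range fun j => mapVec A (mapVec B (w₀ j))) ⊔
          (r.comap (algebraMap A (MvPolynomial (Fin n) A))).map (algebraMap A (MvPolynomial (Fin n) A)) • ⊤ →
      ∃ t' ∉ r, t' • z ∈ Submodule.span (MvPolynomial (Fin n) A) (Set.range fun j => mapVec A (l₁ j)) ⊔
          (r.comap (algebraMap A (MvPolynomial (Fin n) A))).map (algebraMap A (MvPolynomial (Fin n) A)) • ⊤)
    (y₁ : Fin b → MvPolynomial (Fin n) B) (t₁ : MvPolynomial (Fin n) B) :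
    (MvPolynomial.map (algebraMap B A) t₁ ∉ r →
        t₁ • Fintype.linearCombination (MvPolynomial (Fin n) B) uu₁ y₁ ∈
          Submodule.span (MvPolynomial (Fin n) B) (Set.range fun j => mapVec B (w₀ j)) →
      ∃ t' ∉ r, t' • mapVec A y₁ ∈
        Submodule.span (MvPolynomial (Fin n) A) (Set.range fun j => mapVec A (l₁ j))) ∧
    Module.Flat A (LocalizedModule r.primeCompl ((Fin m → MvPolynomial (Fin n) A) ⧸
      (Submodule.span (MvPolynomial (Fin n) A) (Set.range fun j => mapVec A (mapVec B (w₀ j))) ⊔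
        LinearMap.range (Fintype.linearCombination (MvPolynomial (Fin n) A) fun j => mapVec A (uu₁ j))))) := by
  haveI := hflat
  obtain ⟨e₁⟩ := nonempty_quotient_baseChange (A := B) (Submodule.span (MvPolynomial (Fin n) R₀) (Set.range w₀))
  refine injective_flat_coker_model _ l₁ uu₁ ?_ hl r hinj y₁ t₁
  rw [show Submodule.span (MvPolynomial (Fin n) B) (Set.range fun j => mapVec B (w₀ j)) =
    mapSub B (Submodule.span (MvPolynomial (Fin n) R₀) (Set.range w₀)) by
      rw [mapSub_span, ← Set.range_comp]; rfl]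
  exact Module.Flat.of_linearEquiv e₁.symm

/-- Maps injective on the fibre: the case of quotients of free modules over polynomial rings. -/
theorem injective_flat_coker_poly (K : Submodule (MvPolynomial (Fin n) A) (Fin m → MvPolynomial (Fin n) A))
    (hK : K.FG) [Module.Flat A ((Fin m → MvPolynomial (Fin n) A) ⧸ K)]
    (L : Submodule (MvPolynomial (Fin n) A) (Fin b → MvPolynomial (Fin n) A)) (hL : L.FG)
    (U : (Fin b → MvPolynomial (Fin n) A) →ₗ[MvPolynomial (Fin n) A] (Fin m → MvPolynomial (Fin n) A))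
    (hLK : ∀ l ∈ L, U l ∈ K)
    (r : Ideal (MvPolynomial (Fin n) A)) [r.IsPrime]
    (hinj : ∀ z, ∀ t ∉ r,
      t • U z ∈ K ⊔ (r.comap (algebraMap A (MvPolynomial (Fin n) A))).map
        (algebraMap A (MvPolynomial (Fin n) A)) • ⊤ →
      ∃ t' ∉ r, t' • z ∈ L ⊔ (r.comap (algebraMap A (MvPolynomial (Fin n) A))).map
        (algebraMap A (MvPolynomial (Fin n) A)) • ⊤)
    (y : Fin b → MvPolynomial (Fin n) A) (t : MvPolynomial (Fin n) A) :
    (t ∉ r → t • U y ∈ K → ∃ t' ∉ r, t' • y ∈ L) ∧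
      Module.Flat A (LocalizedModule r.primeCompl
        ((Fin m → MvPolynomial (Fin n) A) ⧸ (K ⊔ LinearMap.range U))) := by
  classical
  obtain ⟨a, w, hw⟩ := Submodule.fg_iff_exists_fin_generating_family.1 hK
  obtain ⟨c, l, hl⟩ := Submodule.fg_iff_exists_fin_generating_family.1 hL
  let uu : Fin b → Fin m → MvPolynomial (Fin n) A := fun j => U (Pi.single j 1)
  have hU : U = Fintype.linearCombination (MvPolynomial (Fin n) A) uu := by
    refine LinearMap.ext fun v => ?_
    conv_lhs => rw [pi_eq_sum_univ' v]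
    simp [Fintype.linearCombination_apply, uu, map_sum]
  have hlK : ∀ j, ∃ d : Fin a → MvPolynomial (Fin n) A, ∑ i, d i • w i = U (l j) := fun j =>
    (Submodule.mem_span_range_iff_exists_fun _).1 (hw.ge (hLK _ (hl.le (Submodule.subset_span ⟨j, rfl⟩))))
  choose d hd using hlK
  obtain ⟨d₀, hd₀⟩ : ∃ d₀ : Fin a → MvPolynomial (Fin n) A, t • U y ∈ K → ∑ i, d₀ i • w i = t • U y := by
    by_cases hy : t • U y ∈ K
    · obtain ⟨d₀, hd₀⟩ := (Submodule.mem_span_range_iff_exists_fun _).1 (hw.ge hy)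
      exact ⟨d₀, fun _ => hd₀⟩
    · exact ⟨0, fun h => absurd h hy⟩
  let G : Set (MvPolynomial (Fin n) A) :=
    (⋃ j, Set.range (w j)) ∪ (⋃ j, Set.range (l j)) ∪ (⋃ j, Set.range (uu j)) ∪ (⋃ j, Set.range (d j)) ∪
      Set.range d₀ ∪ Set.range y ∪ {t}
  have hG : G.Finite :=
    (((((((Set.finite_iUnion fun j => Set.finite_range (w j)).union
      (Set.finite_iUnion fun j => Set.finite_range (l j))).union
      (Set.finite_iUnion fun j => Set.finite_range (uu j)))).union
      (Set.finite_iUnion fun j => Set.finite_range (d j))).union (Set.finite_range d₀)).union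
      (Set.finite_range y)).union (Set.finite_singleton t)
  let C : Set A := ⋃ q ∈ G, ((q : MvPolynomial (Fin n) A).coeffs : Set A)
  have hC : C.Finite := hG.biUnion fun q _ => q.coeffs.finite_toSet
  let R₀ : Subalgebra ℤ A := Algebra.adjoin ℤ C
  haveI : IsNoetherianRing R₀ := isNoetherianRing_of_fg (Subalgebra.fg_def.2 ⟨C, hC, rfl⟩)
  have hlift : ∀ q ∈ G, ∃ q₀ : MvPolynomial (Fin n) R₀, MvPolynomial.map (algebraMap R₀ A) q₀ = q := by
    intro q hq
    have h' : q ∈ Set.range (MvPolynomial.map (σ := Fin n) (algebraMap R₀ A)) := by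
      rw [MvPolynomial.mem_range_map_iff_coeffs_subset]
      exact fun x hx => ⟨⟨x, Algebra.subset_adjoin (Set.mem_biUnion hq hx)⟩, rfl⟩
    exact h'
  choose w₀ hw₀ using fun j i => hlift (w j i)
    (Or.inl (Or.inl (Or.inl (Or.inl (Or.inl (Or.inl (Set.mem_iUnion.2 ⟨j, i, rfl⟩)))))))
  let N₀ := Submodule.span (MvPolynomial (Fin n) R₀) (Set.range w₀)
  have hN₀ : mapSub A N₀ = K := by
    rw [mapSub_span, ← hw, ← Set.range_comp]
    exact congrArg _ (congrArg Set.range (funext fun j => funext (hw₀ j)))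
  obtain ⟨e₀⟩ := nonempty_quotient_baseChange (A := A) N₀
  haveI : Module.Flat A (A ⊗[R₀] ((Fin m → MvPolynomial (Fin n) R₀) ⧸ N₀)) :=
    Module.Flat.of_linearEquiv (e₀.trans ((Submodule.quotEquivOfEq _ _ hN₀).restrictScalars A))
  obtain ⟨B, hB, hflat⟩ := FlatH4.exists_subalgebra_flat R₀ A (MvPolynomial (Fin n) R₀)
    ((Fin m → MvPolynomial (Fin n) R₀) ⧸ N₀)
  haveI := hflat B le_rfl hB
  haveI : IsNoetherianRing B := isNoetherianRing_of_fg hB
  let μ : MvPolynomial (Fin n) B →+* MvPolynomial (Fin n) A := MvPolynomial.map (algebraMap B A)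
  have hμvec : ∀ {d : ℕ}, Function.Injective (mapVec A : (Fin d → MvPolynomial (Fin n) B) → _) :=
    fun {d} v v' hv => funext fun i => MvPolynomial.map_injective _ Subtype.val_injective (congrFun hv i)
  have hliftB : ∀ q ∈ G, ∃ q₁, μ q₁ = q := fun q hq => by
    obtain ⟨q₀, rfl⟩ := hlift q hq
    refine ⟨MvPolynomial.map (algebraMap R₀ B) q₀, ?_⟩
    rw [show μ (MvPolynomial.map (algebraMap R₀ B) q₀) =
      MvPolynomial.map (algebraMap B A) (MvPolynomial.map (algebraMap R₀ B) q₀) from rfl, MvPolynomial.map_map]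
    congr 1
  let w₁ : Fin a → Fin m → MvPolynomial (Fin n) B := fun j => mapVec B (w₀ j)
  have hw₁ : ∀ j, mapVec A (w₁ j) = w j := fun j => funext fun i => by
    show MvPolynomial.map (algebraMap B A) (MvPolynomial.map (algebraMap R₀ B) (w₀ j i)) = w j i
    rw [MvPolynomial.map_map, ← hw₀]
    congr 1
  choose l₁ hl₁ using fun j i => hliftB (l j i)
    (Or.inl (Or.inl (Or.inl (Or.inl (Or.inl (Or.inr (Set.mem_iUnion.2 ⟨j, i, rfl⟩)))))))
  choose uu₁ huu₁ using fun j i => hliftB (uu j i)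
    (Or.inl (Or.inl (Or.inl (Or.inl (Or.inr (Set.mem_iUnion.2 ⟨j, i, rfl⟩))))))
  choose d₁ hd₁ using fun j i => hliftB (d j i) (Or.inl (Or.inl (Or.inl (Or.inr (Set.mem_iUnion.2 ⟨j, i, rfl⟩)))))
  choose e' he' using fun i => hliftB (d₀ i) (Or.inl (Or.inl (Or.inr ⟨i, rfl⟩)))
  choose y₁ hy₁ using fun i => hliftB (y i) (Or.inl (Or.inr ⟨i, rfl⟩))
  obtain ⟨t₁, ht₁⟩ := hliftB t (Or.inr rfl)
  have hlA : (fun j => mapVec A (l₁ j)) = l := funext fun j => funext fun i => hl₁ j i
  have huA : (fun j => mapVec A (uu₁ j)) = uu := funext fun j => funext fun i => huu₁ j i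
  have hwA : (fun j => mapVec A (w₁ j)) = w := funext hw₁
  have hUA : ∀ v, mapVec A (Fintype.linearCombination (MvPolynomial (Fin n) B) uu₁ v) = U (mapVec A v) :=
    fun v => by rw [mapVec_linearCombination, huA, ← hU]
  have hsum : ∀ (e : Fin a → MvPolynomial (Fin n) B) (e₂ : Fin a → MvPolynomial (Fin n) A),
      (∀ i, μ (e i) = e₂ i) → mapVec A (∑ i, e i • w₁ i) = ∑ i, e₂ i • w i := by
    intro e e₂ he
    funext k
    simp only [mapVec, Finset.sum_apply, Pi.smul_apply, smul_eq_mul, map_sum, map_mul]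
    exact Finset.sum_congr rfl fun i _ => congrArg₂ (· * ·) (he i) (congrFun (hw₁ i) k)
  have hl' : ∀ j, Fintype.linearCombination (MvPolynomial (Fin n) B) uu₁ (l₁ j) ∈
      Submodule.span (MvPolynomial (Fin n) B) (Set.range w₁) := fun j => by
    rw [show Fintype.linearCombination (MvPolynomial (Fin n) B) uu₁ (l₁ j) = ∑ i, d₁ j i • w₁ i from hμvec (by
      rw [hUA, show mapVec A (l₁ j) = l j from congrFun hlA j, hsum _ _ (hd₁ j), hd])]
    exact Submodule.sum_mem _ fun i _ => Submodule.smul_mem _ _ (Submodule.subset_span ⟨i, rfl⟩)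
  have hmain := injective_flat_coker_model' (A := A) (B := B) w₀ l₁ uu₁ (hflat B le_rfl hB) hl' r
    (by rw [huA, hlA, hwA, hw, hl, ← hU]; exact hinj) y₁ t₁
  rw [huA, hlA, hwA, hw, hl, ← hU, show mapVec A y₁ = y from funext hy₁,
    show MvPolynomial.map (algebraMap B A) t₁ = t from ht₁] at hmain
  refine ⟨fun ht hy => hmain.1 ht ?_, hmain.2⟩
  rw [show t₁ • Fintype.linearCombination (MvPolynomial (Fin n) B) uu₁ y₁ = ∑ i, e' i • w₁ i from hμvec (by
    rw [mapVec_smul, hUA, show mapVec A y₁ = y from funext hy₁, hsum _ _ he',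
      show MvPolynomial.map (algebraMap B A) t₁ = t from ht₁, hd₀ hy])]
  exact Submodule.sum_mem _ fun i _ => Submodule.smul_mem _ _ (Submodule.subset_span ⟨i, rfl⟩)

end Groth.Agent.SchDom
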