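import Groth.Agent.Lib.SchDom.LocalNZD
import Groth.Agent.Lib.FlatSyz.Kernel
import Mathlib.RingTheory.LocalRing.ResidueField.Ideal

/-!
# Non-zero-divisors on fibres of flat finitely presented modules
-/

universe u

namespace Groth.Agent.SchDom

open TensorProduct FlatSyz

variable {n : ℕ}

section

variable {R k : Type u} [CommRing R] [CommRing k] [Algebra R k] {m : ℕ}

theorem mapVec_eq_zero_iff_mem {p : Ideal R} [p.IsPrime] (v : Fin m → MvPolynomial (Fin n) R) :
    mapVec p.ResidueField v = 0 ↔ ∀ i d, MvPolynomial.coeff d (v i) ∈ p := by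
  simp only [funext_iff, mapVec, MvPolynomial.ext_iff, MvPolynomial.coeff_map, Pi.zero_apply,
    MvPolynomial.coeff_zero, Ideal.algebraMap_residueField_eq_zero]

theorem mem_map_smul_top {p : Ideal R} (v : Fin m → MvPolynomial (Fin n) R)
    (hv : ∀ i d, MvPolynomial.coeff d (v i) ∈ p) :
    v ∈ p.map (algebraMap R (MvPolynomial (Fin n) R)) • (⊤ : Submodule (MvPolynomial (Fin n) R) (Fin m → MvPolynomial (Fin n) R)) := by
  classical
  rw [← Finset.univ_sum_single v]
  refine Submodule.sum_mem _ fun i _ => ?_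
  rw [show Pi.single i (v i) = v i • Pi.single (M := fun _ : Fin m => MvPolynomial (Fin n) R) i 1 from by
    funext j
    by_cases hj : j = i
    · subst hj; simp
    · simp [hj]]
  refine Submodule.smul_mem_smul ?_ trivial
  rw [MvPolynomial.algebraMap_eq, MvPolynomial.mem_map_C_iff]
  exact hv i

theorem mapVec_eq_zero_of_mem {p : Ideal R} (hp : ∀ a ∈ p, algebraMap R k a = 0)
    (v : Fin m → MvPolynomial (Fin n) R)
    (hv : v ∈ p.map (algebraMap R (MvPolynomial (Fin n) R)) • (⊤ : Submodule (MvPolynomial (Fin n) R) (Fin m → MvPolynomial (Fin n) R))) :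
    mapVec k v = 0 := by
  refine Submodule.smul_induction_on hv (fun a ha z _ => ?_) fun a b ha hb => by rw [mapVec_add, ha, hb, add_zero]
  rw [mapVec_smul]
  suffices MvPolynomial.map (algebraMap R k) a = 0 by rw [this, zero_smul]
  rw [MvPolynomial.algebraMap_eq, MvPolynomial.mem_map_C_iff] at ha
  ext d
  rw [MvPolynomial.coeff_map, MvPolynomial.coeff_zero, hp _ (ha d)]

/-- Denominators of polynomials over a residue field. -/
theorem exists_smul_eq_map {p : Ideal R} [p.IsPrime] (u : MvPolynomial (Fin n) p.ResidueField) :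
    ∃ a ∉ p, ∃ u₁ : MvPolynomial (Fin n) R, MvPolynomial.map (algebraMap R p.ResidueField) u₁ = a • u := by
  induction u using MvPolynomial.induction_on' with
  | monomial d c =>
    obtain ⟨b, s, hs, rfl⟩ := IsFractionRing.div_surjective (A := R ⧸ p) c
    obtain ⟨b, rfl⟩ := Ideal.Quotient.mk_surjective b
    obtain ⟨s, rfl⟩ := Ideal.Quotient.mk_surjective s
    have hs' : s ∉ p := fun h => nonZeroDivisors.ne_zero hs (Ideal.Quotient.eq_zero_iff_mem.2 h)
    refine ⟨s, hs', MvPolynomial.monomial d b, ?_⟩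
    rw [MvPolynomial.map_monomial, MvPolynomial.smul_monomial]
    congr 1
    have hne : algebraMap (R ⧸ p) p.ResidueField (Ideal.Quotient.mk p s) ≠ 0 := by
      rw [map_ne_zero_iff _ (IsFractionRing.injective (R ⧸ p) p.ResidueField)]
      exact nonZeroDivisors.ne_zero hs
    rw [Algebra.smul_def, IsScalarTower.algebraMap_apply R (R ⧸ p) p.ResidueField,
      IsScalarTower.algebraMap_apply R (R ⧸ p) p.ResidueField s]
    exact (mul_div_cancel₀ _ hne).symm
  | add u v hu hv =>
    obtain ⟨a, ha, u₁, hu₁⟩ := hu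
    obtain ⟨b, hb, v₁, hv₁⟩ := hv
    refine ⟨a * b, fun h => (Ideal.IsPrime.mem_or_mem ‹p.IsPrime› h).elim ha hb, b • u₁ + a • v₁, ?_⟩
    have hsm : ∀ (c : R) (w : MvPolynomial (Fin n) R), MvPolynomial.map (algebraMap R p.ResidueField) (c • w) =
        c • MvPolynomial.map (algebraMap R p.ResidueField) w := fun c w => by
      ext d
      simp [MvPolynomial.coeff_map, Algebra.smul_def]
    rw [map_add, hsm, hsm, hu₁, hv₁, smul_add, smul_smul, smul_smul, mul_comm b a]

end

variable {A : Type u} [CommRing A] {m : ℕ}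

/-- The model case of `eq_zero_of_fibre_nzd_poly`. -/
theorem eq_zero_of_fibre_nzd_model {B : Type u} [CommRing B] [IsNoetherianRing B] [Algebra B A]
    {b : ℕ} (K : Submodule (MvPolynomial (Fin n) A) (Fin m → MvPolynomial (Fin n) A))
    (w₁ : Fin b → Fin m → MvPolynomial (Fin n) B)
    (hK : Submodule.span _ (Set.range fun j => mapVec A (w₁ j)) = K)
    (hflat : Module.Flat B ((Fin m → MvPolynomial (Fin n) B) ⧸
      Submodule.span (MvPolynomial (Fin n) B) (Set.range w₁)))
    (r : Ideal (MvPolynomial (Fin n) A)) [r.IsPrime] (h₁ : MvPolynomial (Fin n) B)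
    (hnzd : ∀ z : Fin m → MvPolynomial (Fin n) A, ∀ t ∉ r,
      t • MvPolynomial.map (algebraMap B A) h₁ • z ∈ K ⊔ (r.comap (algebraMap A (MvPolynomial (Fin n) A))).map
        (algebraMap A (MvPolynomial (Fin n) A)) • ⊤ →
      ∃ t' ∉ r, t' • z ∈ K ⊔ (r.comap (algebraMap A (MvPolynomial (Fin n) A))).map
        (algebraMap A (MvPolynomial (Fin n) A)) • ⊤)
    (y₁ : Fin m → MvPolynomial (Fin n) B) (c₁ : Fin b → MvPolynomial (Fin n) B)
    (t₁ : MvPolynomial (Fin n) B) (ht₁ : MvPolynomial.map (algebraMap B A) t₁ ∉ r)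
    (hy : t₁ • h₁ • y₁ = ∑ j, c₁ j • w₁ j) :
    ∃ t' ∉ r, t' • mapVec A y₁ ∈ K := by
  classical
  let μ : MvPolynomial (Fin n) B →+* MvPolynomial (Fin n) A := MvPolynomial.map (algebraMap B A)
  let w : Fin b → Fin m → MvPolynomial (Fin n) A := fun j => mapVec A (w₁ j)
  have hw₁ : ∀ j, mapVec A (w₁ j) = w j := fun j => rfl
  have hw : Submodule.span _ (Set.range w) = K := hK
  let K₁ := Submodule.span (MvPolynomial (Fin n) B) (Set.range w₁)
  have hK₁A : ∀ v ∈ K₁, mapVec A v ∈ K := by
    intro v hv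
    rw [← hw]
    induction hv using Submodule.span_induction with
    | mem x hx => obtain ⟨j, rfl⟩ := hx; rw [hw₁]; exact Submodule.subset_span ⟨j, rfl⟩
    | zero => rw [mapVec_zero]; exact zero_mem _
    | add a b _ _ ha hb => rw [mapVec_add]; exact add_mem ha hb
    | smul a x _ hx => rw [mapVec_smul]; exact Submodule.smul_mem _ _ hx
  let M₁ := (Fin m → MvPolynomial (Fin n) B) ⧸ K₁
  haveI : Module.Flat B M₁ := hflat
  let r₁ : Ideal (MvPolynomial (Fin n) B) := r.comap μ
  let p := r.comap (algebraMap A (MvPolynomial (Fin n) A))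
  let p₁ := r₁.comap (algebraMap B (MvPolynomial (Fin n) B))
  have hp₁ : p₁ = p.comap (algebraMap B A) := by
    ext a
    show μ (algebraMap B _ a) ∈ r ↔ algebraMap A _ (algebraMap B A a) ∈ r
    rw [show μ (algebraMap B _ a) = algebraMap A (MvPolynomial (Fin n) A) (algebraMap B A a) from
      MvPolynomial.map_C _ _]
  have hpA : ∀ v ∈ p₁.map (algebraMap B (MvPolynomial (Fin n) B)) •
      (⊤ : Submodule (MvPolynomial (Fin n) B) (Fin m → MvPolynomial (Fin n) B)),
      mapVec A v ∈ p.map (algebraMap A (MvPolynomial (Fin n) A)) •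
        (⊤ : Submodule (MvPolynomial (Fin n) A) (Fin m → MvPolynomial (Fin n) A)) := by
    intro v hv
    refine Submodule.smul_induction_on hv (fun a ha z _ => ?_) fun a b ha hb => by
      rw [mapVec_add]; exact add_mem ha hb
    rw [mapVec_smul]
    refine Submodule.smul_mem_smul ?_ trivial
    rw [MvPolynomial.algebraMap_eq, MvPolynomial.mem_map_C_iff] at ha ⊢
    intro d
    rw [MvPolynomial.coeff_map]
    have := ha d
    rw [hp₁] at this
    exact this
  have hq : ∀ (v : Fin m → MvPolynomial (Fin n) B),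
      (Submodule.Quotient.mk v : M₁) ∈ p₁ • (⊤ : Submodule B M₁) ↔
        v ∈ K₁ ⊔ p₁.map (algebraMap B (MvPolynomial (Fin n) B)) • ⊤ := by
    intro v
    constructor
    · intro hv
      have : ∀ q ∈ p₁ • (⊤ : Submodule B M₁), ∀ v, Submodule.Quotient.mk v = q →
          v ∈ K₁ ⊔ p₁.map (algebraMap B (MvPolynomial (Fin n) B)) • ⊤ := by
        intro q hq
        refine Submodule.smul_induction_on hq (fun a ha z _ => ?_) fun q₁ q₂ hq₁ hq₂ => ?_
        · intro v hv
          obtain ⟨z, rfl⟩ := Submodule.Quotient.mk_surjective _ z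
          rw [← algebraMap_smul (MvPolynomial (Fin n) B) a, ← Submodule.Quotient.mk_smul,
            Submodule.Quotient.eq] at hv
          have h' := Submodule.smul_mem_smul (Ideal.mem_map_of_mem (algebraMap B (MvPolynomial (Fin n) B)) ha)
            (Submodule.mem_top (R := MvPolynomial (Fin n) B) (x := z))
          have := add_mem (Submodule.mem_sup_left hv : _ ∈ K₁ ⊔ p₁.map (algebraMap B (MvPolynomial (Fin n) B)) • ⊤)
            (Submodule.mem_sup_right h')
          rwa [sub_add_cancel] at this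
        · intro v hv
          obtain ⟨v₁, rfl⟩ := Submodule.Quotient.mk_surjective _ q₁
          have h₂ := hq₂ (v - v₁) (by rw [Submodule.Quotient.mk_sub, hv]; simp)
          have := add_mem (hq₁ v₁ rfl) h₂
          rwa [add_sub_cancel] at this
      exact this _ hv v rfl
    · intro hv
      obtain ⟨a, ha, b, hb, rfl⟩ := Submodule.mem_sup.1 hv
      rw [Submodule.Quotient.mk_add, (Submodule.Quotient.mk_eq_zero K₁).2 ha, zero_add]
      have h' := Submodule.mem_map_of_mem (f := K₁.mkQ) hb
      rw [Submodule.map_smul''] at h'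
      have h'' := Submodule.smul_mono le_rfl le_top h'
      refine Submodule.smul_induction_on (p := fun x => x ∈ p₁ • (⊤ : Submodule B M₁)) h'' (fun c hc x _ => ?_) fun _ _ => add_mem
      refine Submodule.span_induction (p := fun c _ => c • x ∈ p₁ • (⊤ : Submodule B M₁)) ?_ ?_ ?_ ?_ hc
      · rintro _ ⟨a', ha', rfl⟩
        rw [algebraMap_smul]
        exact Submodule.smul_mem_smul ha' trivial
      · simp
      · intro c d _ _ hc hd; rw [add_smul]; exact add_mem hc hd
      · intro q c _ hc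
        rw [smul_eq_mul, mul_smul]
        exact (Submodule.map_smul'' p₁ (⊤ : Submodule B M₁)
          ((LinearMap.lsmul (MvPolynomial (Fin n) B) M₁ q).restrictScalars B)).trans_le
          (Submodule.smul_mono le_rfl le_top) (Submodule.mem_map_of_mem hc)
  -- fibre injectivity on the model
  have hnzd₁ : ∀ z : M₁, ∀ s ∉ r₁, s • h₁ • z ∈ p₁ • (⊤ : Submodule B M₁) →
      ∃ s' ∉ r₁, s' • z ∈ p₁ • (⊤ : Submodule B M₁) := by
    intro z s hs hz
    obtain ⟨z, rfl⟩ := Submodule.Quotient.mk_surjective _ z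
    rw [← Submodule.Quotient.mk_smul, ← Submodule.Quotient.mk_smul, hq] at hz
    obtain ⟨a, ha, e, he, hae⟩ := Submodule.mem_sup.1 hz
    obtain ⟨t₀, ht₀, hz₀⟩ := hnzd (mapVec A z) (μ s) hs (by
      rw [← mapVec_smul, ← mapVec_smul, ← hae, mapVec_add]
      exact add_mem (Submodule.mem_sup_left (hK₁A a ha)) (Submodule.mem_sup_right (hpA e he)))
    -- pass to residue fields
    let k := p.ResidueField
    let k₁ := p₁.ResidueField
    let kk : k₁ →+* k := Ideal.ResidueField.map p₁ p (algebraMap B A) hp₁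
    letI : Algebra k₁ k := kk.toAlgebra
    have hkk : ∀ x : B, algebraMap k₁ k (algebraMap B k₁ x) = algebraMap A k (algebraMap B A x) := fun x =>
      Ideal.ResidueField.map_algebraMap _ _ _ _ _
    let g : (Fin (b + 1) → MvPolynomial (Fin n) k₁) →ₗ[MvPolynomial (Fin n) k₁]
        (Fin m → MvPolynomial (Fin n) k₁) :=
      Fintype.linearCombination _ (Fin.cons (mapVec k₁ z) fun j => mapVec k₁ (w₁ j))
    have hgen : ∀ v : Fin m → MvPolynomial (Fin n) B, mapVec k (mapVec k₁ v) = mapVec k (mapVec A v) := by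
      intro v
      funext i
      simp only [mapVec, MvPolynomial.map_map]
      congr 2
      exact RingHom.ext fun x => hkk x
    obtain ⟨e', he', f', hf', hef⟩ := Submodule.mem_sup.1 hz₀
    obtain ⟨d, hd⟩ : ∃ d : Fin b → MvPolynomial (Fin n) A, ∑ j, d j • w j = e' :=
      (Submodule.mem_span_range_iff_exists_fun _).1 (hw.ge he')
    let v : Fin (b + 1) → MvPolynomial (Fin n) k := Fin.cons (MvPolynomial.map (algebraMap A k) t₀)
      fun j => -MvPolynomial.map (algebraMap A k) (d j)
    have hv : v ∈ LinearMap.ker (mapHom k g) := by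
      rw [LinearMap.mem_ker, mapHom, Fintype.linearCombination_apply, Fin.sum_univ_succ]
      simp only [g, Fintype.linearCombination_apply_single, one_smul, v, Fin.cons_zero, Fin.cons_succ,
        hgen, hw₁, neg_smul, Finset.sum_neg_distrib]
      rw [← mapVec_smul, ← hef, mapVec_add, mapVec_eq_zero_of_mem (k := k) (fun a ha =>
        Ideal.algebraMap_residueField_eq_zero.2 ha) f' hf', add_zero, ← hd, add_neg_eq_zero]
      funext i
      simp [mapVec, Finset.sum_apply, map_sum]
    rw [ker_mapHom] at hv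
    -- a relation whose first coordinate is invertible at `r`
    let L := r.ResidueField
    let φ : MvPolynomial (Fin n) k →+* L := MvPolynomial.eval₂Hom
      (Ideal.ResidueField.map p r (algebraMap A (MvPolynomial (Fin n) A)) rfl)
      fun i => algebraMap (MvPolynomial (Fin n) A) L (MvPolynomial.X i)
    have hφ : ∀ q, φ (MvPolynomial.map (algebraMap A k) q) = algebraMap (MvPolynomial (Fin n) A) L q := by
      intro q
      induction q using MvPolynomial.induction_on with
      | C a =>
        rw [MvPolynomial.map_C]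
        simp only [φ, MvPolynomial.eval₂Hom_C]
        exact Ideal.ResidueField.map_algebraMap _ _ _ _ _
      | add a c ha hc => rw [map_add, map_add, ha, hc, map_add]
      | mul_X a i ha =>
        rw [map_mul, map_mul, ha, MvPolynomial.map_X, map_mul]
        simp [φ]
    obtain ⟨ρ, hρ, hρ0⟩ : ∃ ρ ∈ LinearMap.ker g,
        φ (MvPolynomial.map (algebraMap k₁ k) (ρ 0)) ≠ 0 := by
      by_contra hno
      push Not at hno
      have : ∀ u ∈ mapSub k (LinearMap.ker g), φ (u 0) = 0 := by
        intro u hu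
        induction hu using Submodule.span_induction with
        | mem x hx => obtain ⟨ρ, hρ, rfl⟩ := hx; exact hno ρ hρ
        | zero => simp
        | add a c _ _ ha hc => rw [Pi.add_apply, map_add, ha, hc, add_zero]
        | smul a x _ hx => rw [Pi.smul_apply, smul_eq_mul, map_mul, hx, mul_zero]
      have h0 := this v hv
      rw [show v 0 = MvPolynomial.map (algebraMap A k) t₀ from rfl, hφ] at h0
      exact ht₀ (Ideal.algebraMap_residueField_eq_zero.1 h0)
    -- clear denominators
    choose a ha ρ₁ hρ₁ using fun j => exists_smul_eq_map (p := p₁) (ρ j)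
    let aa := ∏ j, a j
    have haa : aa ∉ p₁ := fun hm => by
      obtain ⟨j, -, hj⟩ := (Ideal.IsPrime.prod_mem_iff).1 hm
      exact ha j hj
    let ρ₂ : Fin (b + 1) → MvPolynomial (Fin n) B := fun j => (∏ i ∈ Finset.univ.erase j, a i) • ρ₁ j
    have hρ₂ : ∀ j, MvPolynomial.map (algebraMap B k₁) (ρ₂ j) = aa • ρ j := fun j => by
      show MvPolynomial.map (algebraMap B k₁) ((∏ i ∈ Finset.univ.erase j, a i) • ρ₁ j) = _
      rw [Algebra.smul_def, map_mul, hρ₁, MvPolynomial.algebraMap_eq, MvPolynomial.map_C,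
        ← MvPolynomial.algebraMap_eq, ← Algebra.smul_def, algebraMap_smul, smul_smul,
        Finset.prod_erase_mul _ _ (Finset.mem_univ j)]
    let q := ρ₂ 0 • z + ∑ j : Fin b, ρ₂ j.succ • w₁ j
    have hq0 : mapVec k₁ q = 0 := by
      have h1 : g ρ = 0 := hρ
      rw [Fintype.linearCombination_apply, Fin.sum_univ_succ] at h1
      simp only [Fin.cons_zero, Fin.cons_succ] at h1
      have h2 : mapVec k₁ q = aa • (ρ 0 • mapVec k₁ z + ∑ j : Fin b, ρ j.succ • mapVec k₁ (w₁ j)) := by
        funext i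
        simp only [q, mapVec, Pi.add_apply, Pi.smul_apply, Finset.sum_apply, map_add, map_sum, map_mul,
          smul_eq_mul, hρ₂, smul_add, Finset.smul_sum, smul_mul_assoc]
      rw [h2, h1, smul_zero]
    refine ⟨ρ₂ 0, fun hmem => hρ0 ?_, ?_⟩
    · have h1 : φ (MvPolynomial.map (algebraMap k₁ k) (MvPolynomial.map (algebraMap B k₁) (ρ₂ 0))) = 0 := by
        rw [MvPolynomial.map_map, show (algebraMap k₁ k).comp (algebraMap B k₁) =
          (algebraMap A k).comp (algebraMap B A) from RingHom.ext hkk, ← MvPolynomial.map_map, hφ]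
        exact Ideal.algebraMap_residueField_eq_zero.2 hmem
      rw [hρ₂, Algebra.smul_def, map_mul, map_mul, mul_eq_zero] at h1
      refine h1.resolve_left ?_
      have hu : IsUnit (algebraMap B (MvPolynomial (Fin n) k₁) aa) := by
        rw [IsScalarTower.algebraMap_apply B k₁ (MvPolynomial (Fin n) k₁)]
        exact (IsUnit.mk0 _ fun h0 => haa (Ideal.algebraMap_residueField_eq_zero.1 h0)).map _
      exact (IsUnit.map φ (hu.map (MvPolynomial.map (algebraMap k₁ k)))).ne_zero
    · rw [← Submodule.Quotient.mk_smul, hq]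
      have h1 : ρ₂ 0 • z = q - ∑ j : Fin b, ρ₂ j.succ • w₁ j := by simp [q]
      rw [h1]
      refine sub_mem (Submodule.mem_sup_right (mem_map_smul_top q ((mapVec_eq_zero_iff_mem q).1 hq0)))
        (Submodule.mem_sup_left (Submodule.sum_mem _ fun j _ => Submodule.smul_mem _ _
          (Submodule.subset_span ⟨j, rfl⟩)))
  obtain ⟨s, hs, hsy⟩ := eq_zero_of_fibre_nzd_noetherian (R := B) (S := MvPolynomial (Fin n) B) (M := M₁)
    r₁ h₁ hnzd₁ (Submodule.Quotient.mk y₁) t₁ ht₁ (by
      rw [← Submodule.Quotient.mk_smul, ← Submodule.Quotient.mk_smul, Submodule.Quotient.mk_eq_zero, hy]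
      exact Submodule.sum_mem _ fun j _ => Submodule.smul_mem _ _ (Submodule.subset_span ⟨j, rfl⟩))
  refine ⟨μ s, hs, ?_⟩
  rw [← Submodule.Quotient.mk_smul, Submodule.Quotient.mk_eq_zero] at hsy
  have := hK₁A _ hsy
  rwa [mapVec_smul] at this


/-- Non-zero-divisors on fibres: the case of a quotient of a free module over a polynomial ring. -/
theorem eq_zero_of_fibre_nzd_poly (K : Submodule (MvPolynomial (Fin n) A) (Fin m → MvPolynomial (Fin n) A))
    (hK : K.FG) [Module.Flat A ((Fin m → MvPolynomial (Fin n) A) ⧸ K)]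
    (r : Ideal (MvPolynomial (Fin n) A)) [r.IsPrime] (h : MvPolynomial (Fin n) A)
    (hnzd : ∀ z : Fin m → MvPolynomial (Fin n) A, ∀ t ∉ r,
      t • h • z ∈ K ⊔ (r.comap (algebraMap A (MvPolynomial (Fin n) A))).map
        (algebraMap A (MvPolynomial (Fin n) A)) • ⊤ →
      ∃ t' ∉ r, t' • z ∈ K ⊔ (r.comap (algebraMap A (MvPolynomial (Fin n) A))).map
        (algebraMap A (MvPolynomial (Fin n) A)) • ⊤)
    (y : Fin m → MvPolynomial (Fin n) A) (t : MvPolynomial (Fin n) A) (ht : t ∉ r) (hy : t • h • y ∈ K) :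
    ∃ t' ∉ r, t' • y ∈ K := by
  classical
  obtain ⟨b, w, hw⟩ := Submodule.fg_iff_exists_fin_generating_family.1 hK
  rw [← hw] at hy
  obtain ⟨c, hc⟩ := (Submodule.mem_span_range_iff_exists_fun _).1 hy
  let G : Set (MvPolynomial (Fin n) A) :=
    (⋃ j, Set.range (w j)) ∪ Set.range y ∪ Set.range c ∪ {h, t}
  have hG : G.Finite :=
    (((Set.finite_iUnion fun j => Set.finite_range (w j)).union (Set.finite_range y)).union
      (Set.finite_range c)).union ((Set.finite_singleton t).insert h)
  let C : Set A := ⋃ q ∈ G, ((q : MvPolynomial (Fin n) A).coeffs : Set A)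
  have hC : C.Finite := hG.biUnion fun q _ => q.coeffs.finite_toSet
  let R₀ : Subalgebra ℤ A := Algebra.adjoin ℤ C
  haveI : IsNoetherianRing R₀ := isNoetherianRing_of_fg (Subalgebra.fg_def.2 ⟨C, hC, rfl⟩)
  have hlift : ∀ q ∈ G, ∃ q₀ : MvPolynomial (Fin n) R₀, MvPolynomial.map (algebraMap R₀ A) q₀ = q := by
    intro q hq
    have h' : q ∈ Set.range (MvPolynomial.map (σ := Fin n) (algebraMap R₀ A)) := by
      rw [MvPolynomial.mem_range_map_iff_coeffs_subset]
      exact fun x hx => ⟨⟨x, Algebra.subset_adjoin (Set.mem_biUnion hq hx)⟩, rfl⟩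
    exact h'
  choose w₀ hw₀ using fun j i => hlift (w j i) (Or.inl (Or.inl (Or.inl (Set.mem_iUnion.2 ⟨j, i, rfl⟩))))
  let N₀ := Submodule.span (MvPolynomial (Fin n) R₀) (Set.range w₀)
  have hN₀ : mapSub A N₀ = K := by
    rw [mapSub_span, ← hw, ← Set.range_comp]
    exact congrArg _ (congrArg Set.range (funext fun j => funext (hw₀ j)))
  obtain ⟨e₀⟩ := nonempty_quotient_baseChange (A := A) N₀
  haveI : Module.Flat A (A ⊗[R₀] ((Fin m → MvPolynomial (Fin n) R₀) ⧸ N₀)) :=
    Module.Flat.of_linearEquiv (e₀.trans ((Submodule.quotEquivOfEq _ _ hN₀).restrictScalars A))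
  obtain ⟨B, hB, hflat⟩ := FlatH4.exists_subalgebra_flat R₀ A (MvPolynomial (Fin n) R₀)
    ((Fin m → MvPolynomial (Fin n) R₀) ⧸ N₀)
  haveI := hflat B le_rfl hB
  haveI : IsNoetherianRing B := isNoetherianRing_of_fg hB
  obtain ⟨e₁⟩ := nonempty_quotient_baseChange (A := B) N₀
  -- models over `B`
  let μ : MvPolynomial (Fin n) B →+* MvPolynomial (Fin n) A := MvPolynomial.map (algebraMap B A)
  have hμ : Function.Injective μ := MvPolynomial.map_injective _ Subtype.val_injective
  have hμvec : Function.Injective (mapVec A : (Fin m → MvPolynomial (Fin n) B) → _) := fun a b hab =>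
    funext fun i => hμ (congrFun hab i)
  have hcomp : ∀ q : MvPolynomial (Fin n) R₀,
      μ (MvPolynomial.map (algebraMap R₀ B) q) = MvPolynomial.map (algebraMap R₀ A) q := fun q => by
    rw [show μ (MvPolynomial.map (algebraMap R₀ B) q) =
      MvPolynomial.map (algebraMap B A) (MvPolynomial.map (algebraMap R₀ B) q) from rfl, MvPolynomial.map_map]
    congr 1
  have hliftB : ∀ q ∈ G, ∃ q₁, μ q₁ = q := fun q hq => by
    obtain ⟨q₀, rfl⟩ := hlift q hq
    exact ⟨_, hcomp q₀⟩
  choose y₁ hy₁ using fun i => hliftB (y i) (Or.inl (Or.inl (Or.inr ⟨i, rfl⟩)))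
  choose c₁ hc₁ using fun j => hliftB (c j) (Or.inl (Or.inr ⟨j, rfl⟩))
  obtain ⟨h₁, hh₁⟩ := hliftB h (Or.inr (Or.inl rfl))
  obtain ⟨t₁, ht₁⟩ := hliftB t (Or.inr (Or.inr rfl))
  let w₁ : Fin b → Fin m → MvPolynomial (Fin n) B := fun j => mapVec B (w₀ j)
  let K₁ := Submodule.span (MvPolynomial (Fin n) B) (Set.range w₁)
  have hK₁ : mapSub B N₀ = K₁ := by
    rw [mapSub_span, ← Set.range_comp]; rfl
  have hw₁ : ∀ j, mapVec A (w₁ j) = w j := fun j => funext fun i => by
    show μ (MvPolynomial.map (algebraMap R₀ B) (w₀ j i)) = w j i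
    rw [hcomp, hw₀]
  have hy₁' : mapVec A y₁ = y := funext hy₁
  have := eq_zero_of_fibre_nzd_model (B := B) K w₁ (by rw [← hw]; exact congrArg _ (congrArg Set.range (funext hw₁)))
    (by
      rw [show Submodule.span (MvPolynomial (Fin n) B) (Set.range w₁) = K₁ from rfl, ← hK₁]
      exact Module.Flat.of_linearEquiv e₁.symm)
    r h₁ (by rw [show MvPolynomial.map (algebraMap B A) h₁ = h from hh₁]; exact hnzd) y₁ c₁ t₁
    (by rw [show MvPolynomial.map (algebraMap B A) t₁ = t from ht₁]; exact ht) (hμvec (by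
      rw [mapVec_smul, mapVec_smul, hy₁']
      show μ t₁ • μ h₁ • y = _
      rw [ht₁, hh₁, ← hc]
      funext i
      simp only [mapVec, Finset.sum_apply, Pi.smul_apply, smul_eq_mul, map_sum, map_mul]
      exact Finset.sum_congr rfl fun j _ => congrArg₂ (· * ·) (hc₁ j).symm (congrFun (hw₁ j) i).symm))
  rwa [hy₁'] at this

end Groth.Agent.SchDom
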